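import Cfsg.Agent.Lib.OddOrder.S14.Second

/-!
Section 14 of the blueprint, Step A in the configuration: the kernel over `N(U)` does not have index `q`.
-/

set_option autoImplicit false
set_option linter.unusedSectionVars false
set_option linter.style.haveILetI false

namespace CfsgLib.OddOrder.S14

open Cfsg CfsgLib.MinSimpleOdd CfsgLib.CharTheory CfsgLib.Dade CfsgLib.OddOrder.Found CfsgLib.OddOrder.S13
open scoped ComplexConjugate Pointwise

universe u

variable {G : Type u} [Group G] [Fintype G] {S T W₁ W₂ U V : Subgroup G}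

theorem Fourteen.index_ne_q (f : Fourteen S T W₁ W₂ U V) {χ : WLin W₁ W₂ → (G → ℂ)}
    (hχ : IsCyclicTIFamily W₁ W₂ χ) {L : Subgroup G} [Fintype L] (hL : IsCoatom L) (hκ : kappa L = ∅)
    (hUL : U ≤ sigmaCore L) {SL : Finset (L → ℂ)} {τ₁ : (L → ℂ) → (G → ℂ)} {ζ : L → ℂ} {NL : ℕ} {c A B : ℤ}
    (k : KernelPack χ L SL τ₁ ζ NL c A B) {X : Set G} {β P t : G → ℂ} {e N : ℕ} {c' AM BM : ℤ}
    (s : Second f χ (kernelSupp L) X β P t e N c' AM BM) :
    ((sigmaCore L).subgroupOf L).index ≠ Nat.card W₁ := by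
  classical
  intro hidx
  haveI := Fintype.ofFinite S
  have hd := f.pair.primeDade f.imp
  have hp := f.pair.p_prime f.imp
  have hq := f.pair.q_prime f.imp
  have hqo := f.pair.q_odd f.imp
  have hcard : Nat.card (sigmaCore L) = Nat.card W₁ * NL + 1 := hidx ▸ k.card
  have huh : Nat.card U ≤ Nat.card (sigmaCore L) := Nat.le_of_dvd Nat.card_pos (Subgroup.card_dvd_of_le hUL)
  have hdS : Disjoint (kernelSupp L) (dadeSupp (typeA0 S) fun _ => (⊥ : Subgroup G)) := (f.supp_disjoint_S hL hκ).symm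
  rcases s.index with he | he
  · obtain ⟨Z, hZsub, hZS, hZ1, hZc⟩ := s.count he
    have hdZ : Disjoint (kernelSupp L) Z := Set.disjoint_left.mpr fun g hg hgZ => (hZsub hgZ).elim
      (fun hgX => Set.disjoint_left.mp s.disj_L hgX hg)
      fun hgT => Set.disjoint_left.mp (f.supp_disjoint_T hL hκ) hgT hg
    set Y : Set G := kernelSupp L ∪ dadeSupp (typeA0 S) (fun _ => (⊥ : Subgroup G)) ∪ Z with hY
    have hY1 : (1 : G) ∉ Y := by
      rintro ((h1 | h1) | h1)
      · exact one_notMem_kernelSupp f hL h1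
      · exact one_notMem_dadeSupp hd.dade h1
      · exact hZ1 h1
    have hlt : Y.ncard < Nat.card G := by
      rw [← Set.ncard_univ]
      exact Set.ncard_lt_ncard (Set.ssubset_univ_iff.mpr fun e => hY1 (e ▸ Set.mem_univ _)) (Set.toFinite _)
    rw [hY, Set.ncard_union_eq (Set.disjoint_union_left.mpr ⟨hdZ, hZS.symm⟩), Set.ncard_union_eq hdS] at hlt
    have hsum : (Nat.card (kernelSupp L) : ℝ) / Nat.card G +
        (Nat.card (dadeSupp (typeA0 S) fun _ => (⊥ : Subgroup G)) : ℝ) / Nat.card G +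
        (Nat.card Z : ℝ) / Nat.card G < 1 := by
      rw [← add_div, ← add_div, div_lt_one (Nat.cast_pos.mpr Nat.card_pos)]
      simp only [Nat.card_coe_set_eq]
      exact_mod_cast hlt
    have h1 := kernel_measure f.pair.hG hL
    rw [hidx] at h1
    have h2 := A0_measure f.pair f.imp
    refine stepA_count_three (p := (Nat.card W₂ : ℝ)) (q := (Nat.card W₁ : ℝ)) (u := (Nat.card U : ℝ))
      (v := (Nat.card V : ℝ)) (h := (Nat.card (sigmaCore L) : ℝ)) (Nat.cast_pos.mpr Nat.card_pos)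
      (Nat.cast_pos.mpr Nat.card_pos) (Nat.one_le_cast.mpr Nat.card_pos) (Nat.one_le_cast.mpr Nat.card_pos)
      (Nat.cast_le.mpr huh) (P := (Nat.card W₂ : ℝ) ^ Nat.card W₁) (Q := (Nat.card W₁ : ℝ) ^ Nat.card W₂) ?_ ?_ ?_
    · have h2p : 2 * Nat.card W₂ ≤ Nat.card W₂ ^ Nat.card W₁ := calc
        2 * Nat.card W₂ ≤ Nat.card W₂ * Nat.card W₂ := Nat.mul_le_mul_right _ hp.two_le
        _ = Nat.card W₂ ^ 2 := (sq _).symm
        _ ≤ _ := Nat.pow_le_pow_right hp.pos hq.two_le
      exact_mod_cast h2p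
    · have h2q : 2 * Nat.card W₁ ≤ Nat.card W₁ ^ Nat.card W₂ := calc
        2 * Nat.card W₁ ≤ Nat.card W₁ * Nat.card W₁ := Nat.mul_le_mul_right _ hq.two_le
        _ = Nat.card W₁ ^ 2 := (sq _).symm
        _ ≤ _ := Nat.pow_le_pow_right hq.pos hp.two_le
      exact_mod_cast h2q
    · linarith
  · haveI := Fintype.ofFinite (W₂.subgroupOf S →* ℂˣ)
    haveI : Nontrivial (W₂.subgroupOf S →* ℂˣ) := Fintype.one_lt_card_iff_nontrivial.mp (by
      have ec : Fintype.card (W₂.subgroupOf S →* ℂˣ) = Nat.card (W₂.subgroupOf S) := by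
        have := sum_hom_abelian hd.ti.comm₂ 1
        simp at this
        rw [Nat.card_eq_fintype_card]
        exact_mod_cast this
      rw [ec, hd.card₂]
      exact hp.one_lt)
    obtain ⟨b, hb⟩ := exists_ne (1 : W₂.subgroupOf S →* ℂˣ)
    have hDL := k.bridge
    rw [hidx] at hDL
    have hDM := s.bridge
    rw [he] at hDM
    have hq3 : 3 ≤ Nat.card W₁ := by
      obtain ⟨i, hi⟩ := hqo
      have := hq.two_le
      omega
    exact hDL.stepA hDM hχ f.pair.hG.1 hq3 f.q_lt_p hqo k.table s.table k.even (by have := k.two_le; omega) s.two_le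
      (f.pair.sideData f.imp) hb (hcard ▸ huh) s.disj_L.symm
      (fun g hg => dade_eq_zero_of_notMem hd.dade _ (Set.disjoint_left.mp hdS hg))
      (fun g hg => dade_eq_zero_of_notMem hd.dade _ (Set.disjoint_left.mp s.disj_S hg))

end CfsgLib.OddOrder.S14
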