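import Cfsg.Agent.Lib.OddOrder.S14.Bridge

/-!
Section 14 of the blueprint, Step A: a kernel of index `q` leads to a contradiction, either by counting the
disjoint supports or by the exact forms of the three bridges.
-/

set_option autoImplicit false
set_option linter.unusedSectionVars false
set_option linter.style.haveILetI false

namespace CfsgLib.OddOrder.S14

open Cfsg CfsgLib.CharTheory CfsgLib.Dade CfsgLib.OddOrder.Found
open scoped ComplexConjugate

universe u

section Count

variable {G : Type u} [Group G] [Fintype G]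

/-- Disjoint supports missing `1` cover less than the group. -/
theorem supp_count_lt {ι : Type*} [Fintype ι] (As : ι → Set G) (Ls : ι → Subgroup G) [∀ k, Fintype (Ls k)]
    (Rs : ι → G → Subgroup G) (hD : ∀ k, DadeHypothesis (As k) (Ls k) (Rs k))
    (hdisj : Pairwise fun i j => Disjoint (dadeSupp (As i) (Rs i)) (dadeSupp (As j) (Rs j))) :
    ∑ k, (Nat.card (As k) : ℝ) / Nat.card (Ls k) < 1 := by
  classical
  refine lt_of_eq_of_lt (Finset.sum_congr rfl fun k _ => ?_) (sum_mass_lt As Ls Rs hD hdisj isClassFunction_one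
    (classInner_irr_self isIrrCharacter_one) one_ne_zero)
  rw [meanSq, ← card_mem_eq (hD k), div_eq_inv_mul, ← Nat.card_eq_fintype_card]
  congr 1
  rw [Nat.card_eq_fintype_card, Fintype.card_subtype, Finset.card_filter, Nat.cast_sum]
  refine Finset.sum_congr rfl fun w _ => ?_
  by_cases hw : (w : G) ∈ As k
  · rw [if_pos hw, dadeRho_one hw, map_one, Nat.cast_one]
  · rw [if_neg hw, dadeRho_of_notMem hw, map_zero, Nat.cast_zero]

theorem card_sharpSet {L : Subgroup G} (H : Subgroup L) : Nat.card (sharpSet H) = Nat.card H - 1 := by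
  classical
  haveI := Fintype.ofFinite H
  rw [show Nat.card (sharpSet H) = Nat.card {y : H // y ≠ 1} from Nat.card_congr
    (Equiv.ofBijective (fun y : {y : H // y ≠ 1} =>
      (⟨((y.1 : L) : G), y.1, y.1.2, fun e => y.2 (Subtype.ext e), rfl⟩ : sharpSet H))
      ⟨fun a b e => Subtype.ext (Subtype.ext (Subtype.ext (congrArg (fun z : sharpSet H => (z : G)) e :))), fun x => by
        obtain ⟨y, hy, hy1, e⟩ := x.2
        exact ⟨⟨⟨y, hy⟩, fun e' => hy1 (congrArg Subtype.val e')⟩, Subtype.ext e⟩⟩).symm,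
    Nat.card_eq_fintype_card, Nat.card_eq_fintype_card, Fintype.card_subtype_compl, Fintype.card_subtype_eq]

end Count

section Arith

variable {p q u v h : ℝ}

/-- Step A, counting with `T` of type III: the supports of `H#`, `P#`, `T'#` and of the hat. -/
theorem stepA_count_three (hp : 0 < p) (hq : 0 < q) (hu : 1 ≤ u) (hv : 1 ≤ v) (hh : u ≤ h) {P Q : ℝ}
    (hP : 2 * p ≤ P) (hQ : 2 * q ≤ Q)
    (key : (h - 1) / (q * h) + (P - 1) / (P * u * q) + (Q * v - 1) / (Q * v * p) + (q - 1) * (p - 1) / (q * p) < 1) :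
    False := by
  have hP0 : 0 < P := by linarith
  have hQ0 : 0 < Q := by linarith
  have hh0 : 0 < h := by linarith
  have e : (h - 1) / (q * h) + (P - 1) / (P * u * q) + (Q * v - 1) / (Q * v * p) + (q - 1) * (p - 1) / (q * p) =
      1 + (1 + p / u - p / h - p / P / u - q / Q / v) / (p * q) := by
    field_simp
    ring
  have h1 : p / h ≤ p / u := div_le_div_of_nonneg_left hp.le (by linarith) hh
  have h2 : p / P / u ≤ 1 / 2 := by
    refine (div_le_self (by positivity) hu).trans ?_
    rw [div_le_div_iff₀ hP0 (by norm_num)]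
    linarith
  have h3 : q / Q / v ≤ 1 / 2 := by
    refine (div_le_self (by positivity) hv).trans ?_
    rw [div_le_div_iff₀ hQ0 (by norm_num)]
    linarith
  have : 0 ≤ (1 + p / u - p / h - p / P / u - q / Q / v) / (p * q) :=
    div_nonneg (by linarith) (by positivity)
  linarith

/-- Step A, counting with a second kernel of index `p`. -/
theorem stepA_count_two (hp : 0 < p) (hq : 0 < q) (hu : 1 ≤ u) (hv : 1 ≤ v) (hh : u ≤ h) {m : ℝ} (hm : v ≤ m)
    {P Q : ℝ} (hP : 2 * p ≤ P) (hQ : 2 * q ≤ Q)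
    (key : (h - 1) / (q * h) + (m - 1) / (p * m) + (P - 1) / (P * u * q) + (Q - 1) / (Q * v * p) +
      (q - 1) * (p - 1) / (q * p) < 1) : False := by
  have hP0 : 0 < P := by linarith
  have hQ0 : 0 < Q := by linarith
  have hh0 : 0 < h := by linarith
  have hm0 : 0 < m := by linarith
  have e : (h - 1) / (q * h) + (m - 1) / (p * m) + (P - 1) / (P * u * q) + (Q - 1) / (Q * v * p) +
      (q - 1) * (p - 1) / (q * p) =
      1 + (1 + p / u + q / v - p / h - q / m - p / P / u - q / Q / v) / (p * q) := by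
    field_simp
    ring
  have h1 : p / h ≤ p / u := div_le_div_of_nonneg_left hp.le (by linarith) hh
  have h1' : q / m ≤ q / v := div_le_div_of_nonneg_left hq.le (by linarith) hm
  have h2 : p / P / u ≤ 1 / 2 := by
    refine (div_le_self (by positivity) hu).trans ?_
    rw [div_le_div_iff₀ hP0 (by norm_num)]
    linarith
  have h3 : q / Q / v ≤ 1 / 2 := by
    refine (div_le_self (by positivity) hv).trans ?_
    rw [div_le_div_iff₀ hQ0 (by norm_num)]
    linarith
  have : 0 ≤ (1 + p / u + q / v - p / h - q / m - p / P / u - q / Q / v) / (p * q) :=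
    div_nonneg (by linarith) (by positivity)
  linarith

end Arith

section Exact

variable {G : Type u} [Group G] [Fintype G] {W₁ W₂ : Subgroup G} {χ : WLin W₁ W₂ → (G → ℂ)}

theorem Sep.flip {P t P' t' : G → ℂ} (s : Sep P t P' t') : Sep (-P) (t - P) P' t' := by
  refine ⟨?_, ?_, ?_, ?_⟩ <;>
    simp only [classInner_sub_left, show -P = (-1 : ℂ) • P from (neg_one_smul ℂ P).symm, classInner_smul_left,
      s.tt, s.tP, s.Pt, s.PP, sub_self, mul_zero]

namespace IsBridge

variable {X : Set G} {β P t : G → ℂ} {e N : ℕ} {c : ℤ}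

/-- With `N = 2` the coefficient `1` becomes `0` on exchanging the two images. -/
theorem flip (D : IsBridge χ X β P t e 2 1) : IsBridge χ X β (-P) (t - P) e 2 0 := by
  have hn : -P = (-1 : ℂ) • P := (neg_one_smul ℂ P).symm
  have tP : classInner t P = 1 := by rw [← classInner_comm, D.P_t, map_one]
  have hΓ : bridgeGamma β (-P) (t - P) 0 = bridgeGamma β P t 1 := by
    funext g
    simp only [bridgeGamma, Pi.add_apply, Pi.sub_apply, Int.cast_zero, Int.cast_one, zero_smul, one_smul, Pi.zero_apply]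
    ring
  refine ⟨D.supp, fun Y hY => ?_, D.gen, isGenChar_sub D.genT D.genP, isGenChar_neg D.genP, hΓ ▸ D.real,
    D.beta_one, ?_, ?_, D.beta_beta, ?_, ?_, ?_, ?_, ?_, fun ω => ?_, fun ω => ?_⟩ <;>
    simp only [hn, classInner_sub_left, classInner_sub_right, classInner_smul_left, classInner_smul_right, map_neg,
      map_one, D.P_one, D.t_one, D.beta_t, D.beta_P, D.P_P, D.P_t, D.t_t, tP, D.P_eta, D.t_eta]
  all_goals first
    | (rw [D.prop Y hY]; push_cast; ring)
    | (push_cast; ring)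

variable {L : Subgroup G} [Fintype L] {K H : Subgroup L} {A₀ : Set G} {R : G → Subgroup G}
  {h : IsPrimeDade L K H W₁ W₂ A₀ R} {U : Subgroup L} {u : ℕ} {b : W₂.subgroupOf L →* ℂˣ}
  {X' : Set G} {β' P' t' : G → ℂ} {N' : ℕ} {c' : ℤ}

/-- The core of Step A, with the coefficient `0`. -/
theorem stepA_core (D : IsBridge χ X β P t (Nat.card W₁) N 0)
    (D' : IsBridge χ X' β' P' t' (Nat.card W₂ * Nat.card W₁) N' c') (hχ : IsCyclicTIFamily W₁ W₂ χ)
    (hodd : Odd (Nat.card G)) (hq : 3 ≤ Nat.card W₁) (hqp : Nat.card W₁ < Nat.card W₂)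
    (hq_odd : Odd (Nat.card W₁)) {A B AM BM : ℤ} (T : IsTable χ β A B) (T' : IsTable χ β' AM BM)
    (hN : Even N) (hN0 : 0 < N) (hN' : 2 ≤ N') (hAB : A = 1 ∧ B = 0) (S : SideData h U u) (hb : b ≠ 1)
    (hu : u ≤ Nat.card W₁ * N + 1) (hXX : Disjoint X X') (hXS : ∀ g ∈ X, sideBeta h b g = 0)
    (hX'S : ∀ g ∈ X', sideBeta h b g = 0) : False := by
  classical
  haveI := Fintype.ofFinite (WLin W₁ W₂)
  haveI := Fintype.ofFinite (W₁.subgroupOf L →* ℂˣ)
  obtain ⟨rfl, rfl⟩ := hAB
  have hgrid : ((grid (Nat.card W₂) (Nat.card W₁) 1 0 : ℤ) : ℝ) = (Nat.card W₁ : ℝ) - 1 := by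
    simp [grid]
  have hΓ := D.gamma_eq_of_tight h hχ T (by rw [hgrid]; push_cast; linarith)
  have hexp : ∀ Y : G → ℂ, classInner β Y = classInner (fun _ => (1 : ℂ)) Y - classInner t Y +
      ∑ a ∈ (Finset.univ : Finset (W₁.subgroupOf L →* ℂˣ)).erase 1, classInner (χ (h.idx a 1)) Y := by
    intro Y
    have hΓY : classInner (bridgeGamma β P t 0) Y =
        ∑ a ∈ (Finset.univ : Finset (W₁.subgroupOf L →* ℂˣ)).erase 1, classInner (χ (h.idx a 1)) Y := by
      rw [hΓ, classInner_sum_left]
      symm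
      rw [← Finset.sum_image (s := (Finset.univ : Finset (W₁.subgroupOf L →* ℂˣ)).erase 1) (g := fun a => h.idx a 1)
        (f := fun ω => classInner (χ ω) Y) fun a _ a' _ e => (h.idx_eq_iff.mp e).1]
      refine Eq.trans (Finset.sum_congr rfl fun ω hω => ?_) (Finset.sum_subset (fun ω hω => ?_) fun ω hω hω' => ?_)
      · obtain ⟨a, ha, rfl⟩ := Finset.mem_image.mp hω
        rw [classInner_smul_left, T.idx_left h (Finset.ne_of_mem_erase ha), Int.cast_one, one_mul]
      · obtain ⟨a, ha, rfl⟩ := Finset.mem_image.mp hω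
        exact Finset.mem_erase.mpr ⟨h.idx_left_ne_one (Finset.ne_of_mem_erase ha), Finset.mem_univ _⟩
      · obtain ⟨⟨a, d⟩, rfl⟩ := h.idx_bijective.2 ω
        rw [classInner_smul_left]
        by_cases hd : d = 1
        · subst hd
          refine absurd (Finset.mem_image.mpr ⟨a, Finset.mem_erase.mpr ⟨fun ha => ?_, Finset.mem_univ _⟩, rfl⟩) hω'
          exact (Finset.ne_of_mem_erase hω) (by rw [ha]; exact h.idx_one)
        · by_cases ha : a = 1
          · subst ha
            rw [T.idx_right h hd, Int.cast_zero, zero_mul]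
          · rw [T.idx_both h ha hd]
            simp
    conv_lhs => rw [D.beta_eq]
    rw [classInner_add_left, classInner_add_left, classInner_sub_left, classInner_smul_left, Int.cast_zero, zero_mul,
      hΓY]
    ring
  have hzero : ∀ Y : G → ℂ, (∀ g ∈ X, Y g = 0) → classInner β Y = 0 := fun Y hY => by
    simp only [classInner]
    rw [Finset.sum_eq_zero fun g _ => ?_, mul_zero]
    by_cases hg : g ∈ X
    · rw [hY g hg, map_zero, mul_zero]
    · rw [D.supp g hg, zero_mul]
  -- `L` against `S`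
  obtain ⟨cS, hcS⟩ := classInner_genChar_int (S.beta_genChar hb) D.genT
  have hcodd : Odd cS := by
    have := D.side_parity S hb hχ hodd hN hXS T hcS
    rwa [zero_add] at this
  have hcb := D.side_bound S hb hχ hN0 hXS hcS
  have hc1 := one_le_sq (odd_ne_zero hcodd)
  have hun : u = Nat.card W₁ * N + 1 := by
    have h1 : (N : ℤ) * Nat.card W₁ ≤ cS ^ 2 * (N : ℤ) * Nat.card W₁ := by
      rw [mul_assoc]
      exact le_mul_of_one_le_left (by positivity) hc1
    have h2 : ((Nat.card W₁ * N + 1 : ℕ) : ℤ) ≤ (u : ℤ) := by push_cast; linarith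
    exact le_antisymm hu (by exact_mod_cast h2)
  have hn : (u - 1) / Nat.card W₁ = N := by
    rw [hun, Nat.add_sub_cancel, Nat.mul_div_cancel_left _ Nat.card_pos]
  have hPP : meanSq P = (N : ℝ) := Complex.ofReal_injective (by
    rw [← classInner_self_eq_meanSq, D.P_P, Complex.ofReal_natCast])
  have hβS := S.beta_tight (by omega) hb hχ (f := P) D.P_one (fun c _ => D.P_eta _)
    (by rw [hPP]; exact_mod_cast hN0) (by
      rw [hn, hPP, D.prop _ hXS, hcS, map_mul, Complex.normSq_natCast, Complex.normSq_intCast]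
      have : (1 : ℝ) ≤ (cS : ℝ) * cS := by
        rw [← sq]; exact_mod_cast hc1
      exact le_mul_of_one_le_right (by positivity) this)
  rw [D.prop _ hXS, hcS, hPP, Complex.ofReal_natCast, mul_div_cancel_left₀ _ (Nat.cast_ne_zero.mpr hN0.ne')] at hβS
  have hcS1 : cS = 1 := by
    have e := hexp (sideBeta h b)
    rw [hzero _ hXS, Finset.sum_eq_zero fun a ha => ?_, ← classInner_comm (sideBeta h b) t, hcS,
      ← classInner_comm (sideBeta h b) (fun _ => (1 : ℂ)), S.beta_inner_one hb, map_one, map_intCast, add_zero,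
      eq_comm, sub_eq_zero] at e
    · exact_mod_cast e.symm
    · rw [hβS, classInner_add_right, classInner_sub_right, classInner_smul_right, ← hχ.map_one, hχ.orthonormal,
        hχ.orthonormal, if_neg (h.idx_left_ne_one (Finset.ne_of_mem_erase ha)),
        if_neg fun e' => hb ((h.idx_eq_iff.mp e').2).symm, ← classInner_comm P, D.P_eta, map_zero]
      ring
  -- `L` against `M`
  obtain ⟨x, hx⟩ := classInner_genChar_int D'.gen D.genT
  have h1 : 1 - x + ((Nat.card W₁ : ℤ) - 1) * AM = 0 := by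
    have hz : classInner β β' = 0 := hzero _ fun g hg => D'.supp g (Set.disjoint_left.mp hXX hg)
    have e := hexp β'
    rw [hz, Finset.sum_congr rfl fun a ha => show classInner (χ (h.idx a 1)) β' = (AM : ℂ) by
        rw [← classInner_comm, T'.idx_left h (Finset.ne_of_mem_erase ha), map_intCast],
      Finset.sum_const, nsmul_eq_mul, Finset.card_erase_of_mem (Finset.mem_univ _), Finset.card_univ,
      h.ti.card_hom₁, h.card₁, Nat.cast_sub Nat.card_pos, ← classInner_comm β' (fun _ => (1 : ℂ)), D'.beta_one,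
      ← classInner_comm β' t, hx, map_one, map_intCast] at e
    have : ((1 - x + ((Nat.card W₁ : ℤ) - 1) * AM : ℤ) : ℂ) = 0 := by
      push_cast at e ⊢
      linear_combination -e
    exact_mod_cast this
  -- `S` against `M`
  have h2 : 1 - BM + x * (N : ℤ) = 0 := by
    have e : classInner β' (sideBeta h b) = 0 := by
      simp only [classInner]
      rw [Finset.sum_eq_zero fun g _ => ?_, mul_zero]
      by_cases hg : g ∈ X'
      · rw [hX'S g hg, map_zero, mul_zero]
      · rw [D'.supp g hg, zero_mul]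
    rw [hβS, hcS1, Int.cast_one, one_smul, classInner_add_right, classInner_sub_right, D'.beta_one,
      T'.idx_right h hb, D.prop β' (fun g hg => D'.supp g (Set.disjoint_left.mp hXX hg)), hx] at e
    have : ((1 - BM + x * (N : ℤ) : ℤ) : ℂ) = 0 := by
      push_cast
      linear_combination e
    exact_mod_cast this
  have hb' := (D'.bessel h hχ T' (∅ : Finset Unit) (fun _ => 0) (by simp) (by simp) (by simp) (by simp)).trans
    (D'.budget_le hN')
  rw [Finset.sum_empty, add_zero] at hb'
  refine no_second_kernel (p := Nat.card W₂) (q := Nat.card W₁) (A := AM) (B := BM) (c := x) (n := (N : ℤ)) hq hqp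
    (by exact_mod_cast hN) (by exact_mod_cast hN0) h1 h2 ?_ ?_
  · obtain ⟨i, hi⟩ := hq_odd
    refine ⟨(i : ℤ) * AM, ?_⟩
    rw [hi] at h1
    push_cast at h1
    linarith
  · have : ((grid (Nat.card W₂) (Nat.card W₁) AM BM : ℤ) : ℝ) ≤
        (((Nat.card W₂ : ℤ) * Nat.card W₁ - 1 : ℤ) : ℝ) := by
      push_cast at hb' ⊢
      exact hb'
    exact Int.cast_le.mp this

/-- **Step A**: a kernel of index `q` excludes a second one of index `pq`. -/
theorem stepA (D : IsBridge χ X β P t (Nat.card W₁) N c)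
    (D' : IsBridge χ X' β' P' t' (Nat.card W₂ * Nat.card W₁) N' c') (hχ : IsCyclicTIFamily W₁ W₂ χ)
    (hodd : Odd (Nat.card G)) (hq : 3 ≤ Nat.card W₁) (hqp : Nat.card W₁ < Nat.card W₂)
    (hq_odd : Odd (Nat.card W₁)) {A B AM BM : ℤ} (T : IsTable χ β A B) (T' : IsTable χ β' AM BM)
    (hN : Even N) (hN0 : 0 < N) (hN' : 2 ≤ N') (S : SideData h U u) (hb : b ≠ 1)
    (hu : u ≤ Nat.card W₁ * N + 1) (hXX : Disjoint X X') (hXS : ∀ g ∈ X, sideBeta h b g = 0)
    (hX'S : ∀ g ∈ X', sideBeta h b g = 0) : False := by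
  have hN2 : 2 ≤ N := by obtain ⟨k, hk⟩ := hN; omega
  have hb0 := D.bessel h hχ T (∅ : Finset Unit) (fun _ => 0) (by simp) (by simp) (by simp) (by simp)
  rw [Finset.sum_empty, add_zero] at hb0
  have hg : grid (Nat.card W₂) (Nat.card W₁) A B ≤ (Nat.card W₁ : ℤ) - 1 := by
    have : ((grid (Nat.card W₂) (Nat.card W₁) A B : ℤ) : ℝ) ≤ (((Nat.card W₁ : ℤ) - 1 : ℤ) : ℝ) := by
      push_cast
      exact hb0.trans (D.budget_le hN2)
    exact Int.cast_le.mp this
  obtain ⟨rfl, rfl⟩ := grid_le_sub_one (by omega) hqp hg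
  have hle : (Nat.card W₁ : ℝ) - 1 ≤ (Nat.card W₁ : ℝ) - 1 + 2 * c - (c : ℝ) ^ 2 * N := by
    refine le_trans (le_of_eq ?_) hb0
    simp [grid]
  rcases eq_or_lt_of_le hN2 with h2 | h3
  · have hc : c = 0 ∨ c = 1 := by
      subst h2
      have : ((c ^ 2 : ℤ) : ℝ) ≤ ((c : ℤ) : ℝ) := by push_cast at hle ⊢; linarith
      have h' : c ^ 2 ≤ c := Int.cast_le.mp this
      rcases (show c ≤ 0 ∨ c = 1 ∨ 2 ≤ c by omega) with h0 | h0 | h0
      · left; nlinarith
      · exact Or.inr h0
      · nlinarith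
    rcases hc with rfl | rfl
    · exact D.stepA_core D' hχ hodd hq hqp hq_odd T T' hN hN0 hN' ⟨rfl, rfl⟩ S hb hu hXX hXS hX'S
    · subst h2
      exact D.flip.stepA_core D' hχ hodd hq hqp hq_odd T T' hN hN0 hN' ⟨rfl, rfl⟩ S hb hu hXX hXS hX'S
  · obtain rfl := D.budget_eq h3 (by linarith)
    exact D.stepA_core D' hχ hodd hq hqp hq_odd T T' hN hN0 hN' ⟨rfl, rfl⟩ S hb hu hXX hXS hX'S

end IsBridge

end Exact

end CfsgLib.OddOrder.S14
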