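import Cfsg.Agent.Lib.OddOrder.S14.Bridge
import Cfsg.Agent.Lib.OddOrder.S11.Galois

/-!
Section 14 of the blueprint, (L1), (L2), (L5 d): the table of the bridge of a full kernel on a cyclic TI family
whose hat avoids the support, and the Bessel inequality it gives.
-/

set_option autoImplicit false
set_option linter.unusedSectionVars false
set_option linter.style.haveILetI false

namespace CfsgLib.OddOrder.S14

open Cfsg CfsgLib.CharTheory CfsgLib.Dade CfsgLib.OddOrder.Found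
open scoped ComplexConjugate

universe u

variable {G : Type u} [Group G] [Fintype G]
  {L : Subgroup G} [Fintype L] {K H : Subgroup L} {W₁ W₂ : Subgroup G} {A₀ : Set G} {R : G → Subgroup G}
  {χ : WLin W₁ W₂ → (G → ℂ)}
  {A : Set G} {M : Subgroup G} [Fintype M] {RM : G → Subgroup G} {N : Subgroup M} {S : Finset (M → ℂ)}
  {τ₁ : (M → ℂ) → (G → ℂ)}

/-- What is needed of a kernel `(M, N)` met by the cyclic TI family `χ`. -/
structure KernelTable (D : IsKernelData A M RM N S τ₁) (χ : WLin W₁ W₂ → (G → ℂ)) (ζ : M → ℂ) : Prop where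
  mem : ζ ∈ S
  irr : IsIrrCharacter M ζ
  deg : ζ 1 = (N.index : ℂ)
  two : 1 < S.card
  orth : ∀ ξ ∈ S, ∀ ω, classInner (τ₁ ξ) (χ ω) = 0
  hat : ∀ w : ↥(W₁ ⊔ W₂), (w : G) ∉ W₁ → (w : G) ∉ W₂ → (w : G) ∉ dadeSupp A RM

theorem wLinMap_idx (h : IsPrimeDade L K H W₁ W₂ A₀ R) (s : ℂ ≃+* ℂ) (a : W₁.subgroupOf L →* ℂˣ)
    (b : W₂.subgroupOf L →* ℂˣ) : wLinMap s (h.idx a b) = h.idx (wLinMap s a) (wLinMap s b) := by
  refine MonoidHom.ext fun w => Units.ext ?_
  simp [wLinMap_apply, IsPrimeDade.idx_apply, IsPrimeTI.row, IsPrimeTI.col]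

namespace KernelTable

variable {D : IsKernelData A M RM N S τ₁} {ζ : M → ℂ} (k : KernelTable D χ ζ)
include k

theorem galois_mem (s : ℂ ≃+* ℂ) : (fun x => s (ζ x)) ∈ S := by
  haveI := Fintype.ofFinite N
  obtain ⟨θ, hθ, hθ1, -, e⟩ := D.mem k.mem
  rw [← Finset.mem_coe, D.set_eq]
  refine ⟨fun n => s (θ n), isIrr_galois s hθ, fun h0 => hθ1 (funext fun n => s.injective ?_), fun x hx => ?_, ?_⟩
  · rw [congrFun h0 n, map_one]
  · rw [Subgroup.mem_bot] at hx
    rw [show x = 1 from Subtype.ext hx]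
  · rw [← S11.indFun_galois, e]

theorem galois_beta (s : ℂ ≃+* ℂ) :
    (fun g => s (kernelBeta A M RM N ζ g)) = kernelBeta A M RM N ζ + τ₁ ζ - τ₁ (fun x => s (ζ x)) := by
  haveI := D.normal
  have hs := k.galois_mem s
  have hd : (fun x => s (ζ x)) 1 = ζ 1 := by simp only [k.deg, map_natCast]
  have hmem : ζ - (fun x => s (ζ x)) ∈ zspanOn (S : Set (M → ℂ)) {1}ᶜ :=
    ⟨Submodule.sub_mem _ (D.mem_span k.mem) (D.mem_span hs), fun x hx => by
      rw [not_not.mp hx, Pi.sub_apply]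
      exact (congrArg (ζ 1 - ·) hd).trans (sub_self _)⟩
  have hI : (fun x => s (indFun N (fun _ => (1 : ℂ)) x)) = indFun N (fun _ => (1 : ℂ)) := by
    rw [S11.indFun_galois]; simp
  rw [kernelBeta, ← dade_map _ (map_zero s), add_sub_assoc, ← isometryOn_sub D.iso (D.mem_span k.mem) (D.mem_span hs),
    D.agree _ hmem, ← dade_add]
  congr 1
  funext x
  have := congrFun hI x
  simp only [kernelAlpha, Pi.sub_apply, Pi.add_apply, map_sub] at this ⊢
  rw [this]
  ring

theorem coeff_galois (hW : IsSelfNormalizingCyclic W₁ W₂) (hodd : Odd (Nat.card ↥(W₁ ⊔ W₂)))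
    (hχ : IsCyclicTIFamily W₁ W₂ χ) (s : ℂ ≃+* ℂ) (ω : WLin W₁ W₂) :
    classInner (kernelBeta A M RM N ζ) (χ (wLinMap s ω)) = classInner (kernelBeta A M RM N ζ) (χ ω) := by
  have e := classInner_galois s (D.isGenChar_beta k.mem k.deg) (cycFamily_signed hχ ω)
  rw [k.galois_beta s, cycFamily_galois hW hodd hχ, classInner_sub_left, classInner_add_left, k.orth _ k.mem,
    k.orth _ (k.galois_mem s)] at e
  rw [← e]
  ring

section Indexed

variable (h : IsPrimeDade L K H W₁ W₂ A₀ R)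
include h

theorem beta_additive (hχ : IsCyclicTIFamily W₁ W₂ χ) (a : W₁.subgroupOf L →* ℂˣ) (b : W₂.subgroupOf L →* ℂˣ) :
    classInner (kernelBeta A M RM N ζ) (χ (h.idx a b)) + 1 =
      classInner (kernelBeta A M RM N ζ) (χ (h.idx a 1)) + classInner (kernelBeta A M RM N ζ) (χ (h.idx 1 b)) := by
  have h1 : classInner (kernelBeta A M RM N ζ) (χ (h.idx 1 1)) = 1 := by
    rw [h.idx_one, hχ.map_one, D.classInner_beta_one k.mem k.deg]
  rw [← h1]
  exact h.table_additive hχ (isGenChar_iff_coeff_int.mp (D.isGenChar_beta k.mem k.deg)).1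
    (fun w w1 w2 => dade_eq_zero_of_notMem D.dade _ (k.hat w w1 w2)) a 1 b 1

/-- **(L1)** The table of the bridge: `A` at `(a,1)`, `B` at `(1,b)`, `A + B - 1` elsewhere. -/
theorem exists_table (hχ : IsCyclicTIFamily W₁ W₂ χ) (hp₁ : (Nat.card W₁).Prime) (hp₂ : (Nat.card W₂).Prime) :
    ∃ a₀ b₀ : ℤ, IsTable χ (kernelBeta A M RM N ζ) a₀ b₀ := by
  classical
  haveI := Fintype.ofFinite (W₁.subgroupOf L →* ℂˣ)
  haveI := Fintype.ofFinite (W₂.subgroupOf L →* ℂˣ)
  have hg := D.isGenChar_beta k.mem k.deg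
  have hc2 : Fintype.card (W₂.subgroupOf L →* ℂˣ) = Nat.card (W₂.subgroupOf L) := by
    have := sum_hom_abelian h.ti.comm₂ 1
    simp at this
    rw [Nat.card_eq_fintype_card]
    exact_mod_cast this
  haveI : Nontrivial (W₁.subgroupOf L →* ℂˣ) := Fintype.one_lt_card_iff_nontrivial.mp
    (by rw [h.ti.card_hom₁]; have := h.ti.three_le₁; omega)
  haveI : Nontrivial (W₂.subgroupOf L →* ℂˣ) := Fintype.one_lt_card_iff_nontrivial.mp
    (by rw [hc2]; have := h.ti.three_le₂; omega)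
  obtain ⟨a', ha'⟩ := exists_ne (1 : W₁.subgroupOf L →* ℂˣ)
  obtain ⟨b', hb'⟩ := exists_ne (1 : W₂.subgroupOf L →* ℂˣ)
  obtain ⟨a₀, ha₀⟩ := classInner_genChar_int hg (cycFamily_signed hχ (h.idx a' 1))
  obtain ⟨b₀, hb₀⟩ := classInner_genChar_int hg (cycFamily_signed hχ (h.idx 1 b'))
  have hA : ∀ a, a ≠ 1 → classInner (kernelBeta A M RM N ζ) (χ (h.idx a 1)) = (a₀ : ℂ) := fun a ha => by
    obtain ⟨s, -, hs⟩ := S11.exists_wLinMap (N := 1) one_ne_zero hp₁ h.card₁ (Nat.coprime_one_right _) ha' ha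
    have e := k.coeff_galois h.selfNormG h.oddW hχ s (h.idx a' 1)
    rw [wLinMap_idx, hs, S11.wLinMap_one] at e
    rw [e, ha₀]
  have hB : ∀ b, b ≠ 1 → classInner (kernelBeta A M RM N ζ) (χ (h.idx 1 b)) = (b₀ : ℂ) := fun b hb => by
    obtain ⟨s, -, hs⟩ := S11.exists_wLinMap (N := 1) one_ne_zero hp₂ h.card₂ (Nat.coprime_one_right _) hb' hb
    have e := k.coeff_galois h.selfNormG h.oddW hχ s (h.idx 1 b')
    rw [wLinMap_idx, hs, S11.wLinMap_one] at e
    rw [e, hb₀]
  refine ⟨a₀, b₀, IsTable.of_idx h hA hB fun a b ha hb => ?_⟩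
  have e := k.beta_additive h hχ a b
  rw [hA a ha, hB b hb] at e
  push_cast
  linear_combination e

end Indexed

/-- **(L2)** The bridge of a full kernel. -/
theorem exists_bridge (hirr : ∀ ξ ∈ S, IsIrrCharacter M ξ)
    (hconj : ∀ ξ ∈ S, τ₁ (conjFun ξ) = conjFun (τ₁ ξ)) {m : ℕ} (hm : Nat.card N = N.index * m + 1) :
    ∃ c : ℤ, IsBridge χ (dadeSupp A RM) (kernelBeta A M RM N ζ) (kernelDegSum N S τ₁) (τ₁ ζ) N.index m c := by
  classical
  haveI := D.normal
  have hi : (N.index : ℂ) ≠ 0 := Nat.cast_ne_zero.mpr Subgroup.index_ne_zero_of_finite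
  obtain ⟨c, hc, hc'⟩ := D.exists_coeff k.mem k.irr k.deg
  obtain ⟨g1, g2, -⟩ := D.gamma_facts k.mem k.irr k.deg k.two hc hc'
  have hPP : classInner (kernelDegSum N S τ₁) (kernelDegSum N S τ₁) = (m : ℂ) := by
    rw [D.classInner_degSum_self, hm, Nat.cast_add, Nat.cast_mul, Nat.cast_one, add_sub_cancel_right,
      mul_div_cancel_left₀ _ hi]
  have hPt : classInner (kernelDegSum N S τ₁) (τ₁ ζ) = 1 := by
    rw [D.classInner_degSum k.mem, k.deg, div_self hi]
  have hP1 : classInner (kernelDegSum N S τ₁) (fun _ => 1) = 0 := by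
    rw [kernelDegSum, classInner_sum_left]
    exact Finset.sum_eq_zero fun ξ hξ => by
      rw [classInner_smul_left, D.image_orth_one k.mem k.irr k.deg k.two hξ, mul_zero]
  refine ⟨c, fun g hg => dade_eq_zero_of_notMem D.dade _ hg, fun Y hY => ?_, D.isGenChar_beta k.mem k.deg,
    D.iso.2.2.2 _ (D.mem_span k.mem), ?_, (kernelGamma_real D hirr hconj k.mem k.deg c).1,
    D.classInner_beta_one k.mem k.deg, hP1, D.image_orth_one k.mem k.irr k.deg k.two k.mem,
    D.classInner_beta_self k.mem k.irr k.deg, hc, ?_, hPP, hPt,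
    by rw [D.classInner_image k.mem k.mem, if_pos rfl, classInner_irr_self k.irr], fun ω => ?_, k.orth ζ k.mem⟩
  · have hprop : ∀ ξ ∈ S, classInner Y (τ₁ ξ) = classInner Y (τ₁ ζ) * (ξ 1 / (N.index : ℂ)) := fun ξ hξ => by
      obtain ⟨d, hd⟩ := char_one_eq_natCast (inducedAbove_isCharacter N (D.mem hξ))
      have hmem := deg_comb_mem (Finset.mem_coe.mpr hξ) (Finset.mem_coe.mpr k.mem) hd k.deg
      have e : classInner Y (dadeIsometry A M RM ((N.index : ℤ) • ξ - (d : ℤ) • ζ)) = 0 := by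
        simp only [classInner]
        rw [Finset.sum_eq_zero fun g _ => ?_, mul_zero]
        by_cases hg : g ∈ dadeSupp A RM
        · rw [hY g hg, zero_mul]
        · rw [dade_eq_zero_of_notMem D.dade _ hg, map_zero, mul_zero]
      rw [← D.agree _ hmem, li_comb D.iso (D.mem_span hξ) (D.mem_span k.mem)] at e
      simp only [classInner_sub_right, classInner_smul_right, Int.cast_natCast, Complex.conj_natCast] at e
      rw [hd, ← mul_div_assoc, eq_div_iff hi]
      linear_combination e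
    rw [kernelDegSum, classInner_sum_right, Finset.sum_congr rfl fun ξ hξ => show
        classInner Y ((ξ 1 / ((N.index : ℂ) * classInner ξ ξ)) • τ₁ ξ) =
          classInner Y (τ₁ ζ) * ((ξ 1 * ξ 1 / classInner ξ ξ) * ((N.index : ℂ) * (N.index : ℂ))⁻¹) by
        rw [classInner_smul_right, hprop ξ hξ, map_div₀, map_mul, map_natCast, (D.natDeg hξ).1, (D.natDeg hξ).2]
        field_simp,
      ← Finset.mul_sum, ← Finset.sum_mul, sum_degree_sq_kernel_index N S D.set_eq, hm, Nat.cast_add, Nat.cast_mul,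
      Nat.cast_one, add_sub_cancel_right]
    field_simp
  · refine isGenChar_sum _ _ fun ξ hξ => ?_
    obtain ⟨d, -, hd⟩ := inducedAbove_degree N (D.mem hξ)
    rw [hd, classInner_irr_self (hirr ξ hξ), mul_one, mul_div_cancel_left₀ _ hi]
    exact_mod_cast isGenChar_intSmul (d : ℤ) (D.iso.2.2.2 _ (D.mem_span hξ))
  · have hΓP : classInner (kernelGamma A M RM N S τ₁ ζ c) (kernelDegSum N S τ₁) = 0 := by
      conv_lhs => arg 2; rw [kernelDegSum]
      rw [classInner_sum_right]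
      exact Finset.sum_eq_zero fun ξ hξ => by rw [classInner_smul_right, g2 ξ hξ, mul_zero]
    rw [kernelGamma, classInner_sub_left, classInner_add_left, classInner_sub_left, classInner_smul_left, hPP,
      ← classInner_comm (kernelDegSum N S τ₁) (fun _ => (1 : ℂ)), hP1, map_zero,
      ← classInner_comm (kernelDegSum N S τ₁) (τ₁ ζ), hPt, map_one] at hΓP
    linear_combination hΓP
  · rw [kernelDegSum, classInner_sum_left]
    exact Finset.sum_eq_zero fun ξ hξ => by rw [classInner_smul_left, k.orth ξ hξ, mul_zero]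

end KernelTable

/-- The images of two kernels with disjoint supports separate their bridges. -/
theorem sep_kernels {A' : Set G} {M' : Subgroup G} [Fintype M'] {R' : G → Subgroup G} {N' : Subgroup M'}
    {S' : Finset (M' → ℂ)} {τ₁' : (M' → ℂ) → (G → ℂ)}
    (horth : ∀ ξ ∈ S, ∀ η ∈ S', classInner (τ₁ ξ) (τ₁' η) = 0) {ζ : M → ℂ} (hζ : ζ ∈ S) {ζ' : M' → ℂ}
    (hζ' : ζ' ∈ S') : Sep (kernelDegSum N S τ₁) (τ₁ ζ) (kernelDegSum N' S' τ₁') (τ₁' ζ') := by
  refine ⟨horth _ hζ _ hζ', ?_, ?_, ?_⟩ <;>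
    simp only [kernelDegSum, classInner_sum_left, classInner_sum_right, classInner_smul_left, classInner_smul_right]
  · exact Finset.sum_eq_zero fun η hη => by rw [horth _ hζ _ hη, mul_zero]
  · exact Finset.sum_eq_zero fun ξ hξ => by rw [horth _ hξ _ hζ', mul_zero]
  · exact Finset.sum_eq_zero fun η hη => by
      rw [Finset.sum_eq_zero fun ξ hξ => by rw [horth _ hξ _ hη, mul_zero], mul_zero]

section SideVector

variable (h : IsPrimeDade L K H W₁ W₂ A₀ R) [Fintype (W₁.subgroupOf L →* ℂˣ)]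

/-- The weighted sum of the images of a part `T` of `S(P)`. -/
noncomputable def sideVec (T : Finset (L → ℂ)) (σ : (L → ℂ) → (G → ℂ)) (q u : ℕ) : G → ℂ :=
  ∑ φ ∈ T, (φ 1 / ((q : ℂ) * u)) • σ φ

/-- **(L5 d)** A function with a table, vanishing on the support of the other side, against the image of a member
of the family of that side. -/
theorem cross_side {β : G → ℂ} {a₀ b₀ : ℤ} (T : IsTable χ β a₀ b₀) {σ : (L → ℂ) → (G → ℂ)}
    (hσ : IsLinearIsometryOn (zspan (indSet K H)) σ)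
    (hagree : ∀ α ∈ zspanOn (indSet K H) {1}ᶜ, σ α = dadeIsometry A₀ L R α)
    (hX : ∀ g ∈ dadeSupp A₀ R, β g = 0) {c d : W₂.subgroupOf L →* ℂˣ} (hc : c ≠ 1) (hd : d ≠ 1)
    {ε : ℂ} (hcol : σ (h.ti.muSum c) = ε • ∑ a : W₁.subgroupOf L →* ℂˣ, χ (h.idx a d))
    {u : ℕ} (hu : h.ti.colChar c 1 = (u : ℂ)) {φ : L → ℂ} (hφ : φ ∈ indSet K H) :
    classInner β (σ φ) * ((Nat.card W₁ : ℂ) * u) = conj ε * φ 1 * ((fval (Nat.card W₁) a₀ b₀ : ℤ) : ℂ) := by
  obtain ⟨n, hn⟩ := char_one_eq_natCast (h.isCharacter_of_mem hφ)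
  have hμ : h.ti.muSum c 1 = ((Nat.card W₁ * u : ℕ) : ℂ) := by
    haveI := h.ti.normal
    haveI := Fintype.ofFinite K
    rw [← h.ti.indFun_colChar, indFun_apply_one, hu, h.ti.index_eq, h.card₁, Nat.cast_mul]
  have hmem := deg_comb_mem hφ (h.muSum_mem_indSet hc) hn hμ
  have e : classInner β (dadeIsometry A₀ L R (((Nat.card W₁ * u : ℕ) : ℤ) • φ - (n : ℤ) • h.ti.muSum c)) = 0 := by
    simp only [classInner]
    rw [Finset.sum_eq_zero fun g _ => ?_, mul_zero]
    by_cases hg : g ∈ dadeSupp A₀ R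
    · rw [hX g hg, zero_mul]
    · rw [dade_eq_zero_of_notMem h.dade _ hg, map_zero, mul_zero]
  rw [← hagree _ hmem, li_comb hσ (Submodule.subset_span hφ) (Submodule.subset_span (h.muSum_mem_indSet hc)), hcol]
    at e
  simp only [classInner_sub_right, classInner_smul_right, classInner_sum_right, Int.cast_natCast,
    Complex.conj_natCast] at e
  rw [T.column_sum h hd, Nat.cast_mul] at e
  rw [hn]
  linear_combination e

/-- The weighted sum of `S(P)`: its norm and its product with a bridge. -/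
theorem sideVec_facts {β : G → ℂ} {a₀ b₀ : ℤ} (Tb : IsTable χ β a₀ b₀) {σ : (L → ℂ) → (G → ℂ)}
    (hσ : IsLinearIsometryOn (zspan (indSet K H)) σ)
    (hagree : ∀ α ∈ zspanOn (indSet K H) {1}ᶜ, σ α = dadeIsometry A₀ L R α)
    (hX : ∀ g ∈ dadeSupp A₀ R, β g = 0) {c d : W₂.subgroupOf L →* ℂˣ} (hc : c ≠ 1) (hd : d ≠ 1)
    {ε : ℂ} (hε : Complex.normSq ε = 1) (hcol : σ (h.ti.muSum c) = ε • ∑ a : W₁.subgroupOf L →* ℂˣ, χ (h.idx a d))
    {u : ℕ} (hu0 : u ≠ 0) (hu : h.ti.colChar c 1 = (u : ℂ))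
    (T : Finset (L → ℂ)) (hT : ∀ φ ∈ T, φ ∈ indSet K H ∧ IsIrrCharacter L φ) {NS : ℕ}
    (hNS : ∑ φ ∈ T, φ 1 * φ 1 = (NS : ℂ) * ((Nat.card W₁ : ℂ) * u) ^ 2) :
    classInner (sideVec T σ (Nat.card W₁) u) (sideVec T σ (Nat.card W₁) u) = (NS : ℂ) ∧
      Complex.normSq (classInner β (sideVec T σ (Nat.card W₁) u)) =
        ((fval (Nat.card W₁) a₀ b₀ : ℤ) : ℝ) ^ 2 * (NS : ℝ) ^ 2 := by
  classical
  have hqu : (Nat.card W₁ : ℂ) * u ≠ 0 :=
    mul_ne_zero (Nat.cast_ne_zero.mpr Nat.card_pos.ne') (Nat.cast_ne_zero.mpr hu0)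
  have hr : ∀ φ ∈ T, conj (φ 1 / ((Nat.card W₁ : ℂ) * u)) = φ 1 / ((Nat.card W₁ : ℂ) * u) := fun φ hφ => by
    obtain ⟨n, hn⟩ := char_one_eq_natCast (h.isCharacter_of_mem (hT φ hφ).1)
    rw [hn, map_div₀, map_mul, map_natCast, map_natCast, map_natCast]
  have hsum : ∑ φ ∈ T, φ 1 * φ 1 / ((Nat.card W₁ : ℂ) * u) ^ 2 = (NS : ℂ) := by
    rw [← Finset.sum_div, hNS, mul_div_cancel_right₀ _ (pow_ne_zero 2 hqu)]
  constructor
  · rw [sideVec, classInner_sum_right, ← hsum]
    refine Finset.sum_congr rfl fun φ hφ => ?_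
    rw [classInner_smul_right, classInner_sum_left, Finset.sum_eq_single_of_mem φ hφ fun ψ hψ hne => by
        rw [classInner_smul_left, hσ.2.2.1 _ (Submodule.subset_span (hT ψ hψ).1) _
          (Submodule.subset_span (hT φ hφ).1), classInner_irr_ne (hT ψ hψ).2 (hT φ hφ).2 hne, mul_zero],
      classInner_smul_left, hσ.2.2.1 _ (Submodule.subset_span (hT φ hφ).1) _ (Submodule.subset_span (hT φ hφ).1),
      classInner_irr_self (hT φ hφ).2, hr φ hφ]
    ring
  · have e : classInner β (sideVec T σ (Nat.card W₁) u) =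
        conj ε * ((fval (Nat.card W₁) a₀ b₀ : ℤ) : ℂ) * (NS : ℂ) := by
      rw [sideVec, classInner_sum_right, ← hsum, Finset.mul_sum]
      refine Finset.sum_congr rfl fun φ hφ => ?_
      rw [classInner_smul_right, hr φ hφ,
        eq_div_of_mul_eq hqu (cross_side h Tb hσ hagree hX hc hd hcol hu (hT φ hφ).1)]
      ring
    rw [e]
    simp only [map_mul, Complex.normSq_conj, hε, Complex.normSq_intCast, Complex.normSq_natCast]
    ring

omit [Fintype (W₁.subgroupOf L →* ℂˣ)] in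
/-- The weighted sum is orthogonal to whatever the images are orthogonal to. -/
theorem sideVec_perp {T : Finset (L → ℂ)} {σ : (L → ℂ) → (G → ℂ)} {q u : ℕ} {f : G → ℂ}
    (hf : ∀ φ ∈ T, classInner (σ φ) f = 0) : classInner (sideVec T σ q u) f = 0 := by
  rw [sideVec, classInner_sum_left]
  exact Finset.sum_eq_zero fun φ hφ => by rw [classInner_smul_left, hf φ hφ, mul_zero]

end SideVector

end CfsgLib.OddOrder.S14
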