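import Cfsg.Agent.Lib.OddOrder.S14.Setup
import Cfsg.Agent.Lib.OddOrder.S14.StepA
import Cfsg.Agent.Lib.OddOrder.S14.TableL

/-!
Section 14 of the blueprint, §4: with an odd table the image of `ζ` vanishes nowhere off the support of `L` on
the elements of order prime to `pq`; counting these elements bounds the kernel of `L`.
-/

set_option autoImplicit false
set_option linter.unusedSectionVars false
set_option linter.style.haveILetI false

namespace CfsgLib.OddOrder.S14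

open Subgroup Cfsg CfsgLib.MinSimpleOdd CfsgLib.CharTheory CfsgLib.Dade CfsgLib.OddOrder.Found CfsgLib.OddOrder.S13
open scoped ComplexConjugate

universe u

variable {G : Type u} [Group G]

section Values

variable [Fintype G]

/-- The value at `g` of a generalized character is fixed by the automorphisms fixing the roots of order
`orderOf g`. -/
theorem fix_genChar_apply {χ : G → ℂ} (hχ : IsGeneralizedCharacter G χ) {s : ℂ ≃+* ℂ} {N : ℕ}
    (hs : S11.FixRoots s N) {g : G} (hg : orderOf g ∣ N) : s (χ g) = χ g := by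
  obtain ⟨a, b, ha, hb, rfl⟩ := hχ
  have key : ∀ {φ : G → ℂ}, IsCharacter G φ → s (φ g) = φ g := fun hφ =>
    S11.fix_char hs (by rwa [Nat.card_zpowers]) (isCharacter_restrict hφ (zpowers g)) ⟨g, mem_zpowers g⟩
  rw [Pi.sub_apply, map_sub, key ha, key hb]

theorem one_add_two_mul_ne_zero {z : ℂ} (hz : IsIntegral ℤ z) : 1 + 2 * z ≠ 0 := by
  intro e
  have e' : z = algebraMap ℚ ℂ (-1 / 2) := by
    have : z = -1 / 2 := by linear_combination e / 2
    simp [this]
  rw [e', isIntegral_algebraMap_iff (algebraMap ℚ ℂ).injective] at hz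
  obtain ⟨n, hn⟩ := (IsIntegrallyClosed.isIntegral_iff).mp hz
  have h2 : ((2 * n + 1 : ℤ) : ℚ) = 0 := by
    simp only [eq_intCast] at hn
    push_cast
    linear_combination 2 * hn
  have : 2 * n + 1 = 0 := by exact_mod_cast h2
  omega

variable {W₁ W₂ : Subgroup G} {χ : WLin W₁ W₂ → (G → ℂ)}
  {L : Subgroup G} [Fintype L] {K H : Subgroup L} {A₀ : Set G} {R : G → Subgroup G}
  (h : IsPrimeDade L K H W₁ W₂ A₀ R)
include h

/-- At an element of order prime to `|W₂|` the family is constant along the rows off the first column. -/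
theorem family_const₂ (hχ : IsCyclicTIFamily W₁ W₂ χ) (hp₁ : (Nat.card W₁).Prime) (hp₂ : (Nat.card W₂).Prime)
    (hne : Nat.card W₁ ≠ Nat.card W₂) {g : G} (hg : (Nat.card W₂).Coprime (orderOf g))
    {a : W₁.subgroupOf L →* ℂˣ} {b b' : W₂.subgroupOf L →* ℂˣ} (hb : b ≠ 1) (hb' : b' ≠ 1) :
    χ (h.idx a b) g = χ (h.idx a b') g := by
  obtain ⟨s, hs, hs'⟩ := S11.exists_wLinMap (N := Nat.card W₁ * orderOf g)
    (mul_ne_zero hp₁.ne_zero (orderOf_pos g).ne') hp₂ h.card₂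
    (Nat.Coprime.mul_right ((Nat.coprime_primes hp₂ hp₁).mpr (Ne.symm hne)) hg) hb hb'
  have e := congrFun (cycFamily_galois h.selfNormG h.oddW hχ s (h.idx a b)) g
  rw [wLinMap_idx, hs', S11.wLinMap_eq_self hs (h.card₁ ▸ dvd_mul_right _ _)] at e
  rw [← e]
  exact (fix_genChar_apply (cycFamily_signed hχ _) hs (dvd_mul_left _ _)).symm

/-- At an element of order prime to `|W₁|` the family is constant along the columns off the first row. -/
theorem family_const₁ (hχ : IsCyclicTIFamily W₁ W₂ χ) (hp₁ : (Nat.card W₁).Prime) (hp₂ : (Nat.card W₂).Prime)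
    (hne : Nat.card W₁ ≠ Nat.card W₂) {g : G} (hg : (Nat.card W₁).Coprime (orderOf g))
    {a a' : W₁.subgroupOf L →* ℂˣ} {b : W₂.subgroupOf L →* ℂˣ} (ha : a ≠ 1) (ha' : a' ≠ 1) :
    χ (h.idx a b) g = χ (h.idx a' b) g := by
  obtain ⟨s, hs, hs'⟩ := S11.exists_wLinMap (N := Nat.card W₂ * orderOf g)
    (mul_ne_zero hp₂.ne_zero (orderOf_pos g).ne') hp₁ h.card₁
    (Nat.Coprime.mul_right ((Nat.coprime_primes hp₁ hp₂).mpr hne) hg) ha ha'
  have e := congrFun (cycFamily_galois h.selfNormG h.oddW hχ s (h.idx a b)) g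
  rw [wLinMap_idx, hs', S11.wLinMap_eq_self hs (h.card₂ ▸ dvd_mul_right _ _)] at e
  rw [← e]
  exact (fix_genChar_apply (cycFamily_signed hχ _) hs (dvd_mul_left _ _)).symm

/-- Off the support the image of `ζ` in a tight bridge with `c = 0` is `1` modulo `2` at the elements of order
prime to `|W₁| |W₂|`. -/
theorem IsBridge.image_ne_zero {X : Set G} {β P t : G → ℂ} {e N : ℕ} (D : IsBridge χ X β P t e N 0)
    (hχ : IsCyclicTIFamily W₁ W₂ χ) {A B : ℤ} (T : IsTable χ β A B)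
    (ht : (e : ℤ) - 1 ≤ grid (Nat.card W₂) (Nat.card W₁) A B) (hp₁ : (Nat.card W₁).Prime)
    (hp₂ : (Nat.card W₂).Prime) (hne : Nat.card W₁ ≠ Nat.card W₂) {g : G} (hg : g ∉ X)
    (hg₁ : (Nat.card W₁).Coprime (orderOf g)) (hg₂ : (Nat.card W₂).Coprime (orderOf g)) : t g ≠ 0 := by
  classical
  haveI := Fintype.ofFinite (WLin W₁ W₂)
  haveI := Fintype.ofFinite (W₁.subgroupOf L →* ℂˣ)
  haveI := Fintype.ofFinite (W₂.subgroupOf L →* ℂˣ)
  have hc2 : Fintype.card (W₂.subgroupOf L →* ℂˣ) = Nat.card W₂ := by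
    have := sum_hom_abelian h.ti.comm₂ 1
    simp at this
    rw [← h.card₂, Nat.card_eq_fintype_card (α := W₂.subgroupOf L)]
    exact_mod_cast this
  have hc1 : Fintype.card (W₁.subgroupOf L →* ℂˣ) = Nat.card W₁ := by rw [h.ti.card_hom₁, h.card₁]
  haveI : Nontrivial (W₁.subgroupOf L →* ℂˣ) := Fintype.one_lt_card_iff_nontrivial.mp (hc1 ▸ hp₁.one_lt)
  haveI : Nontrivial (W₂.subgroupOf L →* ℂˣ) := Fintype.one_lt_card_iff_nontrivial.mp (hc2 ▸ hp₂.one_lt)
  obtain ⟨a₁, ha₁⟩ := exists_ne (1 : W₁.subgroupOf L →* ℂˣ)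
  obtain ⟨b₁, hb₁⟩ := exists_ne (1 : W₂.subgroupOf L →* ℂˣ)
  have hΓ := D.gamma_eq_of_tight h hχ T (by
    have : (((e : ℤ) - 1 : ℤ) : ℝ) ≤ ((grid (Nat.card W₂) (Nat.card W₁) A B : ℤ) : ℝ) := Int.cast_le.mpr ht
    push_cast at this ⊢
    linarith)
  have hval : ∑ ω ∈ (Finset.univ : Finset (WLin W₁ W₂)).erase 1, classInner β (χ ω) * χ ω g =
      ((Nat.card W₁ : ℂ) - 1) * ((A : ℂ) * χ (h.idx a₁ 1) g) + ((Nat.card W₂ : ℂ) - 1) *
        ((B : ℂ) * χ (h.idx 1 b₁) g + ((Nat.card W₁ : ℂ) - 1) * (((A + B - 1 : ℤ) : ℂ) * χ (h.idx a₁ b₁) g)) := by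
    set F : WLin W₁ W₂ → ℂ := fun ω => if ω = 1 then 0 else classInner β (χ ω) * χ ω g with hF
    rw [Finset.sum_congr rfl fun ω hω => show _ = F ω from (if_neg (Finset.ne_of_mem_erase hω)).symm,
      Finset.sum_erase _ (show F 1 = 0 from if_pos rfl),
      ← (Fintype.sum_bijective _ h.idx_bijective (fun p => F (h.idx p.1 p.2)) F fun p => rfl), Fintype.sum_prod_type,
      ← Finset.add_sum_erase _ _ (Finset.mem_univ (1 : W₁.subgroupOf L →* ℂˣ))]
    have hrow1 : ∑ b, F (h.idx 1 b) = ((Nat.card W₂ : ℂ) - 1) * ((B : ℂ) * χ (h.idx 1 b₁) g) := by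
      rw [← Finset.add_sum_erase _ _ (Finset.mem_univ 1), h.idx_one, Finset.sum_congr rfl fun b hb =>
        show _ = (B : ℂ) * χ (h.idx 1 b₁) g by
          simp only [hF]
          rw [if_neg (h.idx_right_ne_one (Finset.ne_of_mem_erase hb)), T.idx_right h (Finset.ne_of_mem_erase hb),
            family_const₂ h hχ hp₁ hp₂ hne hg₂ (Finset.ne_of_mem_erase hb) hb₁]]
      simp only [hF, if_pos trivial, zero_add, Finset.sum_const, nsmul_eq_mul,
        Finset.card_erase_of_mem (Finset.mem_univ _), Finset.card_univ, hc2, Nat.cast_sub Nat.card_pos, Nat.cast_one]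
    have hrow : ∀ a : W₁.subgroupOf L →* ℂˣ, a ≠ 1 → ∑ b, F (h.idx a b) = (A : ℂ) * χ (h.idx a₁ 1) g +
        ((Nat.card W₂ : ℂ) - 1) * (((A + B - 1 : ℤ) : ℂ) * χ (h.idx a₁ b₁) g) := fun a ha => by
      have hne' : ∀ b, h.idx a b ≠ 1 := fun b e => ha (h.idx_eq_iff.mp (e.trans h.idx_one.symm)).1
      rw [← Finset.add_sum_erase _ _ (Finset.mem_univ 1), Finset.sum_congr rfl fun b hb =>
        show _ = ((A + B - 1 : ℤ) : ℂ) * χ (h.idx a₁ b₁) g by
          simp only [hF]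
          rw [if_neg (hne' b), T.idx_both h ha (Finset.ne_of_mem_erase hb),
            family_const₂ h hχ hp₁ hp₂ hne hg₂ (Finset.ne_of_mem_erase hb) hb₁,
            family_const₁ h hχ hp₁ hp₂ hne hg₁ ha ha₁]]
      simp only [hF, if_neg (hne' 1), T.idx_left h ha, family_const₁ h hχ hp₁ hp₂ hne hg₁ ha ha₁, Finset.sum_const,
        nsmul_eq_mul, Finset.card_erase_of_mem (Finset.mem_univ _), Finset.card_univ, hc2, Nat.cast_sub Nat.card_pos,
        Nat.cast_one]
    rw [hrow1, Finset.sum_congr rfl fun a ha => hrow a (Finset.ne_of_mem_erase ha), Finset.sum_const, nsmul_eq_mul,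
      Finset.card_erase_of_mem (Finset.mem_univ _), Finset.card_univ, hc1, Nat.cast_sub Nat.card_pos]
    push_cast
    ring
  have e1 : t g = 1 + bridgeGamma β P t 0 g := by
    have e := congrFun D.beta_eq g
    rw [D.supp g hg] at e
    simp only [Pi.add_apply, Pi.sub_apply, Pi.zero_apply, Int.cast_zero, zero_smul] at e
    linear_combination e
  obtain ⟨i, hi⟩ := h.ti.odd₁
  obtain ⟨j, hj⟩ := h.ti.odd₂
  rw [h.card₁] at hi
  rw [h.card₂] at hj
  have hiC : (Nat.card W₁ : ℂ) - 1 = 2 * (i : ℂ) := by rw [hi]; push_cast; ring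
  have hjC : (Nat.card W₂ : ℂ) - 1 = 2 * (j : ℂ) := by rw [hj]; push_cast; ring
  rw [e1, hΓ, Finset.sum_apply]
  simp only [Pi.smul_apply, smul_eq_mul]
  rw [hval, hiC, hjC]
  have hint : ∀ ω, IsIntegral ℤ (χ ω g) := fun ω => isIntegral_of_genChar (cycFamily_signed hχ ω) g
  have hZ : ∀ n : ℤ, IsIntegral ℤ (n : ℂ) := fun n => by simpa using (isIntegral_algebraMap (R := ℤ) (A := ℂ) (x := n))
  have hN' : ∀ n : ℕ, IsIntegral ℤ (n : ℂ) := fun n => by simpa using hZ n
  have key := one_add_two_mul_ne_zero (z := (i : ℂ) * ((A : ℂ) * χ (h.idx a₁ 1) g) + (j : ℂ) *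
      ((B : ℂ) * χ (h.idx 1 b₁) g + 2 * (i : ℂ) * (((A + B - 1 : ℤ) : ℂ) * χ (h.idx a₁ b₁) g))) ?_
  · intro h0
    refine key ?_
    linear_combination h0
  · refine ((hN' i).mul ((hZ A).mul (hint _))).add ((hN' j).mul (((hZ B).mul (hint _)).add ?_))
    exact (((hN' 2).mul (hN' i)).mul ((hZ _).mul (hint _)))

end Values

theorem card_sharp [Finite G] (H : Subgroup G) : Nat.card ((H : Set G) \ {1} : Set G) = Nat.card H - 1 := by
  rw [Nat.card_coe_set_eq, Set.ncard_sdiff_singleton_of_mem H.one_mem, ← Nat.card_coe_set_eq]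
  rfl

/-- The support of a σ-core is closed under powers prime to the order of the group. -/
theorem sigmaSupp_pow [Finite G] {L : Subgroup G}
    (hD : DadeHypothesis ((sigmaCore L : Set G) \ {1}) L (supportR L)) {x : G}
    (hx : x ∈ dadeSupp ((sigmaCore L : Set G) \ {1}) (supportR L)) {k : ℕ} (hk : k.Coprime (Nat.card G)) :
    x ^ k ∈ dadeSupp ((sigmaCore L : Set G) \ {1}) (supportR L) := by
  obtain ⟨a, ha, u, hu, y, hy⟩ := hx
  have hcomm : Commute a u := (mem_centralizer_singleton_iff.mp (hD.le_centralizer a ha hu)).symm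
  have hinj := (powCoprime hk.symm).injective
  have hc : centralizer ({a ^ k} : Set G) = centralizer ({a} : Set G) := by
    refine le_antisymm (fun c hc => ?_) fun c hc => ?_
    · rw [mem_centralizer_singleton_iff] at hc ⊢
      have h1 : (c * a * c⁻¹) ^ k = a ^ k := by rw [conj_pow, hc, mul_inv_cancel_right]
      have h2 : c * a * c⁻¹ = a := hinj h1
      calc c * a = c * a * c⁻¹ * c := by group
        _ = a * c := by rw [h2]
    · rw [mem_centralizer_singleton_iff] at hc ⊢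
      exact Commute.pow_right hc k
  refine ⟨a ^ k, ⟨pow_mem ha.1 k, fun e => ha.2 (hinj (show a ^ k = (1 : G) ^ k by rw [one_pow]; exact e))⟩,
    u ^ k, ?_, y, by rw [← conj_pow, hy, hcomm.mul_pow]⟩
  have e : supportR L (a ^ k) = supportR L a := by
    unfold supportR
    by_cases h2 : ¬ centralizer ({a} : Set G) ≤ L ∧ ∃! M : Subgroup G, IsCoatom M ∧ centralizer ({a} : Set G) ≤ M
    · have h1 := h2
      rw [← hc] at h1
      rw [dif_pos h1, dif_pos h2]
      exact congr_arg₂ (fun M C => fittingHallOf M ⊓ C)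
        (h1.2.unique (Classical.choose_spec h1.2.exists)
          ⟨(Classical.choose_spec h2.2.exists).1, hc.le.trans (Classical.choose_spec h2.2.exists).2⟩) hc
    · rw [dif_neg (fun h1 => h2 (by rwa [hc] at h1)), dif_neg h2]
  rw [e]
  exact pow_mem hu k

section Pair

variable [Finite G] {S T W₁ W₂ U V : Subgroup G} (h : FTPair S T W₁ W₂ U V) (imp : FTImports G)
include h imp

/-- An element of order divisible by `p` lies in the support of `A₀(S)`. -/
theorem mem_supp_of_dvd (hσ : Nat.card W₂ ∈ sigma S) {g : G} (hg : Nat.card W₂ ∣ orderOf g) :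
    g ∈ dadeSupp (typeA0 S) (fun _ => ⊥) := by
  have hp := h.p_prime imp
  set y := g ^ (orderOf g / Nat.card W₂) with hy
  have hyo : orderOf y = Nat.card W₂ := orderOf_pow_orderOf_div (orderOf_pos g).ne' hg
  obtain ⟨c, hc⟩ := sigma_conj_into h.hG h.hS (Y := zpowers y) (fun e => hp.ne_one (by
      rw [← hyo, ← Nat.card_zpowers, e, card_bot]))
    fun r hr hd => by
      rw [Nat.card_zpowers, hyo, Nat.prime_dvd_prime_iff_eq hr hp] at hd
      exact hd ▸ hσ
  set x := c * g * c⁻¹ with hx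
  set z := c * y * c⁻¹ with hz
  have hzσ : z ∈ sigmaCore S := hc ⟨y, mem_zpowers y, rfl⟩
  have hzo : orderOf z = Nat.card W₂ := by
    rw [hz, ← MulAut.conj_apply, MulEquiv.orderOf_eq, hyo]
  have hz1 : z ≠ 1 := fun e => hp.ne_one (by rw [← hzo, e, orderOf_one])
  have hzS : z ∈ S := piCoreOf_le _ _ hzσ
  have hzP := h.mem_P_of_order imp hzS hzo
  have hxz : x * z = z * x := by
    have : g * y = y * g := (Commute.self_pow g _).eq
    calc x * z = c * (g * y) * c⁻¹ := by rw [hx, hz]; group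
      _ = c * (y * g) * c⁻¹ := by rw [this]
      _ = z * x := by rw [hx, hz]; group
  have hκ : (kappa S).Nonempty := by
    obtain ⟨K, hK⟩ := CfsgLib.exists_isPiHallOf (kappa S) (M := S) (solvable_of_ne_top h.hG h.hS.1)
    obtain ⟨U₀, hKU⟩ := exists_sigmaDecomposition h.hG h.hS (kappaHall_cyclic h.hG h.hS hK) hK
    obtain ⟨hK1, -, -⟩ := typeP_facts h.hG h.hS h.hSP hKU
    obtain ⟨r, hr, hrd⟩ := Nat.exists_prime_and_dvd fun e => hK1 (card_eq_one.mp e)
    exact ⟨r, hK.2.1 r hr hrd⟩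
  have hxS : x ∈ S := S8.core_centralizer_le h.hG imp.frobI h.hS hκ hzσ hz1
    (mem_centralizer_singleton_iff.mpr hxz)
  have hx1 : x ≠ 1 := fun e => hp.ne_one (Nat.dvd_one.mp (by
    rw [conj_eq_one_iff.mp e, orderOf_one] at hg; exact hg))
  refine ⟨x, ?_, 1, one_mem _, c, by rw [mul_one]⟩
  haveI := Fintype.ofFinite G
  haveI := Fintype.ofFinite S
  have P := h.primeDade imp
  by_cases hxK : (⟨x, hxS⟩ : S) ∈ derK S
  · exact P.centralA ⟨x, hxS⟩ hxK (fun e => hx1 (congrArg Subtype.val e)) ⟨z, hzS⟩ (mem_subgroupOf.mpr hzP)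
      (fun e => hz1 (congrArg Subtype.val e)) (Subtype.ext hxz)
  · obtain ⟨m, hmW, hm2⟩ := P.ti.exists_conj_mem hxK
    rw [P.sup_eq_subgroupOf, mem_subgroupOf] at hmW
    rw [mem_subgroupOf] at hm2
    have hxm : ((m : S) : G) * x * (m : G)⁻¹ ∉ W₁ := fun h1 => by
      have hd := orderOf_dvd_natCard (⟨_, h1⟩ : W₁)
      rw [orderOf_mk, ← MulAut.conj_apply, MulEquiv.orderOf_eq, hx, ← MulAut.conj_apply, MulEquiv.orderOf_eq] at hd
      exact h.p_ne_q imp ((Nat.prime_dvd_prime_iff_eq hp (h.q_prime imp)).mp (hg.trans hd))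
    have := P.dade.conj_mem (m : G)⁻¹ (S.inv_mem m.2) _ (P.memV _ hmW hxm hm2)
    simpa [mul_assoc] using this

/-- `S` is at least `|W₁|` times its σ-core. -/
theorem mul_sigmaCore_le (p : KappaPair S W₁ T) : Nat.card W₁ * Nat.card (sigmaCore S) ≤ Nat.card S := by
  have hσ : sigmaCore S ≤ S := piCoreOf_le _ _
  have hW : W₁ ≤ S := p.left.hall.1
  have h1 : (sigmaCore S).relIndex W₁ = Nat.card W₁ := by
    rw [← inf_relIndex_right, inf_comm, decomp_inf h.hG h.hS p.left.hall, relIndex_bot_left]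
  have h2 : (sigmaCore S).relIndex W₁ ≤ (sigmaCore S).relIndex S :=
    relIndex_le_of_le_right hW (fun e => by
      have := card_mul_index ((sigmaCore S).subgroupOf S)
      rw [show ((sigmaCore S).subgroupOf S).index = (sigmaCore S).relIndex S from rfl, e, mul_zero] at this
      exact Nat.card_pos.ne this)
  have h3 : Nat.card (sigmaCore S) * (sigmaCore S).relIndex S = Nat.card S := by
    rw [← relIndex_bot_left (sigmaCore S), relIndex_mul_relIndex _ _ _ bot_le hσ, relIndex_bot_left]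
  rw [← h3, mul_comm]
  exact Nat.mul_le_mul_left _ (h1.symm.le.trans h2)

/-- The Dade hypothesis on the non-identity elements of the σ-core. -/
theorem sharp_dade (hA : typeA0 S = S8.kappaA0 S W₁) :
    DadeHypothesis ((sigmaCore S : Set G) \ {1}) S (fun _ => ⊥) :=
  dadeHypothesis_subset (h.typeA0_dade imp) (fun _ ha => by rw [hA]; exact Or.inl ha) fun x hx a ha =>
    ⟨(mem_normalizer_iff.mp (le_normalizer_sigmaCore h.hG h.hS le_rfl hx) a).mp ha.1,
      fun e => ha.2 (conj_eq_one_iff.mp e)⟩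

/-- The support of `A₀(S) = (S_σ - 1) ∪ Ẑ^S` splits. -/
theorem supp_split (hA : typeA0 S = S8.kappaA0 S W₁) (hW : W₂ = fixedCore S W₁) {g : G}
    (hg : g ∈ dadeSupp (typeA0 S) (fun _ => ⊥)) :
    g ∈ dadeSupp ((sigmaCore S : Set G) \ {1}) (fun _ => ⊥) ∨ g ∈ dadeSupp (hatSet W₁ W₂) (fun _ => ⊥) := by
  obtain ⟨a, ha, r, hr, x, hx⟩ := hg
  rw [hA] at ha
  rcases ha with ha | ⟨m, -, z, hz, rfl⟩
  · exact Or.inl ⟨a, ha, r, hr, x, hx⟩
  rw [← hW] at hz
  refine Or.inr ⟨z, hz, 1, one_mem _, m⁻¹ * x, ?_⟩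
  rw [mem_bot] at hr
  rw [hr, mul_one] at hx
  calc m⁻¹ * x * g * (m⁻¹ * x)⁻¹ = m⁻¹ * (x * g * x⁻¹) * m := by group
    _ = z * 1 := by rw [hx]; group

end Pair

namespace Fourteen

variable {S T W₁ W₂ U V : Subgroup G}

theorem sigmaCore_S [Finite G] (f : Fourteen S T W₁ W₂ U V) : fittingHallOf S = sigmaCore S := by
  obtain ⟨U₀, hKU⟩ := exists_sigmaDecomposition f.pair.hG f.pair.hS f.kpair.cycK f.kpair.left.hall
  have hU := ((Cfsg.Agent.S1381.result f.pair.hG S f.pair.hS W₁ U₀ hKU).mp f.typeII_S).2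
  exact (S9.typeData_two f.pair.hG f.pair.hS hKU f.kpair.left.ne hU).2.1

/-- **§4.** An odd table bounds the kernel of `L`. -/
theorem oddA_bound [Fintype G] (f : Fourteen S T W₁ W₂ U V) {L : Subgroup G} [Fintype L]
    (_hL : IsCoatom L) (_hκ : kappa L = ∅) {SL : Finset (L → ℂ)} {τ₁ : (L → ℂ) → (G → ℂ)}
    (D : IsKernelData ((sigmaCore L : Set G) \ {1}) L (supportR L) ((sigmaCore L).subgroupOf L) SL τ₁)
    {χ : WLin W₁ W₂ → (G → ℂ)} {ζ : L → ℂ} (k : KernelTable D χ ζ) (hirr : ∀ ξ ∈ SL, IsIrrCharacter L ξ)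
    (hconj : ∀ ξ ∈ SL, τ₁ (conjFun ξ) = conjFun (τ₁ ξ)) (hχ : IsCyclicTIFamily W₁ W₂ χ) {NL : ℕ}
    (hm : Nat.card ((sigmaCore L).subgroupOf L) = ((sigmaCore L).subgroupOf L).index * NL + 1)
    (hidx : ((sigmaCore L).subgroupOf L).index = Nat.card W₂ * Nat.card W₁) (hN : 3 ≤ NL) {A B : ℤ}
    (Tb : IsTable χ (kernelBeta ((sigmaCore L : Set G) \ {1}) L (supportR L) ((sigmaCore L).subgroupOf L) ζ) A B)
    (hA : Odd A) (hB : Odd B) :
    Nat.card (sigmaCore L) * ((Nat.card W₂ - 2) * Nat.card U - Nat.card W₂) ≤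
      Nat.card W₂ ^ 2 * Nat.card W₁ ^ 2 * Nat.card U := by
  classical
  haveI := Fintype.ofFinite S
  haveI := Fintype.ofFinite T
  haveI := Fintype.ofFinite ↥(W₁ ⊔ W₂)
  have P := f.pair.primeDade f.imp
  have hp := f.pair.p_prime f.imp
  have hq := f.pair.q_prime f.imp
  have hne : Nat.card W₁ ≠ Nat.card W₂ := f.q_lt_p.ne
  -- the bridge is tight
  obtain ⟨c, Br⟩ := k.exists_bridge hirr hconj hm
  have hgrid : ((Nat.card W₂ * Nat.card W₁ : ℕ) : ℤ) - 1 ≤ grid (Nat.card W₂) (Nat.card W₁) A B := by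
    push_cast
    exact grid_ge_of_odd_odd hp.one_le hq.one_le hA hB
  rw [hidx] at Br
  have hc : c = 0 := Br.budget_eq hN (by
    have hb := Br.bessel P hχ Tb (∅ : Finset Unit) (fun _ => 0) (by simp) (by simp) (by simp) (by simp)
    rw [Finset.sum_empty, add_zero] at hb
    have : ((((Nat.card W₂ * Nat.card W₁ : ℕ) : ℤ) - 1 : ℤ) : ℝ) ≤
        ((grid (Nat.card W₂) (Nat.card W₁) A B : ℤ) : ℝ) := Int.cast_le.mpr hgrid
    push_cast at this hb ⊢
    linarith)
  subst hc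
  set X := dadeSupp ((sigmaCore L : Set G) \ {1}) (supportR L) with hX
  set t := τ₁ ζ with ht
  set G₀ : Finset G := Finset.univ.filter fun g => g ∉ X ∧ (orderOf g).Coprime (Nat.card W₂ * Nat.card W₁) with hG₀
  have htne : ∀ g ∈ G₀, t g ≠ 0 := fun g hg => by
    obtain ⟨hgX, hgo⟩ := (Finset.mem_filter.mp hg).2
    exact IsBridge.image_ne_zero P Br hχ Tb hgrid hq hp hne hgX
      (Nat.Coprime.coprime_dvd_right (dvd_mul_left _ _) hgo).symm
      (Nat.Coprime.coprime_dvd_right (dvd_mul_right _ _) hgo).symm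
  have hclosed : ∀ m : ℕ, m.Coprime (Nat.card G) → ∀ x ∈ G₀, x ^ m ∈ G₀ := fun m hm x hx => by
    obtain ⟨hxX, hxo⟩ := (Finset.mem_filter.mp hx).2
    have hmo : (orderOf x).Coprime m := (hm.coprime_dvd_right (orderOf_dvd_natCard x)).symm
    refine Finset.mem_filter.mpr ⟨Finset.mem_univ _, fun hxm => hxX ?_, by rwa [hmo.orderOf_pow]⟩
    set n := Nat.card G
    have hn : (1 : ℕ) < n := lt_of_lt_of_le hp.one_lt (card_le_card_group W₂)
    obtain ⟨k, -, hk⟩ := Nat.exists_mul_mod_eq_one_of_coprime hm hn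
    have hkn : k.Coprime n := by
      show Nat.gcd k n = 1
      have : Nat.gcd k n ∣ 1 := by
        rw [← hk, Nat.dvd_mod_iff (Nat.gcd_dvd_right k n)]
        exact (Nat.gcd_dvd_left k n).mul_left m
      exact Nat.dvd_one.mp this
    have := sigmaSupp_pow D.dade hxm hkn
    rwa [← pow_mul, ← pow_mod_natCard, hk, pow_one] at this
  -- the mass on the support of `L`
  have hcard0 : Nat.card ((sigmaCore L).subgroupOf L) = Nat.card (sigmaCore L) :=
    Nat.card_congr (subgroupOfEquivOfLe (piCoreOf_le _ _)).toEquiv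
  set hc := Nat.card (sigmaCore L) with hcdef
  have hcL : Nat.card L = hc * (Nat.card W₂ * Nat.card W₁) := by
    rw [← card_mul_index ((sigmaCore L).subgroupOf L), hidx, hcard0]
  have h3pq : 3 * (Nat.card W₂ * Nat.card W₁) + 1 ≤ hc := by
    rw [← hcard0, hm, hidx]
    have := Nat.mul_le_mul_left (Nat.card W₂ * Nat.card W₁) hN
    omega
  have hlow := D.one_sub_le_meanSq k.mem k.irr k.deg (by rw [hidx, hcard0]; omega)
  rw [hidx, hcard0] at hlow
  have htcl : IsClassFunction G t := (isGenChar_iff_coeff_int.mp Br.genT).1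
  have hup := meanSq_dadeRho_le D.dade htcl
  have hsum : ∑ g : G, Complex.normSq (t g) = (Nat.card G : ℝ) := by
    have := Br.t_t
    rw [classInner_self_eq_meanSq, Complex.ofReal_eq_one, meanSq] at this
    rw [Nat.card_eq_fintype_card (α := G)]
    exact ((inv_mul_eq_one₀ (Nat.cast_ne_zero.mpr Fintype.card_pos.ne')).mp this).symm
  have hpc : (G₀.card : ℝ) ≤ ∑ g ∈ G₀, Complex.normSq (t g) :=
    card_le_sum_normSq_of_pow_closed Br.genT G₀ hclosed htne
  have hGpos : (0 : ℝ) < Nat.card G := Nat.cast_pos.mpr Nat.card_pos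
  have hG0 : (G₀.card : ℝ) / Nat.card G ≤ ((Nat.card W₂ * Nat.card W₁ : ℕ) : ℝ) / hc := by
    have h1 : ∑ g ∈ G₀, Complex.normSq (t g) +
        ∑ g ∈ Finset.univ.filter (· ∈ X), Complex.normSq (t g) ≤ ∑ g : G, Complex.normSq (t g) := by
      rw [← Finset.sum_union (Finset.disjoint_left.mpr fun g h1 h2 =>
        (Finset.mem_filter.mp h1).2.1 (Finset.mem_filter.mp h2).2)]
      exact Finset.sum_le_sum_of_subset_of_nonneg (Finset.subset_univ _) fun g _ _ => Complex.normSq_nonneg _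
    have h2 := hlow.trans hup
    rw [inv_mul_eq_div, le_div_iff₀ hGpos] at h2
    rw [div_le_iff₀ hGpos]
    rw [hsum] at h1
    linarith
  -- the rest of the group
  have hA0S := f.typeA0_S
  have hA0T := f.typeA0_T
  have hW₁T : W₁ = fixedCore T W₂ := by
    rw [f.W₂_eq]; exact f.kpair.symm_eq.symm
  have hσS : Nat.card W₂ ∈ sigma S := (sigmaCore_hall f.pair.hG f.pair.hS).1.2.1 _ hp
    (card_dvd_of_le (f.W₂_eq.le.trans inf_le_left))
  have hσT : Nat.card W₁ ∈ sigma T := (sigmaCore_hall f.pair.hG f.pair.hT).1.2.1 _ hq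
    (card_dvd_of_le (hW₁T.le.trans inf_le_left))
  set X₁ := dadeSupp ((sigmaCore S : Set G) \ {1}) (fun _ => ⊥) with hX₁
  set X₂ := dadeSupp ((sigmaCore T : Set G) \ {1}) (fun _ => ⊥) with hX₂
  set X₃ := dadeSupp (hatSet W₁ W₂) (fun _ => (⊥ : Subgroup G)) with hX₃
  have hcover : (Finset.univ : Finset G) ⊆ G₀ ∪ (Finset.univ.filter (· ∈ X) ∪ (Finset.univ.filter (· ∈ X₁) ∪
      (Finset.univ.filter (· ∈ X₂) ∪ Finset.univ.filter (· ∈ X₃)))) := fun g _ => by
    simp only [Finset.mem_union, hG₀, Finset.mem_filter, Finset.mem_univ, true_and]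
    by_cases hgX : g ∈ X
    · exact Or.inr (Or.inl hgX)
    by_cases hgp : Nat.card W₂ ∣ orderOf g
    · rcases supp_split f.pair f.imp hA0S f.W₂_eq (mem_supp_of_dvd f.pair f.imp hσS hgp) with h1 | h1
      · exact Or.inr (Or.inr (Or.inl h1))
      · exact Or.inr (Or.inr (Or.inr (Or.inr h1)))
    by_cases hgq : Nat.card W₁ ∣ orderOf g
    · rcases supp_split f.pair.swap f.imp hA0T hW₁T (mem_supp_of_dvd f.pair.swap f.imp hσT hgq) with h1 | h1
      · exact Or.inr (Or.inr (Or.inr (Or.inl h1)))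
      · obtain ⟨z, hz, r, hr, x, hx⟩ := h1
        obtain ⟨z1, z2, z3⟩ := hatSet_mem.mp hz
        exact Or.inr (Or.inr (Or.inr (Or.inr ⟨z, hatSet_mem.mpr ⟨sup_comm W₂ W₁ ▸ z1, z3, z2⟩, r, hr, x, hx⟩)))
    exact Or.inl ⟨hgX, Nat.Coprime.mul_right (hp.coprime_iff_not_dvd.mpr hgp).symm
      (hq.coprime_iff_not_dvd.mpr hgq).symm⟩
  have hcount := (Finset.card_le_card hcover).trans ((Finset.card_union_le _ _).trans (Nat.add_le_add_left
    ((Finset.card_union_le _ _).trans (Nat.add_le_add_left ((Finset.card_union_le _ _).trans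
      (Nat.add_le_add_left (Finset.card_union_le _ _) _)) _)) _))
  have hfr : ∀ Y : Set G, ((Finset.univ.filter (· ∈ Y)).card : ℝ) = Nat.card Y := fun Y => by
    rw [Nat.card_eq_fintype_card (α := Y), Fintype.card_subtype]
  have dS := sharp_dade f.pair f.imp hA0S
  have dT := sharp_dade f.pair.swap f.imp hA0T
  have key : (1 : ℝ) ≤ (G₀.card : ℝ) / Nat.card G + (Nat.card ((sigmaCore L : Set G) \ {1} : Set G) : ℝ) / Nat.card L +
      (Nat.card ((sigmaCore S : Set G) \ {1} : Set G) : ℝ) / Nat.card S +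
      (Nat.card ((sigmaCore T : Set G) \ {1} : Set G) : ℝ) / Nat.card T +
      (Nat.card (hatSet W₁ W₂) : ℝ) / Nat.card ↥(W₁ ⊔ W₂) := by
    rw [← card_dadeSupp D.dade, ← card_dadeSupp dS, ← card_dadeSupp dT, ← card_dadeSupp (cyclic_dade P.selfNormG),
      ← hX, ← hX₁, ← hX₂, ← hX₃, ← hfr X, ← hfr X₁, ← hfr X₂, ← hfr X₃, ← add_div, ← add_div, ← add_div,
      ← add_div, le_div_iff₀ hGpos, one_mul, Nat.card_eq_fintype_card (α := G), ← Finset.card_univ]
    exact_mod_cast hcount.trans (le_of_eq (by ring))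
  -- the four fractions
  obtain ⟨hcW, hcV⟩ := card_hatSet P.selfNormG
  rw [card_sharp, card_sharp, card_sharp, hcW, hcV, hcL] at key
  have hS1 : ((Nat.card (sigmaCore S) - 1 : ℕ) : ℝ) / Nat.card S ≤ 1 / ((Nat.card U : ℝ) * Nat.card W₁) := by
    rw [← f.sigmaCore_S, (f.pair.typeData f.imp).card_M]
    have hUpos : (0 : ℝ) < Nat.card U := Nat.cast_pos.mpr Nat.card_pos
    have hqpos : (0 : ℝ) < Nat.card W₁ := Nat.cast_pos.mpr Nat.card_pos
    have hPpos : (0 : ℝ) < Nat.card (fittingHallOf S) := Nat.cast_pos.mpr Nat.card_pos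
    push_cast
    rw [div_le_div_iff₀ (by positivity) (by positivity)]
    have : ((Nat.card (fittingHallOf S) - 1 : ℕ) : ℝ) ≤ Nat.card (fittingHallOf S) := Nat.cast_le.mpr (Nat.sub_le _ _)
    calc _ ≤ (Nat.card (fittingHallOf S) : ℝ) * ((Nat.card U : ℝ) * Nat.card W₁) :=
          mul_le_mul_of_nonneg_right this (by positivity)
      _ = _ := by ring
  have hT1 : ((Nat.card (sigmaCore T) - 1 : ℕ) : ℝ) / Nat.card T ≤ 1 / (Nat.card W₂ : ℝ) := by
    rw [div_le_div_iff₀ (Nat.cast_pos.mpr Nat.card_pos) (Nat.cast_pos.mpr Nat.card_pos), one_mul]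
    have := mul_sigmaCore_le f.pair.swap f.imp f.kpair_T
    calc ((Nat.card (sigmaCore T) - 1 : ℕ) : ℝ) * Nat.card W₂ ≤ (Nat.card (sigmaCore T) : ℝ) * Nat.card W₂ :=
          mul_le_mul_of_nonneg_right (Nat.cast_le.mpr (Nat.sub_le _ _)) (Nat.cast_nonneg _)
      _ ≤ _ := by rw [mul_comm]; exact_mod_cast this
  have hp0 : (0 : ℝ) < Nat.card W₂ := Nat.cast_pos.mpr Nat.card_pos
  have hq0 : (0 : ℝ) < Nat.card W₁ := Nat.cast_pos.mpr Nat.card_pos
  have hu0 : (0 : ℝ) < Nat.card U := Nat.cast_pos.mpr Nat.card_pos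
  have hh0 : (0 : ℝ) < hc := Nat.cast_pos.mpr (by omega)
  set p := Nat.card W₂ with hpdef
  set q := Nat.card W₁ with hqdef
  set u := Nat.card U with hudef
  have hL1 : ((hc - 1 : ℕ) : ℝ) / ((hc * (p * q) : ℕ) : ℝ) ≤ 1 / ((p : ℝ) * q) := by
    push_cast
    rw [div_le_div_iff₀ (by positivity) (by positivity), one_mul]
    exact mul_le_mul_of_nonneg_right (Nat.cast_le.mpr (Nat.sub_le _ _)) (by positivity)
  push_cast [Nat.cast_sub hp.one_le, Nat.cast_sub hq.one_le] at key hG0 hL1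
  have h5 : (1 : ℝ) ≤ (p : ℝ) * q / hc + 1 / ((p : ℝ) * q) + 1 / ((u : ℝ) * q) + 1 / p +
      ((q : ℝ) - 1) * ((p : ℝ) - 1) / ((q : ℝ) * p) := by linarith
  have h6 : (hc : ℝ) * (((p : ℝ) - 2) * u - p) ≤ (p : ℝ) ^ 2 * (q : ℝ) ^ 2 * u := by
    have e : (p : ℝ) * q / hc + 1 / ((p : ℝ) * q) + 1 / ((u : ℝ) * q) + 1 / p +
        ((q : ℝ) - 1) * ((p : ℝ) - 1) / ((q : ℝ) * p) - 1 =
        ((p : ℝ) ^ 2 * (q : ℝ) ^ 2 * u - (hc : ℝ) * (((p : ℝ) - 2) * u - p)) / ((hc : ℝ) * p * q * u) := by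
      field_simp
      ring
    have h7 : 0 ≤ ((p : ℝ) ^ 2 * (q : ℝ) ^ 2 * u - (hc : ℝ) * (((p : ℝ) - 2) * u - p)) /
        ((hc : ℝ) * p * q * u) := by rw [← e]; linarith
    rw [le_div_iff₀ (by positivity), zero_mul] at h7
    linarith
  rcases le_total ((p - 2) * u) p with hle | hle
  · rw [Nat.sub_eq_zero_of_le hle, mul_zero]
    exact Nat.zero_le _
  · have : ((hc * ((p - 2) * u - p) : ℕ) : ℝ) ≤ ((p ^ 2 * q ^ 2 * u : ℕ) : ℝ) := by
      rw [Nat.cast_mul, Nat.cast_sub hle, Nat.cast_mul, Nat.cast_sub hp.two_le]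
      push_cast
      exact h6
    exact_mod_cast this

end Fourteen

end CfsgLib.OddOrder.S14
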