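import Cfsg.Agent.Lib.OddOrder.S14.Assembly
import Cfsg.Agent.Lib.OddOrder.S14.OddA
import Cfsg.Agent.Lib.OddOrder.S14.IndexQ

/-!
Section 14 of the blueprint: the configuration of a pair does not exist.
-/

set_option autoImplicit false
set_option linter.unusedSectionVars false

namespace CfsgLib.OddOrder.S14

open Cfsg CfsgLib.MinSimpleOdd CfsgLib.CharTheory CfsgLib.Dade CfsgLib.OddOrder.Found CfsgLib.OddOrder.S13
open scoped ComplexConjugate Pointwise

universe u

variable {G : Type u} [Group G] [Fintype G] {S T W₁ W₂ U V : Subgroup G}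

/-- **Peterfalvi, section 14.** -/
theorem fourteen_false (f : Fourteen S T W₁ W₂ U V) : False := by
  classical
  refine fourteen_false_of f ?_ ?_
  · intro χ hχ L _ hL hκ hUL SL τ₁ ζ NL c A B k
    rcases f.typeT with hII | hIII
    · rcases second_typeII f hII hχ hL hκ with ⟨M, g, hM, -, -, rfl, hidx⟩ | ⟨X, β, P, t, e, N, c', AM, BM, s⟩
      · intro e
        have hp := f.pair.p_prime f.imp
        have hlt := f.q_lt_p
        have hc : ((sigmaCore (MulAut.conj g • L)).subgroupOf (MulAut.conj g • L)).index =
            ((sigmaCore L).subgroupOf L).index := by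
          rw [sigmaCore_conj f.pair.hG hL g]
          exact Subgroup.relIndex_map_map_of_injective _ _ (MulEquiv.injective _)
        rw [hc, e] at hidx
        rcases hidx with h | h
        · omega
        · have := Nat.le_mul_of_pos_right (Nat.card W₂) (Nat.card_pos (α := W₁))
          omega
      · exact f.index_ne_q hχ hL hκ hUL k s
    · obtain ⟨X, β, P, t, e, N, c', AM, BM, s⟩ := f.second_typeIII hIII hχ hL hκ
      exact f.index_ne_q hχ hL hκ hUL k s
  · intro χ hχ L _ hL hκ SL τ₁ ζ NL c A B k hidx hN hA hB
    exact f.oddA_bound hL hκ k.data k.kt k.irr k.tauConj hχ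
      ((Nat.card_congr (Subgroup.subgroupOfEquivOfLe (piCoreOf_le _ _)).toEquiv).trans k.card) hidx hN k.table hA hB

end CfsgLib.OddOrder.S14
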