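import Cfsg.Agent.Lib.OddOrder.S13.Overgroup
import Cfsg.Agent.Lib.OddOrder.S13.Arith
import Cfsg.Agent.Lib.OddOrder.S9a.Model
import Cfsg.Agent.Lib.CharTheory.CyclicTI
import Cfsg.Agent.S1472

/-!
Section 14 of the blueprint, §5: a full `U`, normal in `L`, contradicts Appendix C.
-/

set_option autoImplicit false
set_option linter.unusedSectionVars false

namespace CfsgLib.OddOrder.S14

open Subgroup Cfsg CfsgLib.MinSimpleOdd CfsgLib.OddOrder.S13 CfsgLib.OddOrder.S9

universe u

variable {G : Type u} [Group G] [Finite G]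

/-- A subgroup of a cyclic group keeps the normalizer of the whole. -/
theorem le_normalizer_of_cyclic {H U L : Subgroup G} [IsCyclic H] (hUH : U ≤ H)
    (hL : L ≤ normalizer (H : Set G)) : L ≤ normalizer (U : Set G) := fun g hg => by
  refine mem_normalizer_of_conj fun u hu => ?_
  have hgu : g * u * g⁻¹ ∈ H := (mem_normalizer_iff.mp (hL hg) u).mp (hUH hu)
  set U' := U.map (MulAut.conj g).toMonoidHom with hU'
  have hU'H : U' ≤ H := by
    rintro _ ⟨y, hy, rfl⟩
    exact (mem_normalizer_iff.mp (hL hg) y).mp (hUH hy)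
  have hcard : Nat.card U' = Nat.card U := card_map_of_injective (MulEquiv.injective _)
  have he : U'.subgroupOf H = U.subgroupOf H := by
    refine CfsgLib.CharTheory.cyclic_subgroup_ext ?_
    rw [Nat.card_congr (subgroupOfEquivOfLe hU'H).toEquiv, hcard, Nat.card_congr (subgroupOfEquivOfLe hUH).toEquiv]
  have : (⟨g * u * g⁻¹, hgu⟩ : H) ∈ U'.subgroupOf H := mem_subgroupOf.mpr ⟨u, hu, rfl⟩
  rw [he, mem_subgroupOf] at this
  exact this

variable {S T W₁ W₂ U V : Subgroup G} (h : FTPair S T W₁ W₂ U V) (imp : FTImports G)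
include h imp

/-- A full `U` acts irreducibly. -/
theorem galois_of_full (hC : U ⊓ centralizer (fittingHallOf S : Set G) = ⊥)
    (hfull : Nat.card U = geom (Nat.card W₂) (Nat.card W₁)) : IsGalois (fittingHallOf S) U ⊥ := by
  have k := (h.coreKernel_bot imp).1
  have hidx : (kernelC (fittingHallOf S) U ⊥).relIndex U = Nat.card U := by
    rw [h.kernelC_eq imp, hC, relIndex_bot_left]
  by_contra hgal
  obtain ⟨a, -, ha3, ha2, -, hau, -⟩ := k.nonGalois_facts (h.typeData imp) (h.p_prime imp) (h.card_P' imp) hgal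
  rw [hidx, hfull] at hau
  have hp := (h.p_prime imp).two_le
  have hq := (h.q_prime imp).two_le
  have h1 := Nat.le_of_dvd (pow_pos (by omega) _) hau
  have h2 := pow_pred_le_geom (p := Nat.card W₂) (q := Nat.card W₁) (by omega)
  have h3 : a < Nat.card W₂ := by
    have := Nat.le_of_dvd (by omega) ha2
    omega
  have := Nat.pow_lt_pow_left h3 (show Nat.card W₁ - 1 ≠ 0 by omega)
  omega

/-- **§5.** -/
theorem final_contradiction (hlt : Nat.card W₁ < Nat.card W₂)
    (hC : U ⊓ centralizer (fittingHallOf S : Set G) = ⊥)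
    (hfull : Nat.card U = geom (Nat.card W₂) (Nat.card W₁)) {L : Subgroup G} (hUL : L ≤ normalizer (U : Set G))
    {y : G} (hy : y ∈ fittingHallOf T) (hWL : W₂.map (MulAut.conj y).toMonoidHom ≤ L) : False := by
  have hgal := galois_of_full h imp hC hfull
  have k := (h.coreKernel_bot imp).1
  have d := h.typeData imp
  have hp := h.p_prime imp
  have hker : kernelC (fittingHallOf S) U ⊥ = ⊥ := by rw [h.kernelC_eq imp, hC]
  have hidx : (kernelC (fittingHallOf S) U ⊥).relIndex U = Nat.card U := by rw [hker, relIndex_bot_left]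
  obtain ⟨w, hw, hw1⟩ := d.exists_W1
  obtain ⟨F, _, _, f, ψ, -, hF, -, -, hfmul, hf0, hfsurj, hψ, hψmul, hψ1, -, -, hfix, -⟩ :=
    k.galois_field d hp (h.card_P' imp) hgal hw hw1
  haveI := Fact.mk hp
  haveI := Fact.mk (h.q_prime imp)
  set P := fittingHallOf S with hP
  have hfix' : ∀ x ∈ P, f x ^ Nat.card W₂ = f x → x ∈ W₂ := fun x hx e => by
    obtain ⟨c, hc, hc'⟩ := (hfix x hx).mp e
    rw [mem_bot, inv_mul_eq_one] at hc'
    subst hc'
    exact hc
  have hfone : f 1 = 0 := (hf0 1 P.one_mem).mpr (mem_bot.mpr rfl)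
  have hψone : ∀ u ∈ U, ψ u = 1 → u = 1 := fun u hu e => by
    have := (hψ1 u hu).mp e
    rwa [hker, mem_bot] at this
  have hcop : ((Nat.card W₂ ^ Nat.card W₁ - 1) / (Nat.card W₂ - 1)).Coprime (Nat.card W₂ - 1) := by
    have h1 := (k.galois_facts d hp (h.card_P' imp) hgal).1
    rw [hidx, hfull, geom_eq_div hp.two_le] at h1
    exact h1
  have hUcard : Nat.card U * (Nat.card W₂ - 1) = Nat.card W₂ ^ Nat.card W₁ - 1 := by
    rw [hfull]
    have := geom_mul_pred (p := Nat.card W₂) (q := Nat.card W₁) hp.one_le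
    omega
  have key := Cfsg.Agent.S1472.result (Nat.card W₂) (Nat.card W₁) hcop F hF P U (fittingHallOf T) f ψ
    ⟨fun x _ => Set.mem_univ _, fun a ha b hb e => ?_, fun v _ => ?_⟩ hfmul (d.U_le.trans d.H_normal) hψ hψmul
    (fun a ha b hb e => ?_) hUcard (h.swap.P_comm imp) ?_
    (fun x hx e => ((h.swap.typeData imp).W_le.trans (le_normalizer_fittingHallOf T)) (hfix' x hx e)) y hy
    (fun x hx e => hUL (hWL ⟨x, hfix' x hx e, rfl⟩))
  · exact absurd key (not_le.mpr hlt)
  · have hmem := P.mul_mem (P.inv_mem ha) hb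
    have h1 : f (a⁻¹ * b) = 0 := by
      have h2 := hfmul a ha _ hmem
      rw [mul_inv_cancel_left, ← e] at h2
      linear_combination -h2
    exact inv_mul_eq_one.mp (mem_bot.mp ((hf0 _ hmem).mp h1))
  · obtain ⟨x, hx, hxv⟩ := hfsurj v
    exact ⟨x, hx, hxv⟩
  · have hmem := U.mul_mem (U.inv_mem ha) hb
    refine inv_mul_eq_one.mp (hψone _ hmem ?_)
    have h2 := hψmul a ha _ hmem
    rw [mul_inv_cancel_left, ← e] at h2
    exact (mul_eq_left₀ (hψ a ha).1).mp h2.symm
  · rw [h.swap.card_P imp]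
    exact ((Nat.coprime_primes (h.q_prime imp) hp).mpr (h.p_ne_q imp).symm).pow_left _

end CfsgLib.OddOrder.S14
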