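import Mathlib

/-!
Section 14 of the odd order theorem: the quadratic forms met in the coefficient tables of the bridges.
-/

set_option autoImplicit false

namespace CfsgLib.OddOrder.S14

/-- Norm of the table with entries `A` at `(i,0)`, `B` at `(0,j)`, `A+B-1` elsewhere and `1` at `(0,0)` omitted. -/
def grid (p q : ℕ) (A B : ℤ) : ℤ :=
  ((q : ℤ) - 1) * A ^ 2 + ((p : ℤ) - 1) * B ^ 2 + ((p : ℤ) - 1) * ((q : ℤ) - 1) * (A + B - 1) ^ 2

/-- The same for a table with entry `0` at `(0,0)`. -/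
def grid₀ (p q : ℕ) (A B : ℤ) : ℤ :=
  ((q : ℤ) - 1) * A ^ 2 + ((p : ℤ) - 1) * B ^ 2 + ((p : ℤ) - 1) * ((q : ℤ) - 1) * (A + B) ^ 2

variable {p q : ℕ}

theorem one_le_sq_of_ne_zero {x : ℤ} (h : x ≠ 0) : 1 ≤ x ^ 2 := by
  have := (pow_two_pos_of_ne_zero h : (0 : ℤ) < x ^ 2)
  omega

theorem one_le_sq_of_odd {x : ℤ} (h : Odd x) : 1 ≤ x ^ 2 :=
  one_le_sq_of_ne_zero fun h0 => by rw [h0] at h; exact (Int.not_odd_zero) h

theorem grid_ge_of_odd (hp : 1 ≤ p) (hq : 1 ≤ q) {A B : ℤ} (hB : Odd B) :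
    (p : ℤ) - 1 ≤ grid p q A B := by
  have h1 : (0 : ℤ) ≤ (p : ℤ) - 1 := by omega
  have h2 : (0 : ℤ) ≤ (q : ℤ) - 1 := by omega
  have h3 := one_le_sq_of_odd hB
  have h4 : 0 ≤ ((q : ℤ) - 1) * A ^ 2 := mul_nonneg h2 (sq_nonneg _)
  have h5 : 0 ≤ ((p : ℤ) - 1) * ((q : ℤ) - 1) * (A + B - 1) ^ 2 :=
    mul_nonneg (mul_nonneg h1 h2) (sq_nonneg _)
  have h6 : (p : ℤ) - 1 ≤ ((p : ℤ) - 1) * B ^ 2 := le_mul_of_one_le_right h1 h3
  unfold grid
  linarith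

theorem grid_ge_of_odd_odd (hp : 1 ≤ p) (hq : 1 ≤ q) {A B : ℤ} (hA : Odd A) (hB : Odd B) :
    (p : ℤ) * q - 1 ≤ grid p q A B := by
  have h1 : (0 : ℤ) ≤ (p : ℤ) - 1 := by omega
  have h2 : (0 : ℤ) ≤ (q : ℤ) - 1 := by omega
  have h7 : Odd (A + B - 1) := (hA.add_odd hB).sub_odd odd_one
  have h3 := le_mul_of_one_le_right h2 (one_le_sq_of_odd hA)
  have h4 := le_mul_of_one_le_right h1 (one_le_sq_of_odd hB)
  have h5 := le_mul_of_one_le_right (mul_nonneg h1 h2) (one_le_sq_of_odd h7)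
  unfold grid
  linarith

/-- A grid of norm `pq - 1` with odd entries has all entries of absolute value one. -/
theorem sq_eq_one_of_grid_le (hp : 2 ≤ p) (hq : 2 ≤ q) {A B : ℤ} (hA : Odd A) (hB : Odd B)
    (h : grid p q A B ≤ (p : ℤ) * q - 1) : A ^ 2 = 1 ∧ B ^ 2 = 1 ∧ (A + B - 1) ^ 2 = 1 := by
  have h1 : (0 : ℤ) < (p : ℤ) - 1 := by omega
  have h2 : (0 : ℤ) < (q : ℤ) - 1 := by omega
  have a := one_le_sq_of_odd hA
  have b := one_le_sq_of_odd hB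
  have c := one_le_sq_of_odd ((hA.add_odd hB).sub_odd odd_one)
  unfold grid at h
  refine ⟨le_antisymm ?_ a, le_antisymm ?_ b, le_antisymm ?_ c⟩ <;>
    nlinarith [mul_nonneg h1.le (sub_nonneg.mpr b), mul_nonneg h2.le (sub_nonneg.mpr a),
      mul_nonneg (mul_nonneg h1.le h2.le) (sub_nonneg.mpr c), mul_pos h1 h2]

/-- Step A: with budget `q - 1` the table is the column of the `(i,0)`. -/
theorem grid_le_sub_one (hq : 2 ≤ q) (hqp : q < p) {A B : ℤ} (h : grid p q A B ≤ (q : ℤ) - 1) :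
    A = 1 ∧ B = 0 := by
  have h1 : (q : ℤ) ≤ (p : ℤ) - 1 := by omega
  have h2 : (1 : ℤ) ≤ (q : ℤ) - 1 := by omega
  have h4 : 0 ≤ ((q : ℤ) - 1) * A ^ 2 := mul_nonneg (by linarith) (sq_nonneg _)
  have h6 : 0 ≤ ((p : ℤ) - 1) * B ^ 2 := mul_nonneg (by linarith) (sq_nonneg _)
  have h5 : 0 ≤ ((p : ℤ) - 1) * ((q : ℤ) - 1) * (A + B - 1) ^ 2 :=
    mul_nonneg (mul_nonneg (by linarith) (by linarith)) (sq_nonneg _)
  unfold grid at h
  have hB : B = 0 := by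
    by_contra hne
    nlinarith [le_mul_of_one_le_right (show (0 : ℤ) ≤ (p : ℤ) - 1 by linarith) (one_le_sq_of_ne_zero hne)]
  subst hB
  have hs : A + 0 - 1 = 0 := by
    by_contra hne
    nlinarith [le_mul_of_one_le_right (show (0 : ℤ) ≤ ((p : ℤ) - 1) * ((q : ℤ) - 1) by nlinarith)
      (one_le_sq_of_ne_zero hne)]
  exact ⟨by linarith, rfl⟩

/-- Step A: the equations left for a second kernel of index `pq`. -/
theorem no_second_kernel (hq : 3 ≤ q) (hqp : q < p) {A B c n : ℤ} (hn : Even n) (hn0 : 0 < n)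
    (h1 : 1 - c + ((q : ℤ) - 1) * A = 0) (h2 : 1 - B + c * n = 0) (hc : Odd c)
    (h : grid p q A B ≤ (p : ℤ) * q - 1) : False := by
  have hp' : (q : ℤ) + 1 ≤ p := by omega
  have hq' : (3 : ℤ) ≤ q := by omega
  have hn2 : 2 ≤ n := by obtain ⟨k, rfl⟩ := hn; omega
  have hB : B = 1 + c * n := by linarith
  have hBo : Odd B := by rw [hB]; exact odd_one.add_even (hn.mul_left c)
  by_cases hs : A + B - 1 = 0
  · have e : c * (1 + ((q : ℤ) - 1) * n) = 1 := by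
      have : A = -(c * n) := by linarith
      rw [this] at h1; linarith
    rcases Int.eq_one_or_neg_one_of_mul_eq_one' e with ⟨-, h3⟩ | ⟨-, h3⟩ <;> nlinarith
  have hs1 := one_le_sq_of_ne_zero hs
  unfold grid at h
  have hA0 : 0 ≤ ((q : ℤ) - 1) * A ^ 2 := mul_nonneg (by linarith) (sq_nonneg _)
  have hs2 := le_mul_of_one_le_right (show (0 : ℤ) ≤ ((p : ℤ) - 1) * ((q : ℤ) - 1) by nlinarith) hs1
  by_cases hB9 : 9 ≤ B ^ 2
  · nlinarith [mul_le_mul_of_nonneg_left hB9 (show (0 : ℤ) ≤ (p : ℤ) - 1 by linarith)]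
  have hBm : B = 1 ∨ B = -1 := by
    have hl : -3 < B := by nlinarith
    have hu : B < 3 := by nlinarith
    obtain ⟨k, rfl⟩ := hBo
    omega
  have hc0 : c ≠ 0 := fun h0 => by rw [h0] at hc; exact Int.not_odd_zero hc
  rcases hBm with rfl | rfl
  · rcases mul_eq_zero.mp (show c * n = 0 by linarith) with h0 | h0
    · exact hc0 h0
    · omega
  have hcn : c * n = -2 := by linarith
  have hc1 : c = -1 := by
    have hneg : c < 0 := by
      by_contra hge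
      nlinarith [mul_nonneg (not_lt.mp hge) hn0.le]
    have : -1 ≤ c := by
      by_contra hlt
      nlinarith [mul_nonneg (show (0 : ℤ) ≤ -2 - c by omega) hn0.le]
    omega
  subst hc1
  have hA : A < 0 := by nlinarith
  have hq3 : ((q : ℤ) - 1) * (-A) = 2 := by linarith
  have hA1 : A = -1 := by
    by_contra hne
    nlinarith [mul_le_mul_of_nonneg_left (show (2 : ℤ) ≤ -A by omega) (show (0 : ℤ) ≤ (q : ℤ) - 1 by linarith)]
  subst hA1
  nlinarith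

theorem grid₀_sub_nonneg (hq : 1 ≤ q) (hp : 3 ≤ p) (A B : ℤ) : 0 ≤ grid₀ p q A B - 2 * B := by
  have h1 : (2 : ℤ) ≤ (p : ℤ) - 1 := by omega
  have h2 : (0 : ℤ) ≤ (q : ℤ) - 1 := by omega
  have h4 : 0 ≤ ((q : ℤ) - 1) * A ^ 2 := mul_nonneg h2 (sq_nonneg _)
  have h5 : 0 ≤ ((p : ℤ) - 1) * ((q : ℤ) - 1) * (A + B) ^ 2 :=
    mul_nonneg (mul_nonneg (by linarith) h2) (sq_nonneg _)
  have h6 : 2 * B ^ 2 ≤ ((p : ℤ) - 1) * B ^ 2 := mul_le_mul_of_nonneg_right h1 (sq_nonneg _)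
  have h7 : B ≤ B ^ 2 := Int.le_self_sq B
  unfold grid₀
  linarith

theorem grid₀_sub_eq_zero (hq : 3 ≤ q) (hp : 4 ≤ p) {A B : ℤ} (h : grid₀ p q A B - 2 * B ≤ 0) :
    A = 0 ∧ B = 0 := by
  have h1 : (3 : ℤ) ≤ (p : ℤ) - 1 := by omega
  have h2 : (2 : ℤ) ≤ (q : ℤ) - 1 := by omega
  have h5 : 0 ≤ ((p : ℤ) - 1) * ((q : ℤ) - 1) * (A + B) ^ 2 :=
    mul_nonneg (mul_nonneg (by linarith) (by linarith)) (sq_nonneg _)
  have h6 : 3 * B ^ 2 ≤ ((p : ℤ) - 1) * B ^ 2 := mul_le_mul_of_nonneg_right h1 (sq_nonneg _)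
  have h4 : 2 * A ^ 2 ≤ ((q : ℤ) - 1) * A ^ 2 := mul_le_mul_of_nonneg_right h2 (sq_nonneg _)
  have h7 : B ≤ B ^ 2 := Int.le_self_sq B
  unfold grid₀ at h
  have hA : A ^ 2 ≤ 0 := by nlinarith [sq_nonneg B]
  have hB : B ^ 2 ≤ 0 := by nlinarith [sq_nonneg A]
  exact ⟨pow_eq_zero_iff (n := 2) two_ne_zero |>.mp (le_antisymm hA (sq_nonneg _)),
    pow_eq_zero_iff (n := 2) two_ne_zero |>.mp (le_antisymm hB (sq_nonneg _))⟩

end CfsgLib.OddOrder.S14
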