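import Cfsg.Agent.Lib.OddOrder.S13.Arith
import Cfsg.Agent.Lib.OddOrder.S14.Grid

/-!
Section 14 of the blueprint: the numbers produced by the bridges, and elementary lemmas on them.
-/

set_option autoImplicit false

namespace CfsgLib.OddOrder.S14

open CfsgLib.OddOrder.S13

/-- The pairing of the table with a coherent image of `S(P)`. -/
def fval (q : ℕ) (A B : ℤ) : ℤ := B + ((q : ℤ) - 1) * (A + B - 1)

/-- The numbers of the bridges (L1)-(L6): `h`, `m` are the orders of the kernels of `L`, `M`; `NL`, `NM`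
the numbers of irreducibles in their coherent families; `eM` the index of the second kernel; `NS` the
weight of `S(P)`; `A B`, `AM BM` the two tables; `cS d cSM c' d'` the cross coefficients. -/
structure Nums where
  (p q u v h m eM NL NM NS : ℕ)
  (A B AM BM cS d cSM c' d' : ℤ)

/-- The relations between the numbers.  `conj` says that `L` and `M` are conjugate, `Vcyc` is what the
irreducible case gives for `V`. -/
structure Nums.Valid (n : Nums) (conj Vcyc : Prop) : Prop where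
  hp : n.p.Prime
  hq : n.q.Prime
  hq2 : n.q ≠ 2
  hqp : n.q < n.p
  u_gt : 1 < n.u
  u_mod : n.u % n.q = 1
  v_mod : n.v % n.p = 1
  u_shape : n.u ∣ geom n.p n.q ∨ ∃ a, Odd a ∧ a ∣ n.p - 1 ∧ n.u ∣ a ^ (n.q - 1)
  v_shape : (n.v ∣ geom n.q n.p ∧ Vcyc) ∨ ∃ b, b ∣ n.q - 1 ∧ n.v ∣ b ^ (n.p - 1)
  u_full : n.u = geom n.p n.q ∨ 3 * n.u * (n.p - 1) ≤ n.p ^ n.q - 1
  full : n.u = geom n.p n.q ∨ n.v = geom n.q n.p
  h_dvd : n.u ∣ n.h
  h_odd : Odd n.h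
  h_eq : n.h = n.p * n.q * n.NL + 1
  m_ge : n.v ≤ n.m
  m_eq : n.m = n.eM * n.NM + 1
  eM_eq : n.eM = n.p ∨ n.eM = n.p * n.q
  NS_eq : n.NS * n.q * n.u + n.u * (n.p - 1) = n.p ^ n.q - 1
  parS : Odd (n.B + n.cS)
  parT : Odd (n.A + n.d)
  parSM : Odd (n.BM + n.cSM)
  cS_le : n.cS ^ 2 * n.NL * n.q + 1 ≤ (n.u : ℤ)
  d_le : n.d ^ 2 * n.NL * n.p + 1 ≤ (n.v : ℤ)
  cSM_le : n.cSM ^ 2 * n.NM * n.q + 1 ≤ (n.u : ℤ)
  normL : fval n.q n.A n.B ^ 2 * n.NS + grid n.p n.q n.A n.B + 1 ≤ (n.p * n.q : ℕ)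
  normM : fval n.q n.AM n.BM ^ 2 * n.NS + grid n.p n.q n.AM n.BM + 1 ≤ (n.eM : ℤ)
  cases : (conj ∧ n.m = n.h ∧ n.AM = n.A ∧ n.BM = n.B ∧ n.v ∣ n.h) ∨
    (Odd (n.c' + n.d') ∧
      n.c' ^ 2 * n.NL + fval n.q n.AM n.BM ^ 2 * n.NS + grid n.p n.q n.AM n.BM + 1 ≤ (n.eM : ℤ) ∧
      n.d' ^ 2 * n.NM + fval n.q n.A n.B ^ 2 * n.NS + grid n.p n.q n.A n.B + 1 ≤ (n.p * n.q : ℕ))
  oddA : n.u = geom n.p n.q → Odd n.A → n.h ≠ n.u → n.h * ((n.p - 2) * n.u - n.p) ≤ n.p ^ 2 * n.q ^ 2 * n.u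

theorem one_le_sq {x : ℤ} (h : x ≠ 0) : 1 ≤ x ^ 2 := by
  have := mul_self_pos.mpr h
  rw [sq]
  omega

theorem odd_ne_zero {x : ℤ} (h : Odd x) : x ≠ 0 := by
  rintro rfl
  simp at h

theorem grid_nonneg {p q : ℕ} (hp : 1 ≤ p) (hq : 1 ≤ q) (A B : ℤ) : 0 ≤ grid p q A B := by
  have h1 : (0 : ℤ) ≤ (p : ℤ) - 1 := by omega
  have h2 : (0 : ℤ) ≤ (q : ℤ) - 1 := by omega
  unfold grid
  positivity

theorem grid_of_odd {p q : ℕ} (hp : 1 ≤ p) (hq : 1 ≤ q) {A B : ℤ} (hB : Odd B) :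
    (p : ℤ) - 1 ≤ grid p q A B ∧ (Odd A → (p : ℤ) * q - 1 ≤ grid p q A B) := by
  have h1 : (0 : ℤ) ≤ (p : ℤ) - 1 := by omega
  have h2 : (0 : ℤ) ≤ (q : ℤ) - 1 := by omega
  have hB1 := one_le_sq (odd_ne_zero hB)
  have h3 := mul_le_mul_of_nonneg_left hB1 h1
  have h5 : 0 ≤ ((q : ℤ) - 1) * A ^ 2 := by positivity
  have h6 : 0 ≤ ((p : ℤ) - 1) * ((q : ℤ) - 1) * (A + B - 1) ^ 2 := by positivity
  refine ⟨?_, fun hA => ?_⟩
  · unfold grid; linarith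
  · have hAB : A + B - 1 ≠ 0 := by
      obtain ⟨i, rfl⟩ := hA
      obtain ⟨j, rfl⟩ := hB
      omega
    have h7 := mul_le_mul_of_nonneg_left (one_le_sq (odd_ne_zero hA)) h2
    have h8 := mul_le_mul_of_nonneg_left (one_le_sq hAB) (mul_nonneg h1 h2)
    unfold grid
    nlinarith

theorem fval_odd {q : ℕ} (hq : Odd q) {A B : ℤ} (hB : Odd B) : Odd (fval q A B) := by
  obtain ⟨i, rfl⟩ := hq
  obtain ⟨j, rfl⟩ := hB
  refine ⟨j + (i : ℤ) * (A + (2 * j + 1) - 1), ?_⟩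
  unfold fval
  push_cast
  ring

theorem succ_pow_bound {p n : ℕ} (hp : 1 ≤ p) (hn : n ≤ p) : (p + 1) ^ n ≤ 3 * p ^ n := by
  have key : ∀ n ≤ p, (p + 1) ^ n * p ^ 2 ≤ p ^ n * (p ^ 2 + n * p + n ^ 2) := by
    intro n
    induction n with
    | zero => simp
    | succ n ih =>
      intro h
      calc (p + 1) ^ (n + 1) * p ^ 2 = (p + 1) ^ n * p ^ 2 * (p + 1) := by ring
        _ ≤ p ^ n * (p ^ 2 + n * p + n ^ 2) * (p + 1) := Nat.mul_le_mul_right _ (ih (by omega))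
        _ = p ^ n * ((p + 1) * (p ^ 2 + n * p + n ^ 2)) := by ring
        _ ≤ p ^ n * (p * (p ^ 2 + (n + 1) * p + (n + 1) ^ 2)) := Nat.mul_le_mul_left _ (by nlinarith)
        _ = p ^ (n + 1) * (p ^ 2 + (n + 1) * p + (n + 1) ^ 2) := by ring
  refine Nat.le_of_mul_le_mul_right ?_ (pow_pos hp 2)
  calc (p + 1) ^ n * p ^ 2 ≤ p ^ n * (p ^ 2 + n * p + n ^ 2) := key n hn
    _ ≤ p ^ n * (3 * p ^ 2) := Nat.mul_le_mul_left _ (by nlinarith)
    _ = 3 * p ^ n * p ^ 2 := by ring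

/-- `p ^ q ≤ 2 q ^ (p - 1)` for odd `q ≥ 3` and `p ≥ q + 2`. -/
theorem pow_le_two_mul {q p : ℕ} (hq : 3 ≤ q) (hq4 : q ≠ 4) (hp : q + 2 ≤ p) : p ^ q ≤ 2 * q ^ (p - 1) := by
  induction p, hp using Nat.le_induction with
  | base =>
    rw [show q + 2 - 1 = q + 1 by omega]
    rcases eq_or_ne q 3 with rfl | h3
    · norm_num
    · calc (q + 2) ^ q ≤ 3 * (q + 1) ^ q := succ_pow_bound (p := q + 1) (by omega) (by omega)
        _ ≤ 3 * (3 * q ^ q) := Nat.mul_le_mul_left _ (succ_pow_bound (by omega) le_rfl)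
        _ ≤ 2 * q ^ (q + 1) := by
          rw [pow_succ]
          have : 5 ≤ q := by omega
          have := Nat.mul_le_mul_left (q ^ q) this
          omega
  | succ p hp ih =>
    calc (p + 1) ^ q ≤ 3 * p ^ q := succ_pow_bound (by omega) (by omega)
      _ ≤ q * (2 * q ^ (p - 1)) := Nat.mul_le_mul hq ih
      _ = 2 * q ^ (p + 1 - 1) := by
        rw [show p + 1 - 1 = p - 1 + 1 by omega, pow_succ]
        ring

theorem nine_sq_lt {p : ℕ} (hp : 7 ≤ p) : 9 * p ^ 2 < 3 ^ (p - 1) := by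
  induction p, hp using Nat.le_induction with
  | base => norm_num
  | succ p hp ih =>
    rw [show p + 1 - 1 = p - 1 + 1 by omega, pow_succ 3]
    nlinarith

theorem prime_dvd_pow_of_dvd {r a n u : ℕ} (hr : r.Prime) (h : r ∣ u) (hu : u ∣ a ^ n) : r ∣ a :=
  hr.dvd_of_dvd_pow (h.trans hu)

/-- A number all of whose prime divisors are `1` modulo `q` is `1` modulo `q`. -/
theorem mod_eq_one {q D : ℕ} (hq : 1 < q) (hD : D ≠ 0) (h : ∀ r : ℕ, r.Prime → r ∣ D → r % q = 1) : D % q = 1 := by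
  induction D using Nat.strongRecOn with
  | ind D ih =>
    by_cases h1 : D = 1
    · rw [h1, Nat.mod_eq_of_lt hq]
    obtain ⟨r, hr, e, rfl⟩ := Nat.exists_prime_and_dvd h1
    have he : e ≠ 0 := fun e0 => hD (by rw [e0, mul_zero])
    rw [Nat.mul_mod, h r hr (dvd_mul_right r e), ih e ?_ he fun s hs hse => h s hs (hse.mul_left r), one_mul,
      Nat.mod_eq_of_lt hq]
    exact lt_mul_of_one_lt_left (Nat.pos_of_ne_zero he) hr.one_lt

end CfsgLib.OddOrder.S14
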