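import Cfsg.Agent.Lib.OddOrder.S14.BetaS
import Cfsg.Agent.Lib.OddOrder.S14.Grid
import Cfsg.Agent.Lib.OddOrder.S14.Numbers

/-!
Section 14 of the blueprint, (L2), (L3), (L5): the algebra of a bridge `β = 1 - t + c P + Γ`.

A bridge lives on a support `X`; functions vanishing on `X` see the images `P` only through `t`.  Both the bridge
of a full Frobenius kernel and the bridge of a group of type III are of this shape.
-/

set_option autoImplicit false
set_option linter.unusedSectionVars false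
set_option linter.style.haveILetI false

namespace CfsgLib.OddOrder.S14

open Cfsg CfsgLib.CharTheory CfsgLib.Dade CfsgLib.OddOrder.Found
open scoped ComplexConjugate

universe u

variable {G : Type u} [Group G] [Fintype G] {W₁ W₂ : Subgroup G} {χ : WLin W₁ W₂ → (G → ℂ)}

/-- The part of `β` orthogonal to `1`, to `t` and to `P`. -/
noncomputable def bridgeGamma (β P t : G → ℂ) (c : ℤ) : G → ℂ := β - (fun _ => 1) + t - (c : ℂ) • P

/-- A bridge on the support `X`. -/
structure IsBridge (χ : WLin W₁ W₂ → (G → ℂ)) (X : Set G) (β P t : G → ℂ) (e N : ℕ) (c : ℤ) : Prop where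
  supp : ∀ g, g ∉ X → β g = 0
  prop : ∀ Y : G → ℂ, (∀ g ∈ X, Y g = 0) → classInner Y P = (N : ℂ) * classInner Y t
  gen : IsGeneralizedCharacter G β
  genT : IsGeneralizedCharacter G t
  genP : IsGeneralizedCharacter G P
  real : conjFun (bridgeGamma β P t c) = bridgeGamma β P t c
  beta_one : classInner β (fun _ => 1) = 1
  P_one : classInner P (fun _ => 1) = 0
  t_one : classInner t (fun _ => 1) = 0
  beta_beta : classInner β β = (e : ℂ) + 1
  beta_t : classInner β t = (c : ℂ) - 1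
  beta_P : classInner β P = (c : ℂ) * N - 1
  P_P : classInner P P = (N : ℂ)
  P_t : classInner P t = 1
  t_t : classInner t t = 1
  P_eta : ∀ ω, classInner P (χ ω) = 0
  t_eta : ∀ ω, classInner t (χ ω) = 0

/-- The coefficient table of a function: `A` on the characters trivial on `W₂`, `B` on those trivial on `W₁`. -/
structure IsTable (χ : WLin W₁ W₂ → (G → ℂ)) (β : G → ℂ) (A B : ℤ) : Prop where
  left : ∀ ω, ω ≠ 1 → (∀ w : ↥(W₁ ⊔ W₂), (w : G) ∈ W₂ → ω w = 1) → classInner β (χ ω) = (A : ℂ)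
  right : ∀ ω, ω ≠ 1 → (∀ w : ↥(W₁ ⊔ W₂), (w : G) ∈ W₁ → ω w = 1) → classInner β (χ ω) = (B : ℂ)
  both : ∀ ω, ¬ (∀ w : ↥(W₁ ⊔ W₂), (w : G) ∈ W₂ → ω w = 1) → ¬ (∀ w : ↥(W₁ ⊔ W₂), (w : G) ∈ W₁ → ω w = 1) →
    classInner β (χ ω) = ((A + B - 1 : ℤ) : ℂ)

/-- A table read in the swapped indexing. -/
theorem IsTable.swap {β : G → ℂ} {A B : ℤ} (T : IsTable χ β A B) :
    IsTable (fun ω : WLin W₂ W₁ => χ (ω.comp (MulEquiv.subgroupCongr (sup_comm W₁ W₂)).toMonoidHom)) β B A := by
  set e := (MulEquiv.subgroupCongr (sup_comm W₁ W₂) : ↥(W₁ ⊔ W₂) ≃* ↥(W₂ ⊔ W₁)) with he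
  have hne : ∀ ω : WLin W₂ W₁, ω ≠ 1 → ω.comp e.toMonoidHom ≠ 1 := fun ω hω hc =>
    hω ((MonoidHom.cancel_right e.surjective).mp (hc.trans (MonoidHom.one_comp _).symm))
  have hiff : ∀ (ω : WLin W₂ W₁) (U : Subgroup G), (∀ w : ↥(W₂ ⊔ W₁), (w : G) ∈ U → ω w = 1) ↔
      ∀ w : ↥(W₁ ⊔ W₂), (w : G) ∈ U → ω.comp e.toMonoidHom w = 1 := fun ω U =>
    ⟨fun hω w hw => hω (e w) hw, fun hω w hw => by
      have := hω (e.symm w) hw
      simpa using this⟩
  exact ⟨fun ω h0 h1 => T.right _ (hne ω h0) ((hiff ω _).mp h1),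
    fun ω h0 h1 => T.left _ (hne ω h0) ((hiff ω _).mp h1),
    fun ω h1 h2 => by
      rw [show B + A - 1 = A + B - 1 by ring]
      exact T.both _ (fun h' => h2 ((hiff ω _).mpr h')) fun h' => h1 ((hiff ω _).mpr h')⟩

section Indexed

variable {L : Subgroup G} [Fintype L] {K H : Subgroup L} {A₀ : Set G} {R : G → Subgroup G}
  (h : IsPrimeDade L K H W₁ W₂ A₀ R)
include h

theorem idx_trivial₂ {a : W₁.subgroupOf L →* ℂˣ} {b : W₂.subgroupOf L →* ℂˣ}
    (hω : ∀ w : ↥(W₁ ⊔ W₂), (w : G) ∈ W₂ → h.idx a b w = 1) : b = 1 := by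
  refine MonoidHom.ext fun x => ?_
  let wW : ↥(W₁.subgroupOf L ⊔ W₂.subgroupOf L) := ⟨x, Subgroup.mem_sup_right x.2⟩
  have hmem : ((h.wEquiv wW : ↥(W₁ ⊔ W₂)) : G) ∈ W₂ := by rw [h.coe_wEquiv]; exact x.2
  have := hω _ hmem
  rw [h.idx_split, MonoidHom.mul_apply, h.idx_apply₂ a hmem, one_mul, h.idx_apply, MulEquiv.symm_apply_apply,
    h.ti.row_one, h.ti.col_apply₂ b (w := wW) x.2] at this
  simpa using this

theorem idx_trivial₁ {a : W₁.subgroupOf L →* ℂˣ} {b : W₂.subgroupOf L →* ℂˣ}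
    (hω : ∀ w : ↥(W₁ ⊔ W₂), (w : G) ∈ W₁ → h.idx a b w = 1) : a = 1 := by
  refine MonoidHom.ext fun x => ?_
  let wW : ↥(W₁.subgroupOf L ⊔ W₂.subgroupOf L) := ⟨x, Subgroup.mem_sup_left x.2⟩
  have hmem : ((h.wEquiv wW : ↥(W₁ ⊔ W₂)) : G) ∈ W₁ := by rw [h.coe_wEquiv]; exact x.2
  have := hω _ hmem
  rw [h.idx_split, MonoidHom.mul_apply, h.idx_apply₁ b hmem, mul_one, h.idx_apply, MulEquiv.symm_apply_apply,
    h.ti.col_one, h.ti.row_apply₁ a (w := wW) x.2] at this
  simpa using this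

variable {β : G → ℂ} {A B : ℤ}

theorem IsTable.idx_left (T : IsTable χ β A B) {a : W₁.subgroupOf L →* ℂˣ} (ha : a ≠ 1) :
    classInner β (χ (h.idx a 1)) = (A : ℂ) :=
  T.left _ (h.idx_left_ne_one ha) fun _ hw => h.idx_apply₂ a hw

theorem IsTable.idx_right (T : IsTable χ β A B) {b : W₂.subgroupOf L →* ℂˣ} (hb : b ≠ 1) :
    classInner β (χ (h.idx 1 b)) = (B : ℂ) :=
  T.right _ (h.idx_right_ne_one hb) fun _ hw => h.idx_apply₁ b hw

theorem IsTable.idx_both (T : IsTable χ β A B) {a : W₁.subgroupOf L →* ℂˣ} {b : W₂.subgroupOf L →* ℂˣ}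
    (ha : a ≠ 1) (hb : b ≠ 1) : classInner β (χ (h.idx a b)) = ((A + B - 1 : ℤ) : ℂ) :=
  T.both _ (fun hω => hb (idx_trivial₂ h hω)) fun hω => ha (idx_trivial₁ h hω)

/-- A table from its values at the indices. -/
theorem IsTable.of_idx (hA : ∀ a, a ≠ 1 → classInner β (χ (h.idx a 1)) = (A : ℂ))
    (hB : ∀ b, b ≠ 1 → classInner β (χ (h.idx 1 b)) = (B : ℂ))
    (hAB : ∀ a b, a ≠ 1 → b ≠ 1 → classInner β (χ (h.idx a b)) = ((A + B - 1 : ℤ) : ℂ)) : IsTable χ β A B := by
  refine ⟨fun ω h0 h1 => ?_, fun ω h0 h1 => ?_, fun ω h2 h1 => ?_⟩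
  · obtain ⟨⟨a, b⟩, rfl⟩ := h.idx_bijective.2 ω
    obtain rfl := idx_trivial₂ h h1
    exact hA a fun e => h0 (by rw [e]; exact h.idx_one)
  · obtain ⟨⟨a, b⟩, rfl⟩ := h.idx_bijective.2 ω
    obtain rfl := idx_trivial₁ h h1
    exact hB b fun e => h0 (by rw [e]; exact h.idx_one)
  · obtain ⟨⟨a, b⟩, rfl⟩ := h.idx_bijective.2 ω
    exact hAB a b (fun e => h1 fun w hw => by subst e; exact h.idx_apply₁ b hw)
      fun e => h2 fun w hw => by subst e; exact h.idx_apply₂ a hw

/-- The sum of a table along a column `d ≠ 1`. -/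
theorem IsTable.column_sum (T : IsTable χ β A B) [Fintype (W₁.subgroupOf L →* ℂˣ)]
    {d : W₂.subgroupOf L →* ℂˣ} (hd : d ≠ 1) :
    ∑ a : W₁.subgroupOf L →* ℂˣ, classInner β (χ (h.idx a d)) = ((fval (Nat.card W₁) A B : ℤ) : ℂ) := by
  classical
  rw [← Finset.add_sum_erase _ _ (Finset.mem_univ 1), T.idx_right h hd, Finset.sum_congr rfl fun a ha =>
    T.idx_both h (Finset.ne_of_mem_erase ha) hd, Finset.sum_const, nsmul_eq_mul,
    Finset.card_erase_of_mem (Finset.mem_univ 1), Finset.card_univ, h.ti.card_hom₁, h.card₁,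
    Nat.cast_sub Nat.card_pos, fval]
  push_cast
  ring

/-- The squared norm of a table. -/
theorem IsTable.grid_sum (T : IsTable χ β A B) [Fintype (WLin W₁ W₂)] [DecidableEq (WLin W₁ W₂)] :
    ∑ ω ∈ (Finset.univ : Finset (WLin W₁ W₂)).erase 1, Complex.normSq (classInner β (χ ω)) =
      ((grid (Nat.card W₂) (Nat.card W₁) A B : ℤ) : ℝ) := by
  classical
  haveI := Fintype.ofFinite (W₁.subgroupOf L →* ℂˣ)
  haveI := Fintype.ofFinite (W₂.subgroupOf L →* ℂˣ)
  set F : WLin W₁ W₂ → ℝ := fun ω => if ω = 1 then 0 else Complex.normSq (classInner β (χ ω)) with hF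
  rw [Finset.sum_congr rfl fun ω hω => show _ = F ω from (if_neg (Finset.ne_of_mem_erase hω)).symm,
    Finset.sum_erase _ (show F 1 = 0 from if_pos rfl),
    ← (Fintype.sum_bijective _ h.idx_bijective (fun p => F (h.idx p.1 p.2)) F fun p => rfl), Fintype.sum_prod_type,
    ← Finset.add_sum_erase _ _ (Finset.mem_univ (1 : W₁.subgroupOf L →* ℂˣ))]
  have hc2 : Fintype.card (W₂.subgroupOf L →* ℂˣ) = Nat.card W₂ := by
    have := sum_hom_abelian h.ti.comm₂ 1
    simp at this
    rw [← h.card₂, Nat.card_eq_fintype_card (α := W₂.subgroupOf L)]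
    exact_mod_cast this
  have hrow1 : ∑ b, F (h.idx 1 b) = ((Nat.card W₂ : ℝ) - 1) * (B : ℝ) ^ 2 := by
    rw [← Finset.add_sum_erase _ _ (Finset.mem_univ 1), h.idx_one, Finset.sum_congr rfl fun b hb => show _ = (B : ℝ) ^ 2 by
      simp only [hF]
      rw [if_neg (h.idx_right_ne_one (Finset.ne_of_mem_erase hb)), T.idx_right h (Finset.ne_of_mem_erase hb),
        Complex.normSq_intCast]
      ring]
    simp only [hF, if_pos trivial, zero_add, Finset.sum_const, nsmul_eq_mul,
      Finset.card_erase_of_mem (Finset.mem_univ _), Finset.card_univ, hc2, Nat.cast_sub Nat.card_pos, Nat.cast_one]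
  have hrow : ∀ a : W₁.subgroupOf L →* ℂˣ, a ≠ 1 → ∑ b, F (h.idx a b) =
      (A : ℝ) ^ 2 + ((Nat.card W₂ : ℝ) - 1) * ((A : ℝ) + B - 1) ^ 2 := fun a ha => by
    have hne : ∀ b, h.idx a b ≠ 1 := fun b e => ha (h.idx_eq_iff.mp (e.trans h.idx_one.symm)).1
    rw [← Finset.add_sum_erase _ _ (Finset.mem_univ 1), Finset.sum_congr rfl fun b hb =>
      show _ = ((A : ℝ) + B - 1) ^ 2 by
        simp only [hF]
        rw [if_neg (hne b), T.idx_both h ha (Finset.ne_of_mem_erase hb), Complex.normSq_intCast]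
        push_cast
        ring]
    simp only [hF, if_neg (hne 1), T.idx_left h ha, Complex.normSq_intCast, Finset.sum_const, nsmul_eq_mul,
      Finset.card_erase_of_mem (Finset.mem_univ _), Finset.card_univ, hc2, Nat.cast_sub Nat.card_pos, Nat.cast_one]
    ring
  rw [hrow1, Finset.sum_congr rfl fun a ha => hrow a (Finset.ne_of_mem_erase ha), Finset.sum_const, nsmul_eq_mul,
    Finset.card_erase_of_mem (Finset.mem_univ _), Finset.card_univ, h.ti.card_hom₁, h.card₁,
    Nat.cast_sub Nat.card_pos, grid]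
  push_cast
  ring

end Indexed

/-- The images of two bridges are orthogonal. -/
structure Sep (P t P' t' : G → ℂ) : Prop where
  tt : classInner t t' = 0
  tP : classInner t P' = 0
  Pt : classInner P t' = 0
  PP : classInner P P' = 0

theorem Sep.symm {P t P' t' : G → ℂ} (s : Sep P t P' t') : Sep P' t' P t :=
  ⟨by rw [← classInner_comm, s.tt, map_zero], by rw [← classInner_comm, s.Pt, map_zero],
    by rw [← classInner_comm, s.tP, map_zero], by rw [← classInner_comm, s.PP, map_zero]⟩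

namespace IsBridge

variable {X : Set G} {β P t : G → ℂ} {e N : ℕ} {c : ℤ} (D : IsBridge χ X β P t e N c)
include D

/-- The bridge seen from the swapped indexing. -/
theorem swap : IsBridge (fun ω : WLin W₂ W₁ => χ (ω.comp (MulEquiv.subgroupCongr (sup_comm W₁ W₂)).toMonoidHom))
    X β P t e N c :=
  ⟨D.supp, D.prop, D.gen, D.genT, D.genP, D.real, D.beta_one, D.P_one, D.t_one, D.beta_beta, D.beta_t, D.beta_P,
    D.P_P, D.P_t, D.t_t, fun _ => D.P_eta _, fun _ => D.t_eta _⟩

theorem beta_eq : β = (fun _ => 1) - t + (c : ℂ) • P + bridgeGamma β P t c := by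
  funext g
  simp only [bridgeGamma, Pi.add_apply, Pi.sub_apply, Pi.smul_apply]
  ring

theorem gamma_gen : IsGeneralizedCharacter G (bridgeGamma β P t c) :=
  isGenChar_sub (isGenChar_add (isGenChar_sub D.gen (isGenChar_of_char (isCharacter_of_irr isIrrCharacter_one)))
    D.genT) (isGenChar_intSmul c D.genP)

/-- Against functions orthogonal to `1`, `t`, `P` the bridge is `Γ`. -/
theorem gamma_inner {f : G → ℂ} (h1 : classInner f (fun _ => 1) = 0) (ht : classInner f t = 0)
    (hP : classInner f P = 0) : classInner (bridgeGamma β P t c) f = classInner β f := by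
  rw [bridgeGamma, classInner_sub_left, classInner_add_left, classInner_sub_left, classInner_smul_left,
    ← classInner_comm f (fun _ => (1 : ℂ)), h1, ← classInner_comm f t, ht, ← classInner_comm f P, hP]
  simp

theorem gamma_one : classInner (bridgeGamma β P t c) (fun _ => 1) = 0 := by
  rw [bridgeGamma, classInner_sub_left, classInner_add_left, classInner_sub_left, classInner_smul_left,
    D.beta_one, D.t_one, D.P_one, classInner_irr_self isIrrCharacter_one]
  ring

theorem gamma_norm : meanSq (bridgeGamma β P t c) = (e : ℝ) - 1 + 2 * c - (c : ℝ) ^ 2 * N := by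
  apply Complex.ofReal_injective
  have a1 : classInner (fun _ : G => (1 : ℂ)) β = 1 := by rw [← classInner_comm, D.beta_one, map_one]
  have a2 : classInner (fun _ : G => (1 : ℂ)) t = 0 := by rw [← classInner_comm, D.t_one, map_zero]
  have a3 : classInner (fun _ : G => (1 : ℂ)) P = 0 := by rw [← classInner_comm, D.P_one, map_zero]
  have a4 : classInner t β = (c : ℂ) - 1 := by rw [← classInner_comm, D.beta_t, map_sub, map_intCast, map_one]
  have a5 : classInner P β = (c : ℂ) * N - 1 := by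
    rw [← classInner_comm, D.beta_P, map_sub, map_mul, map_intCast, map_natCast, map_one]
  have a6 : classInner t P = 1 := by rw [← classInner_comm, D.P_t, map_one]
  rw [← classInner_self_eq_meanSq, bridgeGamma]
  simp only [classInner_add_left, classInner_add_right, classInner_sub_left, classInner_sub_right,
    classInner_smul_left, classInner_smul_right, map_intCast, D.beta_beta, D.beta_one, D.beta_t, D.beta_P, D.P_P,
    D.P_t, D.t_t, D.P_one, D.t_one, a1, a2, a3, a4, a5, a6, classInner_irr_self isIrrCharacter_one]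
  push_cast
  ring

/-- **(L2)** The table, further orthogonal functions and the norm of `Γ`. -/
theorem bessel {L : Subgroup G} [Fintype L] {K H : Subgroup L} {A₀ : Set G} {R : G → Subgroup G}
    (h : IsPrimeDade L K H W₁ W₂ A₀ R) (hχ : IsCyclicTIFamily W₁ W₂ χ) {A B : ℤ} (T : IsTable χ β A B)
    {ι : Type*} (s : Finset ι) (f : ι → G → ℂ) (hf : ∀ i ∈ s, ∀ j ∈ s, i ≠ j → classInner (f i) (f j) = 0)
    (hfη : ∀ i ∈ s, ∀ ω, classInner (f i) (χ ω) = 0) (hft : ∀ i ∈ s, classInner (f i) t = 0)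
    (hfP : ∀ i ∈ s, classInner (f i) P = 0) :
    ((grid (Nat.card W₂) (Nat.card W₁) A B : ℤ) : ℝ) +
        ∑ i ∈ s, Complex.normSq (classInner β (f i)) / meanSq (f i) ≤
      (e : ℝ) - 1 + 2 * c - (c : ℝ) ^ 2 * N := by
  classical
  haveI := Fintype.ofFinite (WLin W₁ W₂)
  have h1 : ∀ ω, meanSq (χ ω) = 1 := fun ω => Complex.ofReal_injective (by
    rw [← classInner_self_eq_meanSq, hχ.orthonormal, if_pos rfl, Complex.ofReal_one])
  have hb := bessel_orth ((((Finset.univ : Finset (WLin W₁ W₂)).erase 1).disjSum s)) (Sum.elim χ f) (by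
    rintro (ω | i) hi (ω' | j) hj hne
    · exact (hχ.orthonormal ω ω').trans (if_neg fun e => hne (congrArg Sum.inl e))
    · show classInner (χ ω) (f j) = 0
      rw [← classInner_comm, hfη j (Finset.inr_mem_disjSum.mp hj), map_zero]
    · exact hfη i (Finset.inr_mem_disjSum.mp hi) ω'
    · exact hf i (Finset.inr_mem_disjSum.mp hi) j (Finset.inr_mem_disjSum.mp hj) fun e => hne (congrArg Sum.inr e))
      (bridgeGamma β P t c)
  rw [Finset.sum_disjSum] at hb
  simp only [Sum.elim_inl, Sum.elim_inr] at hb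
  rw [D.gamma_norm, Finset.sum_congr rfl fun ω hω => show _ = Complex.normSq (classInner β (χ ω)) by
      rw [D.gamma_inner (by rw [← hχ.map_one, hχ.orthonormal, if_neg (Finset.ne_of_mem_erase hω)])
        (by rw [← classInner_comm, D.t_eta, map_zero]) (by rw [← classInner_comm, D.P_eta, map_zero]), h1, div_one],
    T.grid_sum h, Finset.sum_congr rfl fun i hi => show Complex.normSq (classInner (bridgeGamma β P t c) (f i)) / meanSq (f i) =
        Complex.normSq (classInner β (f i)) / meanSq (f i) by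
      rw [D.gamma_inner (by rw [← hχ.map_one]; exact hfη i hi 1) (hft i hi) (hfP i hi)]] at hb
  exact hb

theorem budget_le (hN : 2 ≤ N) : (e : ℝ) - 1 + 2 * c - (c : ℝ) ^ 2 * N ≤ (e : ℝ) - 1 := by
  have haa : (c : ℝ) ≤ (c : ℝ) ^ 2 := by exact_mod_cast Int.le_self_sq c
  have := mul_le_mul_of_nonneg_left (show (2 : ℝ) ≤ N by exact_mod_cast hN) (sq_nonneg (c : ℝ))
  linarith

theorem budget_eq (hN : 3 ≤ N) (h0 : (e : ℝ) - 1 ≤ (e : ℝ) - 1 + 2 * c - (c : ℝ) ^ 2 * N) : c = 0 := by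
  by_contra hc
  have h1 : (c : ℝ) ≤ (c : ℝ) ^ 2 := by exact_mod_cast Int.le_self_sq c
  have h2 : (1 : ℝ) ≤ (c : ℝ) ^ 2 := by exact_mod_cast one_le_sq hc
  have := mul_le_mul_of_nonneg_left (show (3 : ℝ) ≤ N by exact_mod_cast hN) (sq_nonneg (c : ℝ))
  linarith

/-- When the table takes the whole norm, `Γ` is the table. -/
theorem gamma_eq_of_tight {L : Subgroup G} [Fintype L] {K H : Subgroup L} {A₀ : Set G} {R : G → Subgroup G}
    (h : IsPrimeDade L K H W₁ W₂ A₀ R) (hχ : IsCyclicTIFamily W₁ W₂ χ) {A B : ℤ} (T : IsTable χ β A B)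
    [Fintype (WLin W₁ W₂)] [DecidableEq (WLin W₁ W₂)]
    (ht : (e : ℝ) - 1 + 2 * c - (c : ℝ) ^ 2 * N ≤ ((grid (Nat.card W₂) (Nat.card W₁) A B : ℤ) : ℝ)) :
    bridgeGamma β P t c = ∑ ω ∈ (Finset.univ : Finset (WLin W₁ W₂)).erase 1, classInner β (χ ω) • χ ω := by
  have h1 : ∀ ω, meanSq (χ ω) = 1 := fun ω => Complex.ofReal_injective (by
    rw [← classInner_self_eq_meanSq, hχ.orthonormal, if_pos rfl, Complex.ofReal_one])
  have hγ : ∀ ω ∈ (Finset.univ : Finset (WLin W₁ W₂)).erase 1,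
      classInner (bridgeGamma β P t c) (χ ω) = classInner β (χ ω) := fun ω hω =>
    D.gamma_inner (by rw [← hχ.map_one, hχ.orthonormal, if_neg (Finset.ne_of_mem_erase hω)])
      (by rw [← classInner_comm, D.t_eta, map_zero]) (by rw [← classInner_comm, D.P_eta, map_zero])
  rw [eq_proj_of_tight ((Finset.univ : Finset (WLin W₁ W₂)).erase 1) χ
    (fun i _ j _ hne => (hχ.orthonormal i j).trans (if_neg hne)) (bridgeGamma β P t c)
    (by rw [D.gamma_norm, Finset.sum_congr rfl fun ω hω => by rw [hγ ω hω, h1, div_one], T.grid_sum h]; exact ht)]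
  exact Finset.sum_congr rfl fun ω hω => by rw [hγ ω hω, h1, Complex.ofReal_one, div_one]

variable {L : Subgroup G} [Fintype L] {K H : Subgroup L} {A₀ : Set G} {R : G → Subgroup G}
  {h : IsPrimeDade L K H W₁ W₂ A₀ R} {U : Subgroup L} {u : ℕ} {b : W₂.subgroupOf L →* ℂˣ}

/-- **(L5 a)** -/
theorem side_bound (S : SideData h U u) (hb : b ≠ 1) (hχ : IsCyclicTIFamily W₁ W₂ χ) (hN : 0 < N)
    (hX : ∀ g ∈ X, sideBeta h b g = 0) {cS : ℤ} (hc : classInner (sideBeta h b) t = (cS : ℂ)) :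
    cS ^ 2 * (N : ℤ) * Nat.card W₁ + 1 ≤ (u : ℤ) := by
  have key := S.beta_bessel hb hχ (f := P) D.P_one fun _ _ => D.P_eta _
  rw [D.prop _ hX, hc, show meanSq P = (N : ℝ) from Complex.ofReal_injective (by
      rw [← classInner_self_eq_meanSq, D.P_P, Complex.ofReal_natCast]),
    map_mul, Complex.normSq_natCast, Complex.normSq_intCast] at key
  have hdiv := Nat.div_add_mod u (Nat.card W₁)
  rw [S.u_mod] at hdiv
  have hn : ((u - 1) / Nat.card W₁) * Nat.card W₁ + 1 = u := by
    conv_lhs => rw [← hdiv, Nat.add_sub_cancel, Nat.mul_div_cancel_left _ Nat.card_pos]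
    rw [mul_comm]; exact hdiv
  have k1 : cS ^ 2 * (N : ℤ) ≤ (((u - 1) / Nat.card W₁ : ℕ) : ℤ) := by
    have : (cS : ℝ) ^ 2 * N ≤ (((u - 1) / Nat.card W₁ : ℕ) : ℝ) := by
      refine le_of_mul_le_mul_right ?_ (show (0 : ℝ) < N by exact_mod_cast hN)
      calc (cS : ℝ) ^ 2 * N * N = (N : ℝ) * N * ((cS : ℝ) * cS) := by ring
        _ ≤ _ := key
    have h' : ((cS ^ 2 * (N : ℤ) : ℤ) : ℝ) ≤ ((((u - 1) / Nat.card W₁ : ℕ) : ℤ) : ℝ) := by
      push_cast
      exact this
    exact Int.cast_le.mp h'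
  calc cS ^ 2 * (N : ℤ) * Nat.card W₁ + 1 ≤ (((u - 1) / Nat.card W₁ : ℕ) : ℤ) * Nat.card W₁ + 1 := by
        have := mul_le_mul_of_nonneg_right k1 (show (0 : ℤ) ≤ (Nat.card W₁ : ℤ) by positivity)
        linarith
    _ = (u : ℤ) := by exact_mod_cast hn

/-- **(L5 b)** -/
theorem side_parity (S : SideData h U u) (hb : b ≠ 1) (hχ : IsCyclicTIFamily W₁ W₂ χ) (hodd : Odd (Nat.card G))
    (hN : Even N) (hX : ∀ g ∈ X, sideBeta h b g = 0) {A B : ℤ} (T : IsTable χ β A B) {cS : ℤ}
    (hc : classInner (sideBeta h b) t = (cS : ℂ)) : Odd (B + cS) := by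
  obtain ⟨z, hz⟩ := even_classInner_of_real hodd D.gamma_gen (S.gamma_genChar hb hχ) D.real (S.gamma_real hb hχ)
    D.gamma_one
  have h0 : classInner β (sideBeta h b) = 0 := by
    simp only [classInner]
    rw [Finset.sum_eq_zero fun g _ => ?_, mul_zero]
    by_cases hg : g ∈ X
    · rw [hX g hg, map_zero, mul_zero]
    · rw [D.supp g hg, zero_mul]
  have h1 : classInner (fun _ : G => (1 : ℂ)) (sideBeta h b) = 1 := by
    rw [← classInner_comm, S.beta_inner_one hb, map_one]
  have ht : classInner t (sideBeta h b) = (cS : ℂ) := by rw [← classInner_comm, hc, map_intCast]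
  have hP : classInner P (sideBeta h b) = (N : ℂ) * cS := by
    rw [← classInner_comm, D.prop _ hX, hc, map_mul, map_natCast, map_intCast]
  have hΓη : classInner (bridgeGamma β P t c) (χ (h.idx 1 b)) = (B : ℂ) := by
    rw [D.gamma_inner (by rw [← hχ.map_one, hχ.orthonormal, if_neg (h.idx_right_ne_one hb)])
      (by rw [← classInner_comm, D.t_eta, map_zero]) (by rw [← classInner_comm, D.P_eta, map_zero]),
      T.idx_right h hb]
  have hΓ : classInner (bridgeGamma β P t c) (sideBeta h b) = -(B : ℂ) + ((2 * z : ℤ) : ℂ) := by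
    rw [show sideBeta h b = (fun _ => (1 : ℂ)) - χ (h.idx 1 b) + sideGamma h χ b by
      funext g; simp only [sideGamma, Pi.add_apply, Pi.sub_apply]; ring,
      classInner_add_right, classInner_sub_right, D.gamma_one, hΓη, hz]
    ring
  rw [D.beta_eq, classInner_add_left, classInner_add_left, classInner_sub_left, classInner_smul_left, h1, ht, hP,
    hΓ] at h0
  obtain ⟨m, hm⟩ := hN
  have key : (1 : ℤ) - cS + c * ((N : ℤ) * cS) + (-B + 2 * z) = 0 := by
    have : (((1 : ℤ) - cS + c * ((N : ℤ) * cS) + (-B + 2 * z) : ℤ) : ℂ) = 0 := by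
      push_cast at h0 ⊢
      linear_combination h0
    exact_mod_cast this
  refine ⟨c * m * cS + z, ?_⟩
  rw [hm] at key
  push_cast at key
  linear_combination -key

/-- **(L5 c)**, parity. -/
theorem cross_parity {X' : Set G} {β' P' t' : G → ℂ} {e' N' : ℕ} {c' : ℤ} (D' : IsBridge χ X' β' P' t' e' N' c')
    (hodd : Odd (Nat.card G)) (hXX : Disjoint X X') (s : Sep P t P' t') (hN : Even N) (hN' : Even N') {x y : ℤ}
    (hx : classInner β' t = (x : ℂ)) (hy : classInner β t' = (y : ℂ)) : Odd (x + y) := by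
  obtain ⟨z, hz⟩ := even_classInner_of_real hodd D.gamma_gen D'.gamma_gen D.real D'.real D.gamma_one
  have v' : ∀ g ∈ X, β' g = 0 := fun g hg => D'.supp g (Set.disjoint_left.mp hXX hg)
  have v : ∀ g ∈ X', β g = 0 := fun g hg => D.supp g (Set.disjoint_right.mp hXX hg)
  have h0 : classInner β β' = 0 := by
    simp only [classInner]
    rw [Finset.sum_eq_zero fun g _ => ?_, mul_zero]
    by_cases hg : g ∈ X
    · rw [v' g hg, map_zero, mul_zero]
    · rw [D.supp g hg, zero_mul]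
  have h1 : classInner (fun _ : G => (1 : ℂ)) β' = 1 := by rw [← classInner_comm, D'.beta_one, map_one]
  have ht : classInner t β' = (x : ℂ) := by rw [← classInner_comm, hx, map_intCast]
  have hP : classInner P β' = (N : ℂ) * x := by
    rw [← classInner_comm, D.prop _ v', hx, map_mul, map_natCast, map_intCast]
  have g1 : classInner t' (fun _ => 1) = 0 := D'.t_one
  have hΓt : classInner (bridgeGamma β P t c) t' = (y : ℂ) := by
    rw [D.gamma_inner D'.t_one (Sep.symm s).tt (Sep.symm s).tP, hy]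
  have hΓP : classInner (bridgeGamma β P t c) P' = (N' : ℂ) * y := by
    rw [D.gamma_inner D'.P_one (Sep.symm s).Pt (Sep.symm s).PP, D'.prop _ v, hy]
  have hΓ : classInner (bridgeGamma β P t c) β' = -(y : ℂ) + (c' : ℂ) * ((N' : ℂ) * y) + ((2 * z : ℤ) : ℂ) := by
    conv_lhs => rw [D'.beta_eq]
    rw [classInner_add_right, classInner_add_right, classInner_sub_right, classInner_smul_right, D.gamma_one, hΓt,
      hΓP, hz, map_intCast]
    ring
  rw [D.beta_eq, classInner_add_left, classInner_add_left, classInner_sub_left, classInner_smul_left, h1, ht, hP,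
    hΓ] at h0
  obtain ⟨m, hm⟩ := hN
  obtain ⟨m', hm'⟩ := hN'
  have key : (1 : ℤ) - x + c * ((N : ℤ) * x) + (-y + c' * ((N' : ℤ) * y) + 2 * z) = 0 := by
    have : (((1 : ℤ) - x + c * ((N : ℤ) * x) + (-y + c' * ((N' : ℤ) * y) + 2 * z) : ℤ) : ℂ) = 0 := by
      push_cast at h0 ⊢
      linear_combination h0
    exact_mod_cast this
  refine ⟨c * m * x + c' * m' * y + z, ?_⟩
  rw [hm, hm'] at key
  push_cast at key
  linear_combination -key

/-- **(L5 c, d)** The whole inequality: the table, the part `V` of `S(P)` and a second bridge. -/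
theorem norm_bound (hχ : IsCyclicTIFamily W₁ W₂ χ) (h : IsPrimeDade L K H W₁ W₂ A₀ R) (hN : 2 ≤ N) {A B : ℤ}
    (T : IsTable χ β A B) {V : G → ℂ} {f : ℤ} {NS : ℕ} (hVη : ∀ ω, classInner V (χ ω) = 0)
    (hVt : classInner V t = 0) (hVP : classInner V P = 0) (hVV : classInner V V = (NS : ℂ))
    (hβV : Complex.normSq (classInner β V) = (f : ℝ) ^ 2 * (NS : ℝ) ^ 2)
    {P' : G → ℂ} {N' : ℕ} {y : ℤ} (hP'η : ∀ ω, classInner P' (χ ω) = 0) (hP't : classInner P' t = 0)
    (hP'P : classInner P' P = 0) (hP'V : classInner P' V = 0) (hP'P' : classInner P' P' = (N' : ℂ))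
    (hβP' : classInner β P' = (N' : ℂ) * y) :
    y ^ 2 * (N' : ℤ) + f ^ 2 * NS + grid (Nat.card W₂) (Nat.card W₁) A B + 1 ≤ (e : ℤ) := by
  have key := (D.bessel h hχ T (Finset.univ : Finset Bool) (fun i => if i then V else P') (by
      intro i _ j _ hne
      cases i <;> cases j <;> simp only [Bool.false_eq_true, if_false, if_true, ne_eq, not_true_eq_false] at hne ⊢
      · exact hP'V
      · rw [← classInner_comm, hP'V, map_zero])
    (by intro i _; cases i <;> simp [hVη, hP'η]) (by intro i _; cases i <;> simp [hVt, hP't])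
    (by intro i _; cases i <;> simp [hVP, hP'P])).trans (D.budget_le hN)
  rw [Fintype.sum_bool] at key
  simp only [if_true, Bool.false_eq_true, if_false] at key
  have mV : meanSq V = (NS : ℝ) := Complex.ofReal_injective (by
    rw [← classInner_self_eq_meanSq, hVV, Complex.ofReal_natCast])
  have mP : meanSq P' = (N' : ℝ) := Complex.ofReal_injective (by
    rw [← classInner_self_eq_meanSq, hP'P', Complex.ofReal_natCast])
  rw [hβV, mV, hβP', mP, map_mul, Complex.normSq_natCast, Complex.normSq_intCast] at key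
  have e1 : (f : ℝ) ^ 2 * (NS : ℝ) ^ 2 / (NS : ℝ) = (f : ℝ) ^ 2 * NS := by
    rcases eq_or_ne (NS : ℝ) 0 with h0 | h0
    · simp [h0]
    · field_simp
  have e2 : (N' : ℝ) * N' * ((y : ℝ) * y) / (N' : ℝ) = (y : ℝ) ^ 2 * N' := by
    rcases eq_or_ne (N' : ℝ) 0 with h0 | h0
    · simp [h0]
    · field_simp
  rw [e1, e2] at key
  have : ((y ^ 2 * (N' : ℤ) + f ^ 2 * NS + grid (Nat.card W₂) (Nat.card W₁) A B + 1 : ℤ) : ℝ) ≤ ((e : ℤ) : ℝ) := by
    push_cast
    linarith
  exact_mod_cast this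

end IsBridge

end CfsgLib.OddOrder.S14
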