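import Cfsg.Agent.Lib.OddOrder.S14.Setup
import Cfsg.Agent.Lib.OddOrder.S14.Bridge

/-!
Section 14 of the blueprint: the second bridge as the assembly uses it, orthogonality of images carried by
disjoint supports, and the measure of a support.
-/

set_option autoImplicit false
set_option linter.unusedSectionVars false
set_option linter.style.haveILetI false

namespace CfsgLib.OddOrder.S14

open Cfsg CfsgLib.CharTheory CfsgLib.Dade CfsgLib.OddOrder.Found CfsgLib.OddOrder.S13
open scoped ComplexConjugate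

universe u

variable {G : Type u} [Group G] [Fintype G]

/-- A signed irreducible with a partner orthogonal to it and equal to it off `X`. -/
def IsPaired (X : Set G) (f : G → ℂ) : Prop :=
  IsSignedIrr f ∧ ∃ f' : G → ℂ, IsSignedIrr f' ∧ classInner f f' = 0 ∧ ∀ g, g ∉ X → f g = f' g

theorem paired_orth {X Y : Set G} {a b : G → ℂ} (hXY : Disjoint X Y) (hX : (1 : G) ∉ X) (hY : (1 : G) ∉ Y)
    (ha : IsPaired X a) (hb : IsPaired Y b) : classInner a b = 0 := by
  obtain ⟨has, a', ha's, hao, hav⟩ := ha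
  obtain ⟨hbs, b', hb's, hbo, hbv⟩ := hb
  have hmix : classInner (a - a') ((((1 : ℝ) : ℂ)) • b - (((1 : ℝ) : ℂ)) • b') = 0 := by
    simp only [classInner, Complex.ofReal_one, one_smul]
    rw [Finset.sum_eq_zero fun g _ => ?_, mul_zero]
    by_cases hg : g ∈ X
    · rw [Pi.sub_apply b, hbv g (Set.disjoint_left.mp hXY hg), sub_self, map_zero, mul_zero]
    · rw [Pi.sub_apply, hav g hg, sub_self, zero_mul]
  exact (four_signed has ha's hbs hb's one_ne_zero one_ne_zero hao hbo hmix (hav 1 hX)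
    (by rw [hbv 1 hY])).1

/-- The coherent image of an irreducible member of a family is paired on the support of the Dade data. -/
theorem paired_of_agree {L : Subgroup G} [Fintype L] {A : Set G} {R : G → Subgroup G} (hD : DadeHypothesis A L R)
    {S : Set (L → ℂ)} {τ₁ : (L → ℂ) → (G → ℂ)} (hτ : IsLinearIsometryOn (zspan S) τ₁)
    (hag : ∀ α ∈ zspanOn S {1}ᶜ, τ₁ α = dadeIsometry A L R α) {φ : L → ℂ} (hφ : φ ∈ S) (hi : IsIrrCharacter L φ)
    (hc : conjFun φ ∈ S) (hne : conjFun φ ≠ φ) : IsPaired (dadeSupp A R) (τ₁ φ) := by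
  have hic : IsIrrCharacter L (conjFun φ) := isIrrCharacter_conjChar hi
  have hs : ∀ ψ, ψ ∈ S → IsIrrCharacter L ψ → IsSignedIrr (τ₁ ψ) := fun ψ hψ hψi =>
    irr_or_neg_of_norm_one (hτ.2.2.2 _ (Submodule.subset_span hψ))
      (by rw [hτ.2.2.1 _ (Submodule.subset_span hψ) _ (Submodule.subset_span hψ), classInner_irr_self hψi])
  refine ⟨hs φ hφ hi, τ₁ (conjFun φ), hs _ hc hic, ?_, fun g hg => sub_eq_zero.mp ?_⟩
  · rw [hτ.2.2.1 _ (Submodule.subset_span hφ) _ (Submodule.subset_span hc), classInner_irr_ne hi hic (Ne.symm hne)]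
  · have hm : φ - conjFun φ ∈ zspanOn S {1}ᶜ :=
      ⟨Submodule.sub_mem _ (Submodule.subset_span hφ) (Submodule.subset_span hc), fun x hx => by
        obtain ⟨d, hd⟩ := char_one_eq_natCast (isCharacter_of_irr hi)
        rw [not_not.mp hx, Pi.sub_apply, conjFun, hd, map_natCast, sub_self]⟩
    rw [← Pi.sub_apply, ← isometryOn_sub hτ (Submodule.subset_span hφ) (Submodule.subset_span hc), hag _ hm]
    exact dade_eq_zero_of_notMem hD _ hg

/-- The share of a Dade support in the group. -/
theorem supp_measure {A : Set G} {L : Subgroup G} [Fintype L] {R : G → Subgroup G} (hD : DadeHypothesis A L R) :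
    (Nat.card A : ℝ) / Nat.card L ≤ (Nat.card (dadeSupp A R) : ℝ) / Nat.card G := by
  classical
  have hmass : meanSq (dadeRho A L R fun _ : G => (1 : ℂ)) = (Nat.card A : ℝ) / Nat.card L := by
    rw [meanSq, ← card_mem_eq hD, div_eq_inv_mul, ← Nat.card_eq_fintype_card]
    congr 1
    rw [Nat.card_eq_fintype_card, Fintype.card_subtype, Finset.card_filter, Nat.cast_sum]
    refine Finset.sum_congr rfl fun w _ => ?_
    by_cases hw : (w : G) ∈ A
    · rw [if_pos hw, dadeRho_one hw, map_one, Nat.cast_one]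
    · rw [if_neg hw, dadeRho_of_notMem hw, map_zero, Nat.cast_zero]
  refine hmass ▸ (meanSq_dadeRho_le hD isClassFunction_one).trans (le_of_eq ?_)
  rw [Nat.card_eq_fintype_card (α := dadeSupp A R), ← Set.toFinset_card, div_eq_inv_mul]
  simp only [map_one, Finset.sum_const, nsmul_eq_mul, mul_one]
  congr 3
  ext g
  simp

/-- The second bridge: that of a kernel over `N(V)` not conjugate to `L`, or that of `T'` for `T` of type III. -/
structure Second {S T W₁ W₂ U V : Subgroup G} (_f : Fourteen S T W₁ W₂ U V) (χ : WLin W₁ W₂ → (G → ℂ))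
    (XL X : Set G) (β P t : G → ℂ) (e N : ℕ) (c A B : ℤ) : Prop where
  bridge : IsBridge χ X β P t e N c
  table : IsTable χ β A B
  index : e = Nat.card W₂ ∨ e = Nat.card W₂ * Nat.card W₁
  size : Nat.card V ≤ e * N + 1
  even : Even N
  two_le : 2 ≤ N
  one_notMem : (1 : G) ∉ X
  disj_S : Disjoint X (dadeSupp (typeA0 S) fun _ => (⊥ : Subgroup G))
  disj_L : Disjoint X XL
  span : ∀ f : G → ℂ, (∀ b, IsPaired X b → classInner f b = 0) → classInner f P = 0 ∧ classInner f t = 0
  count : e = Nat.card W₂ → ∃ Z : Set G, Z ⊆ X ∪ dadeSupp (typeA0 T) (fun _ => (⊥ : Subgroup G)) ∧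
    Disjoint Z (dadeSupp (typeA0 S) fun _ => (⊥ : Subgroup G)) ∧ (1 : G) ∉ Z ∧
      ((Nat.card W₁ : ℝ) ^ Nat.card W₂ * Nat.card V - 1) /
          ((Nat.card W₁ : ℝ) ^ Nat.card W₂ * Nat.card V * Nat.card W₂) ≤
        (Nat.card Z : ℝ) / Nat.card G

end CfsgLib.OddOrder.S14
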