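import Cfsg.Agent.Lib.OddOrder.S14.Bessel
import Cfsg.Agent.Lib.OddOrder.S14.Grid

/-!
Section 14 of the blueprint, (L4): the bridge `β = τ (Ind_{HW₁}^L 1 - μ_{0b})` of a group of type II or III.
-/

set_option autoImplicit false
set_option linter.unusedSectionVars false
set_option linter.style.haveILetI false

namespace CfsgLib.OddOrder.S14

open Cfsg CfsgLib.CharTheory CfsgLib.Dade CfsgLib.OddOrder.Found
open scoped ComplexConjugate

universe u

variable {G : Type u} [Group G] [Fintype G] {L : Subgroup G} [Fintype L] {K H : Subgroup L} {W₁ W₂ : Subgroup G}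
  {A₀ : Set G} {R : G → Subgroup G} {χ : WLin W₁ W₂ → (G → ℂ)}

/-- The facts about `L = (H U) W₁` used by the bridge. -/
structure SideData (h : IsPrimeDade L K H W₁ W₂ A₀ R) (U : Subgroup L) (u : ℕ) : Prop where
  disj : H ⊓ U = ⊥
  sup : H ⊔ U = K
  inv : W₁.subgroupOf L ≤ Subgroup.normalizer (U : Set L)
  abH : ∀ x ∈ H, ∀ y ∈ H, x * y = y * x
  index : (H.subgroupOf K).index = u
  deg : ∀ b, b ≠ 1 → h.ti.colChar b 1 = (u : ℂ)
  u_mod : u % Nat.card W₁ = 1

variable (h : IsPrimeDade L K H W₁ W₂ A₀ R)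

/-- `Ind_{HW₁}^L 1`. -/
noncomputable def sideInd (_h : IsPrimeDade L K H W₁ W₂ A₀ R) : L → ℂ :=
  indFun (H ⊔ W₁.subgroupOf L) fun _ => 1

/-- `Ind_{HW₁}^L 1 - μ_{0b}`. -/
noncomputable def sideAlpha (b : W₂.subgroupOf L →* ℂˣ) : L → ℂ := sideInd h - h.muAt 1 b

/-- The bridge `β_b`. -/
noncomputable def sideBeta (b : W₂.subgroupOf L →* ℂˣ) : G → ℂ := dadeIsometry A₀ L R (sideAlpha h b)

/-- `Γ = β_b - 1 + η_{0b}`. -/
noncomputable def sideGamma (χ : WLin W₁ W₂ → (G → ℂ)) (b : W₂.subgroupOf L →* ℂˣ) : G → ℂ :=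
  sideBeta h b - (fun _ => 1) + χ (h.idx 1 b)

namespace SideData

variable {h} {U : Subgroup L} {u : ℕ} (d : SideData h U u)
include d

theorem mem_sup_iff {t : L} : t ∈ H ⊔ W₁.subgroupOf L ↔ ∃ z ∈ H, ∃ a ∈ W₁.subgroupOf L, z * a = t := by
  haveI := h.normalH
  rw [← SetLike.mem_coe, Subgroup.normal_mul, Set.mem_mul]
  rfl

theorem proj_conj (y x : L) : h.ti.proj (y * x * y⁻¹) = h.ti.proj x := by
  rw [map_mul, map_mul, map_inv, h.ti.comm₁ (h.ti.proj y) (h.ti.proj x), mul_inv_cancel_right]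

/-- Only elements of `HW₁` conjugate an element of `HW₁ \ H` into `HW₁`. -/
theorem conj_sup {t : L} (ht : t ∈ H ⊔ W₁.subgroupOf L) (htH : t ∉ H) {y : L}
    (hy : y * t * y⁻¹ ∈ H ⊔ W₁.subgroupOf L) : y ∈ H ⊔ W₁.subgroupOf L := by
  haveI := h.ti.normal
  haveI := h.normalH
  obtain ⟨z, hz, a, ha, rfl⟩ := d.mem_sup_iff.mp ht
  obtain ⟨z', hz', a', ha', e⟩ := d.mem_sup_iff.mp hy
  have ha1 : a ≠ 1 := fun e1 => htH (by rw [e1, mul_one]; exact hz)
  have haa : a' = a := by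
    have e1 := congrArg (fun g => ((h.ti.proj g : W₁.subgroupOf L) : L)) e
    simp only [d.proj_conj, map_mul, h.ti.proj_of_mem_kernel (h.H_le hz), h.ti.proj_of_mem_kernel (h.H_le hz'),
      one_mul, h.ti.proj_of_mem₁ ha, h.ti.proj_of_mem₁ ha'] at e1
    exact e1
  subst haa
  obtain ⟨c, hc, hk⟩ : ∃ c ∈ W₁.subgroupOf L, y * c⁻¹ ∈ K := ⟨_, (h.ti.proj y).2, h.ti.mul_proj_inv_mem y⟩
  obtain ⟨z₁, hz₁, x, hx, hx'⟩ : ∃ z₁ ∈ H, ∃ x ∈ U, y * c⁻¹ = z₁ * x := by
    have hk' : y * c⁻¹ ∈ (↑(H ⊔ U) : Set L) := by rw [d.sup]; exact hk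
    rw [Subgroup.normal_mul] at hk'
    obtain ⟨z₁, hz₁, x, hx, e'⟩ := hk'
    exact ⟨z₁, hz₁, x, hx, e'.symm⟩
  have hy' : y = z₁ * x * c := by rw [← hx', inv_mul_cancel_right]
  have hcomm : a' * c = c * a' := congrArg Subtype.val (h.ti.comm₁ ⟨a', ha'⟩ ⟨c, hc⟩)
  have hU : x * a' * x⁻¹ * a'⁻¹ ∈ U := by
    rw [mul_assoc x a' x⁻¹, mul_assoc x]
    refine U.mul_mem hx ?_
    rw [mul_assoc]
    simpa [mul_assoc] using (Subgroup.mem_set_normalizer_iff.mp (d.inv ha') x⁻¹).mp (U.inv_mem hx)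
  have hH : x * a' * x⁻¹ * a'⁻¹ ∈ H := by
    have e1 : x * a' * x⁻¹ * a'⁻¹ =
        (x * ((c * z * c⁻¹)⁻¹) * x⁻¹) * (z₁⁻¹ * z') * (a' * z₁ * a'⁻¹) := by
      have e2 : z' = y * (z * a') * y⁻¹ * a'⁻¹ := by rw [← e]; group
      rw [e2, hy']
      calc x * a' * x⁻¹ * a'⁻¹ = x * (a' * c) * c⁻¹ * x⁻¹ * a'⁻¹ := by group
        _ = x * (c * a') * c⁻¹ * x⁻¹ * a'⁻¹ := by rw [hcomm]
        _ = _ := by group
    rw [e1]
    exact H.mul_mem (H.mul_mem (h.normalH.conj_mem _ (H.inv_mem (h.normalH.conj_mem _ hz _)) _)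
      (H.mul_mem (H.inv_mem hz₁) hz')) (h.normalH.conj_mem _ hz₁ _)
  have hone : x * a' * x⁻¹ * a'⁻¹ = 1 := by
    rw [← Subgroup.mem_bot, ← d.disj]
    exact ⟨hH, hU⟩
  have hxW : x ∈ W₂.subgroupOf L := by
    rw [← h.ti.centralizer_eq a' ha' ha1]
    refine ⟨d.sup ▸ Subgroup.mem_sup_right hx, Subgroup.mem_centralizer_singleton_iff.mpr ?_⟩
    exact mul_inv_eq_iff_eq_mul.mp (mul_inv_eq_one.mp hone)
  have hx1 : x = 1 := by
    rw [← Subgroup.mem_bot, ← d.disj]
    exact ⟨h.W2_le hxW, hx⟩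
  rw [hy', hx1, mul_one]
  exact d.mem_sup_iff.mpr ⟨z₁, hz₁, c, hc, rfl⟩

theorem card_sup : Nat.card ↥(H ⊔ W₁.subgroupOf L) = Nat.card H * Nat.card W₁ := by
  rw [← h.card₁, ← Nat.card_prod]
  refine (Nat.card_congr (Equiv.ofBijective (fun x : H × W₁.subgroupOf L => (⟨(x.1 : L) * x.2,
    Subgroup.mul_mem_sup x.1.2 x.2.2⟩ : ↥(H ⊔ W₁.subgroupOf L))) ⟨fun x y e => ?_, fun t => ?_⟩)).symm
  · have e' : (x.1 : L) * x.2 = y.1 * y.2 := congrArg Subtype.val e
    have h2 : (x.2 : L) = y.2 := by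
      have := congrArg (fun g => ((h.ti.proj g : W₁.subgroupOf L) : L)) e'
      simpa [map_mul, h.ti.proj_of_mem_kernel (h.H_le x.1.2), h.ti.proj_of_mem_kernel (h.H_le y.1.2),
        h.ti.proj_coe] using this
    rw [h2] at e'
    exact Prod.ext (Subtype.ext (mul_right_cancel e')) (Subtype.ext h2)
  · obtain ⟨z, hz, a, ha, e⟩ := d.mem_sup_iff.mp t.2
    exact ⟨(⟨z, hz⟩, ⟨a, ha⟩), Subtype.ext e⟩

theorem card_K : Nat.card K = Nat.card H * u := by
  rw [← d.index, ← Subgroup.card_mul_index (H.subgroupOf K),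
    Nat.card_congr (Subgroup.subgroupOfEquivOfLe h.H_le).toEquiv]

theorem card_L : Nat.card L = Nat.card H * u * Nat.card W₁ := by
  rw [← Subgroup.card_mul_index K, d.card_K, h.ti.index_eq, h.card₁]

theorem index_sup : (H ⊔ W₁.subgroupOf L).index = u := by
  have h1 := Subgroup.card_mul_index (H ⊔ W₁.subgroupOf L)
  rw [d.card_sup, d.card_L] at h1
  exact Nat.eq_of_mul_eq_mul_left (Nat.mul_pos Nat.card_pos Nat.card_pos) (h1.trans (by ring))

theorem extend_apply (g : L) [Decidable (g ∈ H ⊔ W₁.subgroupOf L)] :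
    extendByZero (H ⊔ W₁.subgroupOf L) (fun _ => (1 : ℂ)) g = if g ∈ H ⊔ W₁.subgroupOf L then 1 else 0 := by
  split
  · rename_i hg; exact extendByZero_of_mem _ _ hg
  · rename_i hg; exact extendByZero_of_not_mem _ _ hg

theorem ind_mem {x : L} (hx : x ∈ H) : sideInd h x = (u : ℂ) := by
  classical
  rw [← d.index_sup, sideInd, indFun, Finset.sum_congr rfl fun y _ => by
    rw [d.extend_apply, if_pos (Subgroup.mem_sup_left (by simpa using h.normalH.conj_mem x hx y⁻¹))],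
    Finset.sum_const, Finset.card_univ, nsmul_eq_mul, mul_one, ← Nat.card_eq_fintype_card,
    ← Subgroup.card_mul_index (H ⊔ W₁.subgroupOf L), Nat.cast_mul, ← mul_assoc,
    inv_mul_cancel₀ (Nat.cast_ne_zero.mpr Nat.card_pos.ne'), one_mul]

theorem ind_kernel {x : L} (hxK : x ∈ K) (hx : x ∉ H) : sideInd h x = 0 := by
  classical
  rw [sideInd, indFun, Finset.sum_eq_zero fun y _ => ?_, mul_zero]
  rw [d.extend_apply, if_neg]
  intro hy
  obtain ⟨z, hz, a, ha, e⟩ := d.mem_sup_iff.mp hy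
  haveI := h.ti.normal
  have hyK : y⁻¹ * x * y ∈ K := by simpa using h.ti.normal.conj_mem x hxK y⁻¹
  have ha1 : a = 1 := by
    rw [← Subgroup.mem_bot, ← h.ti.inf_eq_bot]
    exact ⟨by simpa [← e] using K.mul_mem (K.inv_mem (h.H_le hz)) hyK, ha⟩
  rw [ha1, mul_one] at e
  apply hx
  have := h.normalH.conj_mem z hz y
  rw [e] at this
  simpa [mul_assoc] using this

theorem ind_outer {x : L} (hx : x ∉ K) : sideInd h x = 1 := by
  classical
  obtain ⟨g, hg, hg2⟩ := h.ti.exists_conj_mem hx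
  set t := g * x * g⁻¹ with ht
  have htS : t ∈ H ⊔ W₁.subgroupOf L :=
    (sup_le (le_sup_right) (h.W2_le.trans le_sup_left) : W₁.subgroupOf L ⊔ W₂.subgroupOf L ≤ _) hg
  have htH : t ∉ H := fun e => hg2 (h.ti.mem₂_of_mem_kernel hg (h.H_le e))
  rw [sideInd, ← indFun_isClassFunction _ _ x g, ← ht, indFun]
  have hcount : ∀ y : L, extendByZero (H ⊔ W₁.subgroupOf L) (fun _ => (1 : ℂ)) (y⁻¹ * t * y) =
      if y ∈ H ⊔ W₁.subgroupOf L then 1 else 0 := fun y => by
    rw [d.extend_apply]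
    by_cases hy : y ∈ H ⊔ W₁.subgroupOf L
    · rw [if_pos hy, if_pos (Subgroup.mul_mem _ (Subgroup.mul_mem _ (Subgroup.inv_mem _ hy) htS) hy)]
    · rw [if_neg hy, if_neg]
      intro hc
      exact hy (by simpa using Subgroup.inv_mem _ (d.conj_sup htS htH (y := y⁻¹) (by simpa using hc)))
  rw [Finset.sum_congr rfl fun y _ => hcount y, Finset.sum_boole, ← Fintype.card_subtype,
    ← Nat.card_eq_fintype_card, inv_mul_cancel₀ (Nat.cast_ne_zero.mpr Nat.card_pos.ne')]

theorem sgn_eq_one {b : W₂.subgroupOf L →* ℂˣ} (hb : b ≠ 1) : h.sgn b = 1 := by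
  rcases h.ti.delta_eq_or (h.ti.col b) with e | e
  · exact e
  exfalso
  obtain ⟨m, hm⟩ := h.ti.degree_congr (h.ti.col b)
  rw [show h.ti.mu (h.ti.col b) 1 = h.ti.colChar b 1 from rfl, d.deg b hb, e, h.card₁] at hm
  have h3 := h.ti.three_le₁
  rw [h.card₁] at h3
  have hm' : (u : ℤ) + 1 = m * (Nat.card W₁ : ℤ) := by
    have : ((((u : ℤ) + 1 : ℤ)) : ℂ) = ((m * (Nat.card W₁ : ℤ) : ℤ) : ℂ) := by
      push_cast; linear_combination hm
    exact_mod_cast this
  have h1 : ((u + 1 : ℕ) : ℤ) % (Nat.card W₁ : ℤ) = 0 := by push_cast; rw [hm', Int.mul_emod_left]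
  have h2 : (u + 1) % Nat.card W₁ = 0 := by exact_mod_cast h1
  rw [Nat.add_mod, d.u_mod, Nat.one_mod_eq_one.mpr (by omega), Nat.mod_eq_of_lt (by omega)] at h2
  omega

theorem muAt_kernel_eq_zero {b : W₂.subgroupOf L →* ℂˣ} (hb : b ≠ 1) {x : L} (hxK : x ∈ K) (hx : x ∉ H) :
    h.muAt 1 b x = 0 := by
  classical
  haveI := Fintype.ofFinite (W₁.subgroupOf L →* ℂˣ)
  have h0 := muSum_vanish h d.abH (by rw [d.deg b hb, d.index]) hx
  rw [IsPrimeTI.muSum, Finset.sum_apply, Finset.sum_congr rfl fun a _ => show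
      h.ti.mu (h.ti.row a * h.ti.col b) x = h.ti.colChar b ⟨x, hxK⟩ from h.ti.mu_restrict a b ⟨x, hxK⟩,
    Finset.sum_const, nsmul_eq_mul, Finset.card_univ] at h0
  rw [h.muAt_kernel 1 b ⟨x, hxK⟩]
  exact (mul_eq_zero.mp h0).resolve_left (Nat.cast_ne_zero.mpr Fintype.card_ne_zero)

theorem alpha_class (b : W₂.subgroupOf L →* ℂˣ) : IsClassFunction L (sideAlpha h b) :=
  isClassFunction_sub (indFun_isClassFunction _ _) (isClassFunction_irr (h.isIrr_muAt 1 b))

theorem alpha_genChar (b : W₂.subgroupOf L →* ℂˣ) : IsGeneralizedCharacter L (sideAlpha h b) := by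
  haveI := Fintype.ofFinite ↥(H ⊔ W₁.subgroupOf L)
  exact isGenChar_sub (isGenChar_of_char (isCharacter_indFun _ (isCharacter_of_irr isIrrCharacter_one)))
    (isGenChar_of_char (isCharacter_of_irr (h.isIrr_muAt 1 b)))

theorem alpha_support {b : W₂.subgroupOf L →* ℂˣ} (hb : b ≠ 1) {x : L} (hx : (x : G) ∉ A₀) :
    sideAlpha h b x = 0 := by
  by_cases hxK : x ∈ K
  · by_cases hxH : x ∈ H
    · have hx1 : x = 1 := by
        by_contra hne
        exact hx (h.centralA x hxK hne x hxH hne rfl)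
      rw [sideAlpha, Pi.sub_apply, d.ind_mem hxH, hx1, show (1 : L) = ((1 : K) : L) from rfl, h.muAt_kernel,
        d.deg b hb, sub_self]
    · rw [sideAlpha, Pi.sub_apply, d.ind_kernel hxK hxH, d.muAt_kernel_eq_zero hb hxK hxH, sub_self]
  · obtain ⟨g, hg, hg2⟩ := h.ti.exists_conj_mem hxK
    rw [← d.alpha_class b x g]
    set t := g * x * g⁻¹ with ht
    by_cases ht1 : t ∈ W₁.subgroupOf L
    · have htK : t ∉ K := fun e => hg2 (h.ti.mem₂_of_mem_kernel hg e)
      rw [sideAlpha, Pi.sub_apply, d.ind_outer htK, h.muAt_apply 1 b (w := ⟨t, hg⟩) hg2, d.sgn_eq_one hb,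
        h.idx_apply₁ b (by rw [h.coe_wEquiv]; exact ht1), Units.val_one, one_mul, sub_self]
    · refine absurd ?_ hx
      have hmem : ((t : L) : G) ∈ A₀ := h.memV _ (by
          have := hg
          rw [h.sup_eq_subgroupOf] at this
          exact this) (fun e => ht1 e) fun e => hg2 e
      have := h.dade.conj_mem (g⁻¹ : L) (g⁻¹ : L).2 _ hmem
      rw [ht] at this
      simpa [mul_assoc] using this

theorem sum_mu_H {b : W₂.subgroupOf L →* ℂˣ} (hb : b ≠ 1) [DecidablePred (· ∈ H)] :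
    ∑ x ∈ Finset.univ.filter (· ∈ H), h.muAt 1 b x = 0 := by
  classical
  haveI := h.normalH
  haveI := Fintype.ofFinite K
  haveI : Fintype (H.subgroupOf K) := Fintype.ofFinite _
  have h0 : classInner (fun n : H.subgroupOf K => h.ti.colChar b n) (fun _ => 1) = 0 := by
    by_contra hne
    refine h.colChar_nontrivial hb fun x hx => ?_
    have h1 := clifford_invariant (H.subgroupOf K) (h.ti.isIrr_colChar b) isIrrCharacter_one hne fun g => rfl
    exact (congrFun h1 ⟨x, Subgroup.mem_subgroupOf.mpr hx⟩).trans (congrFun h1 1).symm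
  rw [classInner] at h0
  simp only [map_one, mul_one] at h0
  have h1 := (mul_eq_zero.mp h0).resolve_left (inv_ne_zero (Nat.cast_ne_zero.mpr Nat.card_pos.ne'))
  rw [← h1]
  exact Finset.sum_bij' (fun x hx => ⟨⟨x, h.H_le (Finset.mem_filter.mp hx).2⟩,
      Subgroup.mem_subgroupOf.mpr (Finset.mem_filter.mp hx).2⟩) (fun n _ => ((n : K) : L))
    (fun x _ => Finset.mem_univ _) (fun n _ => Finset.mem_filter.mpr ⟨Finset.mem_univ _, Subgroup.mem_subgroupOf.mp n.2⟩)
    (fun _ _ => rfl) (fun _ _ => rfl) fun x hx => h.muAt_kernel 1 b ⟨x, h.H_le (Finset.mem_filter.mp hx).2⟩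

theorem ind_class : IsClassFunction L (sideInd h) := indFun_isClassFunction _ _

theorem inner_ind_one : classInner (sideInd h) (fun _ => (1 : ℂ)) = 1 := by
  haveI := Fintype.ofFinite ↥(H ⊔ W₁.subgroupOf L)
  rw [sideInd, frobenius_reciprocity _ _ isClassFunction_one]
  exact classInner_irr_self isIrrCharacter_one

theorem inner_ind_mu {b : W₂.subgroupOf L →* ℂˣ} (hb : b ≠ 1) : classInner (sideInd h) (h.muAt 1 b) = 0 := by
  classical
  have hne : (fun _ : L => (1 : ℂ)) ≠ h.muAt 1 b := fun e => hb (by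
    have e' : h.muAt 1 b = h.muAt 1 1 := by
      rw [← e, IsPrimeDade.muAt, h.ti.row_one, h.ti.col_one, show (1 : WLin _ _) * 1 = 1 from MonoidHom.ext fun w => one_mul _, h.ti.mu_one.1]
    exact (h.muAt_eq_iff.mp e').2)
  have h1 : classInner (fun _ => (1 : ℂ)) (h.muAt 1 b) = 0 :=
    classInner_irr_ne isIrrCharacter_one (h.isIrr_muAt 1 b) hne
  have key : classInner (sideInd h) (h.muAt 1 b) - classInner (fun _ => (1 : ℂ)) (h.muAt 1 b) = 0 := by
    rw [← classInner_sub_left, classInner]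
    refine mul_eq_zero_of_right _ ?_
    rw [← Finset.sum_filter_add_sum_filter_not Finset.univ (· ∈ H),
      Finset.sum_eq_zero (s := Finset.univ.filter (¬ · ∈ H)) fun x hx => ?_, add_zero]
    · rw [Finset.sum_congr rfl fun x hx => show ((sideInd h - fun _ => (1 : ℂ)) : L → ℂ) x * conj (h.muAt 1 b x) =
          ((u : ℂ) - 1) * conj (h.muAt 1 b x) by rw [Pi.sub_apply, d.ind_mem (Finset.mem_filter.mp hx).2],
        ← Finset.mul_sum, ← map_sum, d.sum_mu_H hb, map_zero, mul_zero]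
    · have hxH := (Finset.mem_filter.mp hx).2
      by_cases hxK : x ∈ K
      · rw [d.muAt_kernel_eq_zero hb hxK hxH, map_zero, mul_zero]
      · rw [Pi.sub_apply, d.ind_outer hxK, sub_self, zero_mul]
  rwa [h1, sub_zero] at key

/-- `(u - 1) / q`, the number of irreducible constituents of degree `q` of `Ind_{HW₁}^L 1`. -/
theorem inner_ind_self :
    classInner (sideInd h) (sideInd h) = (((u - 1) / Nat.card W₁ : ℕ) : ℂ) + 1 := by
  classical
  haveI := Fintype.ofFinite ↥(H ⊔ W₁.subgroupOf L)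
  conv_lhs => arg 1; rw [sideInd]
  rw [frobenius_reciprocity _ _ d.ind_class, classInner, ← Finset.sum_filter_add_sum_filter_not Finset.univ
    (fun x : ↥(H ⊔ W₁.subgroupOf L) => (x : L) ∈ H),
    Finset.sum_congr rfl fun x hx => by rw [d.ind_mem (Finset.mem_filter.mp hx).2, Complex.conj_natCast, one_mul],
    Finset.sum_congr (s₁ := Finset.univ.filter fun x : ↥(H ⊔ W₁.subgroupOf L) => ¬(x : L) ∈ H) rfl fun x hx => by
      rw [d.ind_outer (fun hK => (Finset.mem_filter.mp hx).2 (by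
        obtain ⟨z, hz, a, ha, e⟩ := d.mem_sup_iff.mp x.2
        have ha1 : a = 1 := by
          rw [← Subgroup.mem_bot, ← h.ti.inf_eq_bot]
          exact ⟨by simpa [← e] using K.mul_mem (K.inv_mem (h.H_le hz)) hK, ha⟩
        rw [← e, ha1, mul_one]; exact hz)), map_one, one_mul],
    Finset.sum_const, Finset.sum_const, nsmul_eq_mul, nsmul_eq_mul, mul_one]
  have hc1 : (Finset.univ.filter fun x : ↥(H ⊔ W₁.subgroupOf L) => (x : L) ∈ H).card = Nat.card H := by
    rw [← Fintype.card_subtype, ← Nat.card_eq_fintype_card]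
    exact Nat.card_congr (Equiv.subtypeSubtypeEquivSubtype fun {x} hx => Subgroup.mem_sup_left hx)
  have hc2 := Finset.card_filter_add_card_filter_not (s := (Finset.univ : Finset ↥(H ⊔ W₁.subgroupOf L)))
    fun x => (x : L) ∈ H
  rw [hc1, Finset.card_univ, ← Nat.card_eq_fintype_card, d.card_sup] at hc2
  set c2 := (Finset.univ.filter fun x : ↥(H ⊔ W₁.subgroupOf L) => ¬(x : L) ∈ H).card
  rw [hc1, d.card_sup]
  have hq := h.ti.three_le₁
  rw [h.card₁] at hq
  have hu := d.u_mod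
  have hdiv := Nat.div_add_mod u (Nat.card W₁)
  rw [hu] at hdiv
  obtain ⟨m, hm⟩ : ∃ m, u = Nat.card W₁ * m + 1 := ⟨_, hdiv.symm⟩
  rw [hm, Nat.add_sub_cancel, Nat.mul_div_cancel_left _ (by omega)]
  have hH0 : (Nat.card H : ℂ) ≠ 0 := Nat.cast_ne_zero.mpr Nat.card_pos.ne'
  have hq0 : (Nat.card W₁ : ℂ) ≠ 0 := Nat.cast_ne_zero.mpr (by omega)
  have hc2' : (c2 : ℂ) = Nat.card H * Nat.card W₁ - Nat.card H := by
    rw [eq_sub_iff_add_eq', ← Nat.cast_mul, ← Nat.cast_add, hc2]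
  rw [hc2', Nat.cast_mul]
  push_cast
  field_simp
  ring

theorem beta_genChar {b : W₂.subgroupOf L →* ℂˣ} (hb : b ≠ 1) : IsGeneralizedCharacter G (sideBeta h b) :=
  isGenChar_dade h.dade (d.alpha_genChar b) fun _ hx => d.alpha_support hb hx

theorem beta_inner_one {b : W₂.subgroupOf L →* ℂˣ} (hb : b ≠ 1) :
    classInner (sideBeta h b) (fun _ => (1 : ℂ)) = 1 := by
  classical
  rw [sideBeta, classInner_dade_dadeRho h.dade (d.alpha_class b) (fun _ hx => d.alpha_support hb hx) isClassFunction_one]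
  have hval : ∀ x : L, sideAlpha h b x * conj (dadeRho A₀ L R (fun _ => (1 : ℂ)) x) = sideAlpha h b x * conj (1 : ℂ) := by
    intro x
    by_cases hx : (x : G) ∈ A₀
    · rw [dadeRho_one hx]
    · rw [d.alpha_support hb hx, zero_mul, zero_mul]
  rw [classInner, Finset.sum_congr rfl fun x _ => hval x]
  show classInner (sideAlpha h b) (fun _ => (1 : ℂ)) = 1
  rw [sideAlpha, classInner_sub_left, d.inner_ind_one, classInner_irr_ne (h.isIrr_muAt 1 b) isIrrCharacter_one ?_,
    sub_zero]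
  intro e
  refine hb (h.muAt_eq_iff (a := 1) (a' := 1) (b' := 1) |>.mp ?_).2
  rw [e, IsPrimeDade.muAt, h.ti.row_one, h.ti.col_one, show (1 : WLin _ _) * 1 = 1 from MonoidHom.ext fun w => one_mul _, h.ti.mu_one.1]

theorem beta_norm {b : W₂.subgroupOf L →* ℂˣ} (hb : b ≠ 1) :
    classInner (sideBeta h b) (sideBeta h b) = (((u - 1) / Nat.card W₁ : ℕ) : ℂ) + 2 := by
  rw [sideBeta, classInner_dade_dade h.dade (d.alpha_class b) (fun _ hx => d.alpha_support hb hx) (d.alpha_class b), sideAlpha, classInner_sub_left, classInner_sub_right, classInner_sub_right,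
    d.inner_ind_self, d.inner_ind_mu hb, ← classInner_comm (sideInd h) (h.muAt 1 b), d.inner_ind_mu hb,
    classInner_irr_self (h.isIrr_muAt 1 b), map_zero]
  ring

theorem gamma_apply_V {b : W₂.subgroupOf L →* ℂˣ} (hb : b ≠ 1) (hχ : IsCyclicTIFamily W₁ W₂ χ) {v : G}
    (hv : v ∈ W₁ ⊔ W₂) (h1 : v ∉ W₁) (h2 : v ∉ W₂) : sideGamma h χ b v = 0 := by
  have hvW : (⟨v, h.le_sup hv⟩ : L) ∈ W₁.subgroupOf L ⊔ W₂.subgroupOf L := by
    rw [h.sup_eq_subgroupOf]; exact hv
  have hn : (⟨v, h.le_sup hv⟩ : L) ∉ K := fun e => h2 (h.ti.mem₂_of_mem_kernel hvW e)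
  rw [sideGamma, Pi.add_apply, Pi.sub_apply, sideBeta, h.dade_apply_V (d.alpha_class b) hv h1 h2, sideAlpha,
    Pi.sub_apply, d.ind_outer hn, h.muAt_apply 1 b (w := ⟨_, hvW⟩) h2, d.sgn_eq_one hb, hχ.eq_on (h.idx 1 b) ⟨v, hv⟩ h1 h2,
    show h.wEquiv ⟨_, hvW⟩ = (⟨v, hv⟩ : ↥(W₁ ⊔ W₂)) from rfl]
  ring

theorem gamma_indep {b c : W₂.subgroupOf L →* ℂˣ} (hb : b ≠ 1) (hc : c ≠ 1) (hχ : IsCyclicTIFamily W₁ W₂ χ) :
    sideGamma h χ b = sideGamma h χ c := by
  have e : sideBeta h b - sideBeta h c = χ (h.idx 1 c) - χ (h.idx 1 b) := by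
    rw [sideBeta, sideBeta, ← dade_sub, show sideAlpha h b - sideAlpha h c = h.muAt 1 c - h.muAt 1 b by
      rw [sideAlpha, sideAlpha, sub_sub_sub_cancel_left],
      h.dade_muAt_sub hχ 1 hc hb (by rw [d.deg b hb, d.deg c hc]), d.sgn_eq_one hc, one_smul]
  funext g
  have := congrFun e g
  simp only [sideGamma, Pi.sub_apply, Pi.add_apply] at this ⊢
  linear_combination this

theorem gamma_genChar {b : W₂.subgroupOf L →* ℂˣ} (hb : b ≠ 1) (hχ : IsCyclicTIFamily W₁ W₂ χ) :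
    IsGeneralizedCharacter G (sideGamma h χ b) :=
  isGenChar_add (isGenChar_sub (d.beta_genChar hb) (isGenChar_of_char (isCharacter_of_irr isIrrCharacter_one)))
    (cycFamily_signed hχ _)

theorem gamma_inner_one {b : W₂.subgroupOf L →* ℂˣ} (hb : b ≠ 1) (hχ : IsCyclicTIFamily W₁ W₂ χ) :
    classInner (sideGamma h χ b) (fun _ => (1 : ℂ)) = 0 := by
  rw [sideGamma, classInner_add_left, classInner_sub_left, d.beta_inner_one hb, classInner_irr_self isIrrCharacter_one,
    ← hχ.map_one, hχ.orthonormal, if_neg (h.idx_right_ne_one hb), sub_self, add_zero]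

theorem gamma_real {b : W₂.subgroupOf L →* ℂˣ} (hb : b ≠ 1) (hχ : IsCyclicTIFamily W₁ W₂ χ) :
    conjFun (sideGamma h χ b) = sideGamma h χ b := by
  have hμ : conjFun (h.muAt 1 b) = h.muAt 1 b⁻¹ := by
    rw [IsPrimeDade.muAt, IsPrimeDade.muAt, (h.ti.mu_conj _).1]
    congr 1
    refine MonoidHom.ext fun w => ?_
    simp [h.ti.row_one, h.ti.col_inv]
  have hI : conjFun (sideInd h) = sideInd h := by
    funext x
    simp only [conjFun]
    by_cases hxK : x ∈ K
    · by_cases hxH : x ∈ H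
      · rw [d.ind_mem hxH, Complex.conj_natCast]
      · rw [d.ind_kernel hxK hxH, map_zero]
    · rw [d.ind_outer hxK, map_one]
  have hα : conjFun (sideAlpha h b) = sideAlpha h b⁻¹ := by
    rw [sideAlpha, sideAlpha, ← hμ]
    conv_rhs => rw [← hI]
    funext x
    simp [conjFun]
  have hη : conjFun (χ (h.idx 1 b)) = χ (h.idx 1 b⁻¹) := by
    rw [cycFamily_conj h.selfNormG h.oddW hχ, ← h.idx_inv,
      show (1 : W₁.subgroupOf L →* ℂˣ)⁻¹ = 1 from MonoidHom.ext fun w => by simp]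
  conv_rhs => rw [d.gamma_indep hb (h.inv_ne_one₂ hb) hχ]
  funext g
  have e1 := congrFun (dade_conjFun (A := A₀) (H := R) (sideAlpha h b)) g
  rw [hα] at e1
  have e2 := congrFun hη g
  simp only [sideGamma, sideBeta, conjFun, Pi.add_apply, Pi.sub_apply, map_add, map_sub, map_one] at e1 e2 ⊢
  rw [e2, ← e1]

/-- `‖Γ‖² = n + 2B`. -/
theorem gamma_norm {b : W₂.subgroupOf L →* ℂˣ} (hb : b ≠ 1) (hχ : IsCyclicTIFamily W₁ W₂ χ) {B : ℤ}
    (hB : classInner (sideGamma h χ b) (χ (h.idx 1 b)) = (B : ℂ)) :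
    classInner (sideGamma h χ b) (sideGamma h χ b) = (((u - 1) / Nat.card W₁ : ℕ) : ℂ) + 2 * B := by
  have hη1 : classInner (χ (h.idx 1 b)) (fun _ => (1 : ℂ)) = 0 := by
    rw [← hχ.map_one, hχ.orthonormal, if_neg (h.idx_right_ne_one hb)]
  have hηη : classInner (χ (h.idx 1 b)) (χ (h.idx 1 b)) = 1 := by rw [hχ.orthonormal, if_pos rfl]
  have hη1' : classInner (fun _ => (1 : ℂ)) (χ (h.idx 1 b)) = 0 := by
    rw [← classInner_comm, hη1, map_zero]
  have hβη : classInner (sideBeta h b) (χ (h.idx 1 b)) = (B : ℂ) - 1 := by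
    rw [← hB, sideGamma, classInner_add_left, classInner_sub_left, hηη, hη1']
    ring
  have hηβ : classInner (χ (h.idx 1 b)) (sideBeta h b) = (B : ℂ) - 1 := by
    rw [← classInner_comm, hβη, map_sub, map_one, map_intCast]
  have h1β : classInner (fun _ => (1 : ℂ)) (sideBeta h b) = 1 := by
    rw [← classInner_comm, d.beta_inner_one hb, map_one]
  rw [sideGamma]
  simp only [classInner_add_left, classInner_add_right, classInner_sub_left, classInner_sub_right, d.beta_norm hb,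
    d.beta_inner_one hb, hη1, hη1', hηη, hβη, hηβ, h1β, classInner_irr_self isIrrCharacter_one]
  ring

/-- The coefficient of `Γ` at every `η_{0b}` is one integer `B`. -/
theorem exists_column_coeff {b : W₂.subgroupOf L →* ℂˣ} (hb : b ≠ 1) (hχ : IsCyclicTIFamily W₁ W₂ χ) :
    ∃ B : ℤ, ∀ c, c ≠ 1 → classInner (sideGamma h χ b) (χ (h.idx 1 c)) = (B : ℂ) := by
  obtain ⟨B, hB⟩ := classInner_genChar_int (d.gamma_genChar hb hχ) (cycFamily_signed hχ (h.idx 1 b))
  refine ⟨B, fun c hc => ?_⟩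
  obtain ⟨C, hC⟩ := classInner_genChar_int (d.gamma_genChar hc hχ) (cycFamily_signed hχ (h.idx 1 c))
  rw [d.gamma_indep hb hc hχ, hC]
  have e := d.gamma_norm hb hχ hB
  rw [d.gamma_indep hb hc hχ, d.gamma_norm hc hχ hC] at e
  linear_combination e / 2

/-- **(L4)**: against a function orthogonal to `1` and to the `η_{0c}` the bridge has squared coefficient at most
`n` times the squared norm. -/
theorem beta_bessel {b : W₂.subgroupOf L →* ℂˣ} (hb : b ≠ 1) (hχ : IsCyclicTIFamily W₁ W₂ χ) {f : G → ℂ}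
    (hf1 : classInner f (fun _ => (1 : ℂ)) = 0) (hf : ∀ c, c ≠ 1 → classInner f (χ (h.idx 1 c)) = 0) :
    Complex.normSq (classInner (sideBeta h b) f) ≤ (((u - 1) / Nat.card W₁ : ℕ) : ℝ) * meanSq f := by
  classical
  obtain ⟨B, hB⟩ := d.exists_column_coeff hb hχ
  haveI := Fintype.ofFinite (W₂.subgroupOf L →* ℂˣ)
  set J := (Finset.univ : Finset (W₂.subgroupOf L →* ℂˣ)).erase 1 with hJ
  set Y : G → ℂ := ∑ c ∈ J, (B : ℂ) • χ (h.idx 1 c) with hY
  set P : G → ℂ := sideGamma h χ b - Y with hP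
  have hYη : ∀ c ∈ J, classInner Y (χ (h.idx 1 c)) = (B : ℂ) := fun c hc => by
    rw [hY, classInner_sum_left, Finset.sum_eq_single c (fun e _ he => by
      rw [classInner_smul_left, hχ.orthonormal, if_neg fun e' => he (h.idx_eq_iff.mp e').2, mul_zero])
      (fun hn => absurd hc hn), classInner_smul_left, hχ.orthonormal, if_pos rfl, mul_one]
  have hYf : classInner Y f = 0 := by
    rw [hY, classInner_sum_left]
    refine Finset.sum_eq_zero fun c hc => ?_
    rw [classInner_smul_left, ← classInner_comm f, hf c (Finset.mem_erase.mp hc).1, map_zero, mul_zero]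
  have hPf : classInner P f = classInner (sideBeta h b) f := by
    rw [hP, classInner_sub_left, hYf, sub_zero, sideGamma, classInner_add_left, classInner_sub_left,
      ← classInner_comm f (fun _ => (1 : ℂ)), hf1, ← classInner_comm f (χ (h.idx 1 b)), hf b hb, map_zero]
    ring
  have hYY : classInner Y Y = (J.card : ℂ) * B ^ 2 := by
    conv_lhs => arg 2; rw [hY]
    rw [classInner_sum_right, Finset.sum_congr rfl fun c hc => by rw [classInner_smul_right, hYη c hc, map_intCast],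
      Finset.sum_const, nsmul_eq_mul]
    ring
  have hΓY : classInner (sideGamma h χ b) Y = (J.card : ℂ) * B ^ 2 := by
    rw [hY, classInner_sum_right, Finset.sum_congr rfl fun c hc => by
      rw [classInner_smul_right, hB c (Finset.mem_erase.mp hc).1, map_intCast], Finset.sum_const, nsmul_eq_mul]
    ring
  have hPP : meanSq P = ((((u - 1) / Nat.card W₁ : ℕ) : ℝ) + 2 * B - (J.card : ℝ) * B ^ 2) := by
    have e : classInner P P = ((((u - 1) / Nat.card W₁ : ℕ) : ℂ) + 2 * B - (J.card : ℂ) * B ^ 2) := by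
      rw [hP, classInner_sub_left, classInner_sub_right, classInner_sub_right, d.gamma_norm hb hχ (hB b hb), hΓY,
        ← classInner_comm (sideGamma h χ b) Y, hΓY, hYY, map_mul, map_natCast, map_pow, map_intCast]
      ring
    rw [classInner_self_eq_meanSq] at e
    apply Complex.ofReal_injective
    rw [e]
    push_cast
    ring
  have hcard : 2 ≤ J.card := by
    rw [hJ, Finset.card_erase_of_mem (Finset.mem_univ _), Finset.card_univ, ← Nat.card_eq_fintype_card]
    have h3 := h.ti.three_le₂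
    have hc := sum_hom_abelian h.ti.comm₂ 1
    simp at hc
    have hc' : Fintype.card (W₂.subgroupOf L →* ℂˣ) = Nat.card (W₂.subgroupOf L) := by
      rw [Nat.card_eq_fintype_card]; exact_mod_cast hc
    rw [Nat.card_eq_fintype_card (α := W₂.subgroupOf L →* ℂˣ), hc']
    omega
  have hle : meanSq P ≤ (((u - 1) / Nat.card W₁ : ℕ) : ℝ) := by
    have hB2 : (B : ℝ) ≤ (B : ℝ) ^ 2 := by exact_mod_cast Int.le_self_sq B
    have hc2 : (2 : ℝ) ≤ (J.card : ℝ) := by exact_mod_cast hcard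
    rw [hPP]
    nlinarith [sq_nonneg (B : ℝ)]
  rw [← hPf]
  exact (normSq_classInner_le P f).trans (mul_le_mul_of_nonneg_right hle (meanSq_nonneg f))

/-- **(L4)**, the case of equality: the bridge is `1 - η_{0b}` and a multiple of the test function. -/
theorem beta_tight (hW₂ : 4 ≤ Nat.card W₂) {b : W₂.subgroupOf L →* ℂˣ} (hb : b ≠ 1)
    (hχ : IsCyclicTIFamily W₁ W₂ χ) {f : G → ℂ}
    (hf1 : classInner f (fun _ => (1 : ℂ)) = 0) (hf : ∀ c, c ≠ 1 → classInner f (χ (h.idx 1 c)) = 0)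
    (hf0 : 0 < meanSq f)
    (ht : (((u - 1) / Nat.card W₁ : ℕ) : ℝ) * meanSq f ≤ Complex.normSq (classInner (sideBeta h b) f)) :
    sideBeta h b = (fun _ => 1) - χ (h.idx 1 b) + (classInner (sideBeta h b) f / (meanSq f : ℂ)) • f := by
  classical
  obtain ⟨B, hB⟩ := d.exists_column_coeff hb hχ
  haveI := Fintype.ofFinite (W₂.subgroupOf L →* ℂˣ)
  have hc2 : Fintype.card (W₂.subgroupOf L →* ℂˣ) = Nat.card W₂ := by
    have := sum_hom_abelian h.ti.comm₂ 1
    simp at this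
    rw [← h.card₂, Nat.card_eq_fintype_card (α := W₂.subgroupOf L)]
    exact_mod_cast this
  set Γ := sideGamma h χ b with hΓ
  set J := (Finset.univ : Finset (W₂.subgroupOf L →* ℂˣ)).erase 1 with hJ
  have hηm : ∀ c, meanSq (χ (h.idx 1 c)) = 1 := fun c => Complex.ofReal_injective (by
    rw [← classInner_self_eq_meanSq, hχ.orthonormal, if_pos rfl, Complex.ofReal_one])
  have hΓf : classInner Γ f = classInner (sideBeta h b) f := by
    rw [hΓ, sideGamma, classInner_add_left, classInner_sub_left, ← classInner_comm f (fun _ => (1 : ℂ)), hf1,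
      ← classInner_comm f (χ (h.idx 1 b)), hf b hb, map_zero]
    ring
  set F : Option (W₂.subgroupOf L →* ℂˣ) → G → ℂ := fun o => o.elim f fun c => χ (h.idx 1 c) with hF
  have horth : ∀ i ∈ J.insertNone, ∀ j ∈ J.insertNone, i ≠ j → classInner (F i) (F j) = 0 := by
    rintro (_ | c) hi (_ | c') hj hne <;> simp only [hF, Option.elim_none, Option.elim_some]
    · exact absurd rfl hne
    · exact hf c' (Finset.ne_of_mem_erase (Finset.some_mem_insertNone.mp hj))
    · rw [← classInner_comm, hf c (Finset.ne_of_mem_erase (Finset.some_mem_insertNone.mp hi)), map_zero]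
    · rw [hχ.orthonormal, if_neg fun e => hne (by rw [(h.idx_eq_iff.mp e).2])]
  have hsum : ∑ i ∈ J.insertNone, Complex.normSq (classInner Γ (F i)) / meanSq (F i) =
      Complex.normSq (classInner (sideBeta h b) f) / meanSq f + ((Nat.card W₂ : ℝ) - 1) * (B : ℝ) ^ 2 := by
    rw [Finset.sum_insertNone, Finset.sum_congr rfl fun c hc => show _ = (B : ℝ) ^ 2 by
      simp only [hF, Option.elim_some]
      rw [hηm, div_one, hΓ, hB c (Finset.ne_of_mem_erase hc), Complex.normSq_intCast]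
      ring]
    simp only [hF, Option.elim_none, hΓf, Finset.sum_const, nsmul_eq_mul, hJ,
      Finset.card_erase_of_mem (Finset.mem_univ _), Finset.card_univ, hc2, Nat.cast_sub Nat.card_pos, Nat.cast_one]
  have hnorm : meanSq Γ = (((u - 1) / Nat.card W₁ : ℕ) : ℝ) + 2 * B := by
    apply Complex.ofReal_injective
    rw [← classInner_self_eq_meanSq, hΓ, d.gamma_norm hb hχ (hB b hb)]
    push_cast
    ring
  have hle := bessel_orth J.insertNone F horth Γ
  rw [hsum, hnorm] at hle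
  have hn : (((u - 1) / Nat.card W₁ : ℕ) : ℝ) ≤ Complex.normSq (classInner (sideBeta h b) f) / meanSq f := by
    rwa [le_div_iff₀ hf0]
  have hB0 : B = 0 := by
    by_contra hne
    have h1 : (B : ℝ) ≤ (B : ℝ) ^ 2 := by exact_mod_cast Int.le_self_sq B
    have h2 : (1 : ℝ) ≤ (B : ℝ) ^ 2 := by exact_mod_cast one_le_sq_of_ne_zero hne
    have h3 : (3 : ℝ) * (B : ℝ) ^ 2 ≤ ((Nat.card W₂ : ℝ) - 1) * (B : ℝ) ^ 2 :=
      mul_le_mul_of_nonneg_right (by have : (4 : ℝ) ≤ (Nat.card W₂ : ℝ) := by exact_mod_cast hW₂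
                                     linarith) (sq_nonneg _)
    linarith
  have hproj := eq_proj_of_tight J.insertNone F horth Γ (by rw [hsum, hnorm, hB0]; push_cast; linarith)
  rw [Finset.sum_insertNone, Finset.sum_eq_zero fun c hc => by
    simp only [hF, Option.elim_some]
    rw [hΓ, hB c (Finset.ne_of_mem_erase hc), hB0, Int.cast_zero, zero_div, zero_smul], add_zero] at hproj
  simp only [hF, Option.elim_none] at hproj
  rw [hΓf, hΓ, sideGamma] at hproj
  funext g
  have := congrFun hproj g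
  simp only [Pi.add_apply, Pi.sub_apply] at this ⊢
  linear_combination this

end SideData

end CfsgLib.OddOrder.S14
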