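import Cfsg.Agent.Lib.OddOrder.S13.Values
import Cfsg.Agent.Lib.OddOrder.S13.Fpf
import Cfsg.Agent.Lib.OddOrder.S8.Supports
import Cfsg.Agent.Lib.OddOrder.S8.Tame
import Cfsg.Agent.Lib.OddOrder.S12.CoherentData
import Cfsg.Agent.Lib.OddOrder.S14.BetaS

/-!
Section 14 of the blueprint, §0: the facts used by the bridges, from the pair, `FTImports` and the classification
of the maximal subgroups by the pair.
-/

set_option autoImplicit false
set_option linter.unusedSectionVars false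
set_option linter.style.haveILetI false

open Subgroup Cfsg CfsgLib.MinSimpleOdd CfsgLib.OddOrder.S9 CfsgLib.OddOrder.Found CfsgLib.CharTheory
open scoped commutatorElement Pointwise

universe u

variable {G : Type u} [Group G]

namespace CfsgLib.OddOrder.S13.FTPair

variable [Finite G] {S T W₁ W₂ U V : Subgroup G} (h : FTPair S T W₁ W₂ U V) (imp : FTImports G)
include h imp

theorem le_S₂ : W₂ ≤ S := (h.typeData imp).W2_le.trans (h.typeData imp).H_le

theorem primeTI : IsPrimeTI (derK S) (W₁.subgroupOf S) (W₂.subgroupOf S) := by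
  have d := h.typeData imp
  haveI := Fact.mk (h.q_prime imp)
  haveI := Fact.mk (h.p_prime imp)
  have c1 : Nat.card (W₁.subgroupOf S) = Nat.card W₁ := Nat.card_congr (subgroupOfEquivOfLe d.W_le).toEquiv
  have c2 : Nat.card (W₂.subgroupOf S) = Nat.card W₂ := Nat.card_congr (subgroupOfEquivOfLe (h.le_S₂ imp)).toEquiv
  have c3 : Nat.card (derK S) = Nat.card (⁅S, S⁆ : Subgroup G) :=
    Nat.card_congr (subgroupOfEquivOfLe (commutator_le_self S)).toEquiv
  refine
    { normal := (normal_subgroupOf_iff_le_normalizer (commutator_le_self S)).mpr le_normalizer_derived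
      inf_eq_bot := (comap_inf _ _ _).symm.trans (by rw [d.compl_W.2.2.1]; exact bot_subgroupOf S)
      sup_eq_top := ?_
      ne_bot₁ := fun e => (h.q_prime imp).ne_one (by rw [← c1, e, card_bot])
      cyclic₁ := isCyclic_of_prime_card c1
      hall := ?_
      ne_bot₂ := fun e => (h.p_prime imp).ne_one (by rw [← c2, e, card_bot])
      cyclic₂ := isCyclic_of_prime_card c2
      le_kernel := fun x hx => d.H_le_der (d.W2_le hx)
      centralizer_eq := fun x hx hx1 => ?_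
      odd := Odd.of_dvd_nat d.odd (card_subgroup_dvd_card _) }
  · refine eq_top_iff.mpr fun x _ => ?_
    obtain ⟨a, ha, b, hb, e⟩ := d.compl_W.2.2.2 (x : G) x.2
    rw [show x = (⟨a, commutator_le_self S ha⟩ : S) * ⟨b, d.W_le hb⟩ from Subtype.ext e]
    exact mul_mem_sup ha hb
  · rw [c1]
    have h1 := card_mul_index (W₁.subgroupOf S)
    rw [c1, card_complIn d.compl_W, mul_comm (Nat.card (⁅S, S⁆ : Subgroup G))] at h1
    rw [Nat.eq_of_mul_eq_mul_left Nat.card_pos h1]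
    exact d.copW
  · rw [← d.W2_eq (x : G) hx fun e => hx1 (Subtype.ext e)]
    ext y
    simp only [mem_inf, mem_subgroupOf, mem_centralizer_singleton_iff]
    exact and_congr_right fun _ => ⟨fun e => congrArg Subtype.val e, fun e => Subtype.ext e⟩

theorem typeA0_dade : DadeHypothesis (typeA0 S) S (fun _ => ⊥) := by
  classical
  obtain ⟨hti, hn⟩ := S8.ftPair_typeA0_TI h imp
  have hsub : ∀ a ∈ typeA0 S, a ∈ S ∧ a ≠ 1 := by
    rintro a (ha | ⟨-, X₁, X, X₂, hP, m, hm, w, hw, hw1, hw2, rfl⟩)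
    · unfold typeA at ha
      split at ha
      · exact ⟨ha.1, ha.2.1⟩
      · exact ⟨commutator_le_self S ha.1, ha.2.1⟩
    · obtain ⟨⟨x, hx⟩, hx1⟩ := ne_bot_iff_exists_ne_one.mp hP.W₁_ne
      have h2 : X₂ ≤ S := by
        rw [← hP.W₂_centralizer x hx fun e => hx1 (Subtype.ext e)]
        exact inf_le_left.trans (commutator_le_self S)
      refine ⟨S.mul_mem (S.mul_mem hm (sup_le hP.W₁_compl.2.1 h2 hw)) (S.inv_mem hm), fun e => hw1 ?_⟩
      rw [conj_eq_one_iff.mp e]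
      exact X₁.one_mem
  have hconj : ∀ g ∈ S, ∀ a ∈ typeA0 S, g * a * g⁻¹ ∈ typeA0 S := fun g hg a ha =>
    ((hn.ge hg : g ∈ normalizer (typeA0 S)) a).mp ha
  have hfus : ∀ a ∈ typeA0 S, ∀ g : G, g * a * g⁻¹ ∈ typeA0 S → g ∈ S := fun a ha g hga => by
    rw [← hn]
    by_contra hg
    exact (hsub a ha).2 (hti g hg a ha hga)
  exact
    { one_not_mem := fun h1 => (hsub 1 h1).2 rfl
      subset := fun a ha => (hsub a ha).1
      conj_mem := hconj
      fusion := fun a ha g hga => ⟨g, hfus a ha g hga, rfl⟩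
      le_centralizer := fun _ _ => bot_le
      conj_mem_H := fun a _ c _ u hu => by rw [mem_bot] at hu ⊢; simp [hu]
      inf_eq_bot := fun _ _ => bot_inf_eq _
      sup_eq := fun a ha => by
        rw [bot_sup_eq, inf_eq_right]
        exact fun c hc => hfus a ha c (by rwa [mem_centralizer_singleton_iff.mp hc, mul_inv_cancel_right])
      coprime := fun _ _ _ _ => by rw [card_bot]; exact Nat.coprime_one_left _ }

/-- The Dade data of a member of the pair on `A₀`. -/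
theorem primeDade :
    IsPrimeDade S (derK S) ((fittingHallOf S).subgroupOf S) W₁ W₂ (typeA0 S) (fun _ => ⊥) := by
  classical
  have d := h.typeData imp
  refine
    { le₁ := d.W_le
      le₂ := h.le_S₂ imp
      ti := h.primeTI imp
      selfNormG := h.hSP.selfNormalizing
      normalH := (normal_subgroupOf_iff_le_normalizer d.H_le).mpr d.H_normal
      W2_le := fun x hx => d.W2_le hx
      H_le := fun x hx => d.H_le_der hx
      centralA := fun k hk hk1 x hx hx1 e => Or.inl ?_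
      memV := fun v hv h1 h2 =>
        Or.inr ⟨?_, W₁, U, W₂, h.hSP, 1, S.one_mem, v, hv, h1, h2, by group⟩
      dade := h.typeA0_dade imp }
  · have hk1' : (k : G) ≠ 1 := fun e' => hk1 (Subtype.ext e')
    have hx1' : (x : G) ≠ 1 := fun e' => hx1 (Subtype.ext e')
    have e' : (k : G) * x = x * k := congrArg Subtype.val e
    have hcore : (x : G) ∈ typeCore S := by
      unfold typeCore
      split
      · exact d.H_le_der hx
      · exact hx
    unfold typeA
    split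
    · exact ⟨k.2, hk1', x, hx, hx1', e'⟩
    · exact ⟨hk, hk1', x, hcore, hx1', e'⟩
  · intro hI
    obtain ⟨K, hK⟩ := CfsgLib.exists_isPiHallOf (kappa S) (M := S) (solvable_of_ne_top h.hG h.hS.1)
    obtain ⟨U₀, hKU⟩ := exists_sigmaDecomposition h.hG h.hS (kappaHall_cyclic h.hG h.hS hK) hK
    obtain ⟨hK1, -, -⟩ := typeP_facts h.hG h.hS h.hSP hKU
    obtain ⟨r, hr, hrd⟩ := Nat.exists_prime_and_dvd fun e => hK1 (card_eq_one.mp e)
    have hne : (kappa S).Nonempty := ⟨r, hK.2.1 r hr hrd⟩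
    exact hne.ne_empty (typeF_kappa_eq_empty h.hG h.hS hI.1)

theorem C_eq_bot : sideC S U = ⊥ := by
  haveI := Fintype.ofFinite G
  exact h.sideC_eq_bot imp (h.primeDade imp) (h.swap.primeDade imp)

theorem card_U_eq : Nat.card U = (sideC S U).relIndex U := by
  rw [h.C_eq_bot imp, relIndex_bot_left]

theorem u_gt : 1 < Nat.card U := by
  rw [h.card_U_eq imp]
  exact (h.q_prime imp).one_lt.trans (h.u_facts imp).2.2.1

theorem u_mod : Nat.card U % Nat.card W₁ = 1 := by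
  rw [h.card_U_eq imp]
  exact (h.u_facts imp).2.1

theorem u_cases : (IsGalois (fittingHallOf S) U ⊥ ∧
      (Nat.card U = geom (Nat.card W₂) (Nat.card W₁) ∨
        Nat.card W₁ * Nat.card U = geom (Nat.card W₂) (Nat.card W₁))) ∨
    (¬ IsGalois (fittingHallOf S) U ⊥ ∧ Nat.card W₁ = 3) := by
  haveI := Fintype.ofFinite G
  rw [h.card_U_eq imp]
  exact (h.values imp (h.primeDade imp) (h.swap.primeDade imp)).2

theorem u_shape : Nat.card U ∣ geom (Nat.card W₂) (Nat.card W₁) ∨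
    ∃ a, Odd a ∧ a ∣ Nat.card W₂ - 1 ∧ Nat.card U ∣ a ^ (Nat.card W₁ - 1) := by
  rw [h.card_U_eq imp]
  by_cases hg : IsGalois (fittingHallOf S) U ⊥
  · exact Or.inl (h.u_galois imp hg).2.1
  · obtain ⟨a, h1, -, h3, -, h5⟩ := h.u_lines imp hg
    exact Or.inr ⟨a, h1, (dvd_mul_left a 2).trans h3, h5⟩

theorem u_full_or : Nat.card U = geom (Nat.card W₂) (Nat.card W₁) ∨
    3 * Nat.card U * (Nat.card W₂ - 1) ≤ Nat.card W₂ ^ Nat.card W₁ - 1 := by
  have hp := h.p_prime imp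
  have hq3 : 3 ≤ Nat.card W₁ := by
    obtain ⟨k, hk⟩ := h.q_odd imp
    have := (h.q_prime imp).two_le
    omega
  have hg := geom_mul_pred (p := Nat.card W₂) (q := Nat.card W₁) hp.one_le
  rcases h.u_cases imp with ⟨-, e | e⟩ | ⟨hgal, hq⟩
  · exact Or.inl e
  · refine Or.inr ?_
    have h3 : 3 * Nat.card U * (Nat.card W₂ - 1) ≤ geom (Nat.card W₂) (Nat.card W₁) * (Nat.card W₂ - 1) :=
      Nat.mul_le_mul_right _ (by rw [← e]; exact Nat.mul_le_mul_right _ hq3)
    omega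
  · refine Or.inr ?_
    obtain ⟨a, -, -, ha, -, hu⟩ := h.u_lines imp hgal
    rw [← h.card_U_eq imp, hq] at hu
    have h2a : 2 * a ≤ Nat.card W₂ - 1 := Nat.le_of_dvd (by have := hp.two_le; omega) ha
    have ha0 : 0 < a := Nat.pos_of_ne_zero fun e => by
      rw [e, mul_zero, zero_dvd_iff] at ha
      have := hp.two_le
      omega
    have hua : Nat.card U ≤ a ^ 2 := Nat.le_of_dvd (pow_pos ha0 2) hu
    rw [hq]
    obtain ⟨b, hb⟩ : ∃ b, Nat.card W₂ = b + 1 := ⟨Nat.card W₂ - 1, by have := hp.one_le; omega⟩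
    rw [hb] at h2a ⊢
    simp only [Nat.add_sub_cancel] at h2a ⊢
    have h1 : 4 * Nat.card U ≤ b ^ 2 := by
      have := Nat.mul_le_mul h2a h2a
      nlinarith
    have h4 : (b + 1) ^ 3 = b ^ 3 + 3 * b ^ 2 + 3 * b + 1 := by ring
    have h5 : 3 * Nat.card U * b ≤ b ^ 3 := by
      calc 3 * Nat.card U * b ≤ b ^ 2 * b := Nat.mul_le_mul_right _ (by omega)
        _ = b ^ 3 := by ring
    omega

/-- In the Galois case `U` is cyclic. -/
theorem cyclic_U (hgal : IsGalois (fittingHallOf S) U ⊥) : IsCyclic U := by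
  obtain ⟨w, hw, hw1⟩ := (h.typeData imp).exists_W1
  obtain ⟨F, _, _, f, ψ, s, -, -, -, -, -, -, hψ, hmul, hone, -⟩ :=
    (h.coreKernel_bot imp).1.galois_field (h.typeData imp) (h.p_prime imp) (h.card_P' imp) hgal hw hw1
  have hk : ∀ u ∈ U, ψ u = 1 → u = 1 := fun u hu e => by
    have := (hone u hu).mp e
    rwa [← h.sideC_eq_kernelC imp, h.C_eq_bot imp, mem_bot] at this
  let φ : U →* F :=
    { toFun := fun u => ψ u
      map_one' := (hone 1 U.one_mem).mpr (one_mem _)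
      map_mul' := fun a b => hmul a a.2 b b.2 }
  refine isCyclic_of_subgroup_isDomain φ fun a b e => ?_
  have e' : ψ a = ψ b := e
  have h1 : ψ ((a : G)⁻¹ * b) = 1 := by
    rw [hmul _ (U.inv_mem a.2) _ b.2, ← e', ← hmul _ (U.inv_mem a.2) _ a.2, inv_mul_cancel]
    exact (hone 1 U.one_mem).mpr (one_mem _)
  exact Subtype.ext (inv_mul_eq_one.mp (hk _ (U.mul_mem (U.inv_mem a.2) b.2) h1))

/-- The side with the larger `W₁` is full and Galois. -/
theorem full_of_gt (hlt : Nat.card W₂ < Nat.card W₁) :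
    IsGalois (fittingHallOf S) U ⊥ ∧ Nat.card U = geom (Nat.card W₂) (Nat.card W₁) := by
  haveI := Fintype.ofFinite G
  rw [h.card_U_eq imp]
  exact h.full_of_lt imp (h.primeDade imp) (h.swap.primeDade imp) hlt

theorem sideData [Fintype G] [Fintype S] :
    S14.SideData (h.primeDade imp) (U.subgroupOf S) (Nat.card U) := by
  classical
  have d := h.typeData imp
  have hd := h.coreHypOf imp (h.primeDade imp)
  refine
    { disj := hd.inf_PU
      sup := hd.sup_PU
      inv := hd.U_inv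
      abH := hd.comm_P
      index := ?_
      deg := fun b hb => ?_
      u_mod := h.u_mod imp }
  · show ((fittingHallOf S).subgroupOf S).relIndex (derK S) = _
    rw [relIndex_subgroupOf (commutator_le_self S), relIndex_of_compl d.compl_U]
  · haveI := hd.P_normal
    rw [show (h.primeDade imp).ti.colChar b 1 = hd.prime.colChar b 1 from rfl, hd.colChar_degree hb,
      h.uBar_eq_u imp, ← h.card_U_eq imp]

/-- `(9.11)` with the family of `W`. -/
theorem exists_coherent [Fintype G] [Fintype S] [Fintype (W₁.subgroupOf S →* ℂˣ)] {χ : WLin W₁ W₂ → (G → ℂ)}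
    (hχ : IsCyclicTIFamily W₁ W₂ χ) :
    ∃ (τ₁ : (S → ℂ) → (G → ℂ)) (ε : ℤ) (π : (W₂.subgroupOf S →* ℂˣ) → (W₂.subgroupOf S →* ℂˣ)),
      CohData (h.primeDade imp) χ τ₁ ε π := h.exists_cohDataOf imp (h.primeDade imp) hχ

/-- `A₀(S)` for a side on which `U` is fixed point free. -/
theorem typeA0_eq (p : KappaPair S W₁ T)
    (hfpf : ∀ x ∈ U, x ≠ 1 → fittingHallOf S ⊓ centralizer ({x} : Set G) = ⊥) :
    typeA0 S = S8.kappaA0 S W₁ := S8.ftPair_typeA0_eq h imp p hfpf

theorem dadeSupp_A0 (p : KappaPair S W₁ T)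
    (hfpf : ∀ x ∈ U, x ≠ 1 → fittingHallOf S ⊓ centralizer ({x} : Set G) = ⊥) :
    dadeSupp (typeA0 S) (fun _ => ⊥) = dadeSupp (S8.kappaA0 S W₁) (supportR S) := by
  rw [h.typeA0_eq imp p hfpf]
  ext g
  constructor <;> rintro ⟨a, ha, r, hr, x, hx⟩ <;> refine ⟨a, ha, r, ?_, x, hx⟩
  · rwa [S8.kappaA0_supportR h.hG imp.frobI p ha]
  · rwa [S8.kappaA0_supportR h.hG imp.frobI p ha] at hr

/-- A subgroup with `κ = ∅` is not conjugate to a member of the pair. -/
theorem not_conj_of_kappa_empty (p : KappaPair S W₁ T) {L : Subgroup G} (hL : IsCoatom L) (hκ : kappa L = ∅)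
    (g : G) : L ≠ MulAut.conj g • S := by
  intro e
  obtain ⟨⟨w, hw⟩, hw1'⟩ := ne_bot_iff_exists_ne_one.mp p.left.ne
  obtain ⟨⟨z, hz⟩, hz1'⟩ := ne_bot_iff_exists_ne_one.mp p.left.fixed_ne
  have hw1 : w ≠ 1 := fun e => hw1' (Subtype.ext e)
  have hfr := imp.frobI L hL hκ
  rw [S8.fittingHallOf_of_kappa_empty h.hG hL hκ] at hfr
  have hzL : g * z * g⁻¹ ∈ sigmaCore L := by
    rw [e, sigmaCore_conj h.hG h.hS g]
    exact ⟨z, hz.1, rfl⟩
  have hwL : g * w * g⁻¹ ∈ L := e ▸ ⟨w, p.left.hall.1 hw, rfl⟩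
  have hc := hfr _ hzL (fun e1 => hz1' (Subtype.ext (conj_eq_one_iff.mp e1))) ⟨hwL,
    mem_centralizer_singleton_iff.mpr (by
      calc g * w * g⁻¹ * (g * z * g⁻¹) = g * (w * z) * g⁻¹ := by group
        _ = g * (z * w) * g⁻¹ := by rw [hz.2 w hw]
        _ = g * z * g⁻¹ * (g * w * g⁻¹) := by group)⟩
  rw [e, sigmaCore_conj h.hG h.hS g] at hc
  obtain ⟨v, hv, hvw⟩ := hc
  have hvw' : v = w := (MulAut.conj g).injective hvw
  subst hvw'
  have hbot : v ∈ W₁ ⊓ sigmaCore S := ⟨hw, hv⟩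
  rw [decomp_inf h.hG h.hS p.left.hall, mem_bot] at hbot
  exact hw1 hbot

/-- The supports of `A₀(S)` and of a kernel are disjoint. -/
theorem disjoint_kernel (p : KappaPair S W₁ T)
    (hfpf : ∀ x ∈ U, x ≠ 1 → fittingHallOf S ⊓ centralizer ({x} : Set G) = ⊥)
    {L : Subgroup G} (hL : IsCoatom L) (hκ : kappa L = ∅) :
    Disjoint (dadeSupp (typeA0 S) (fun _ => ⊥)) (dadeSupp ((sigmaCore L : Set G) \ {1}) (supportR L)) := by
  rw [h.dadeSupp_A0 imp p hfpf]
  exact S8.kappa_disjoint_sigma h.hG p hL (h.not_conj_of_kappa_empty imp p hL hκ)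

/-- PF (13.17) in the notation of section 12. -/
theorem exists_kernel (hcls : IsClassified S T) (hII : IsOfTypeII S) :
    ∃ L : Subgroup G, IsCoatom L ∧ normalizer (U : Set G) ≤ L ∧ kappa L = ∅ ∧ S12.IsCoreFrobenius L ∧
      Group.IsNilpotent (sigmaCore L) ∧ sigmaCore L = fittingHallOf L ∧ U ≤ sigmaCore L ∧
      ¬ Nat.card W₁ ∣ Nat.card (sigmaCore L) ∧
      ((sigmaCore L ⊓ W₁ = ⊥ ∧ sigmaCore L ⊔ W₁ = L) ∨
        ∃ y ∈ fittingHallOf T, sigmaCore L ⊓ (W₁ ⊔ W₂.map (MulAut.conj y).toMonoidHom) = ⊥ ∧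
          sigmaCore L ⊔ (W₁ ⊔ W₂.map (MulAut.conj y).toMonoidHom) = L) := by
  obtain ⟨L, hL, hNU⟩ := (eq_top_or_exists_le_coatom (normalizer (U : Set G))).resolve_left
    (normalizer_ne_top h.hG (h.U_ne imp) fun e => h.hS.1 (top_le_iff.mp (e.ge.trans (h.typeData imp).U_le)))
  obtain ⟨hκ, hfr, hUH, hq, halt⟩ := h.overgroup imp (h.C_eq_bot imp) (h.swap.C_eq_bot imp) hcls hII hL hNU
  have he := S8.fittingHallOf_of_kappa_empty h.hG hL hκ
  rw [he] at hfr hUH hq halt
  exact ⟨L, hL, hNU, hκ, hfr, nilpotent_of_kappa_empty h.hG hL hκ, he.symm, hUH, hq, halt⟩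

end CfsgLib.OddOrder.S13.FTPair

namespace CfsgLib.OddOrder.S14

open CfsgLib.OddOrder.S13

/-- The configuration of section 14: the pair with `q < p`. -/
structure Fourteen (S T W₁ W₂ U V : Subgroup G) : Prop where
  pair : FTPair S T W₁ W₂ U V
  imp : FTImports G
  kpair : KappaPair S W₁ T
  W₂_eq : W₂ = fixedCore S W₁
  cls : IsClassified S T
  q_lt_p : Nat.card W₁ < Nat.card W₂

/-- The configuration exists. -/
theorem exists_fourteen [Finite G] (hG : IsMinSimpleOddOrder G) (imp : FTImports G)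
    (hne : ∃ M : Subgroup G, IsCoatom M ∧ (kappa M).Nonempty) :
    ∃ S T W₁ W₂ U V : Subgroup G, Fourteen S T W₁ W₂ U V := by
  obtain ⟨S, T, W₁, W₂, U, V, h, p, hW, hcls⟩ := S8.exists_ftPair hG hne
  have hc := S8.isClassified_of_conj hcls
  rcases lt_or_gt_of_ne (h.p_ne_q imp) with hlt | hlt
  · have ps := p.symm hG
    rw [← hW] at ps
    refine ⟨T, S, W₂, W₁, V, U, h.swap, imp, ps, ?_, hc.swap, hlt⟩
    rw [hW]
    exact p.symm_eq.symm
  · exact ⟨S, T, W₁, W₂, U, V, h, imp, p, hW, hc, hlt⟩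

namespace Fourteen

variable [Finite G] {S T W₁ W₂ U V : Subgroup G} (f : Fourteen S T W₁ W₂ U V)
include f

theorem kpair_T : KappaPair T W₂ S := by
  have := f.kpair.symm f.pair.hG
  rwa [← f.W₂_eq] at this

theorem typeII_S : IsOfTypeII S := f.pair.typeII_of_lt f.imp f.q_lt_p

theorem C_bot : U ⊓ centralizer (fittingHallOf S : Set G) = ⊥ := f.pair.C_eq_bot f.imp

theorem D_bot : V ⊓ centralizer (fittingHallOf T : Set G) = ⊥ := f.pair.swap.C_eq_bot f.imp

/-- `V` is full. -/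
theorem v_full : Nat.card V = geom (Nat.card W₁) (Nat.card W₂) :=
  (f.pair.swap.full_of_gt f.imp f.q_lt_p).2

theorem galois_T : IsGalois (fittingHallOf T) V ⊥ := (f.pair.swap.full_of_gt f.imp f.q_lt_p).1

theorem cyclic_V : IsCyclic V := f.pair.swap.cyclic_U f.imp f.galois_T

theorem fpf_U : ∀ x ∈ U, x ≠ 1 → fittingHallOf S ⊓ centralizer ({x} : Set G) = ⊥ :=
  f.pair.fpf_of_lt f.imp (f.pair.C_eq_bot f.imp) (f.pair.swap.C_eq_bot f.imp) f.cls f.q_lt_p
    ((f.pair.u_cases f.imp).imp (fun h => h.1) fun h => h.2)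

theorem fpf_V : ∀ x ∈ V, x ≠ 1 → fittingHallOf T ⊓ centralizer ({x} : Set G) = ⊥ := fun x hx hx1 =>
  f.pair.swap.galois_fixed f.imp f.galois_T hx fun hc => hx1 (by
    have : x ∈ V ⊓ centralizer (fittingHallOf T : Set G) := ⟨hx, hc⟩
    rwa [f.D_bot, mem_bot] at this)

theorem typeA0_S : typeA0 S = S8.kappaA0 S W₁ := f.pair.typeA0_eq f.imp f.kpair f.fpf_U

theorem typeA0_T : typeA0 T = S8.kappaA0 T W₂ := f.pair.swap.typeA0_eq f.imp f.kpair_T f.fpf_V

/-- The supports of `A₀(S)` and `A₀(T)` meet in the classes of `W \ (W₁ ∪ W₂)`. -/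
theorem supp_inter : dadeSupp (typeA0 S) (fun _ => ⊥) ∩ dadeSupp (typeA0 T) (fun _ => ⊥) =
    S8.hatClass S W₁ := by
  rw [f.pair.dadeSupp_A0 f.imp f.kpair f.fpf_U, f.pair.swap.dadeSupp_A0 f.imp f.kpair_T f.fpf_V]
  have := S8.kappa_inter_partner f.pair.hG f.kpair
  rwa [← f.W₂_eq] at this

theorem supp_disjoint_S {L : Subgroup G} (hL : IsCoatom L) (hκ : kappa L = ∅) :
    Disjoint (dadeSupp (typeA0 S) (fun _ => ⊥)) (dadeSupp ((sigmaCore L : Set G) \ {1}) (supportR L)) :=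
  f.pair.disjoint_kernel f.imp f.kpair f.fpf_U hL hκ

theorem supp_disjoint_T {L : Subgroup G} (hL : IsCoatom L) (hκ : kappa L = ∅) :
    Disjoint (dadeSupp (typeA0 T) (fun _ => ⊥)) (dadeSupp ((sigmaCore L : Set G) \ {1}) (supportR L)) :=
  f.pair.swap.disjoint_kernel f.imp f.kpair_T f.fpf_V hL hκ

/-- The kernel `L` over `N(U)`. -/
theorem exists_L :
    ∃ L : Subgroup G, IsCoatom L ∧ normalizer (U : Set G) ≤ L ∧ kappa L = ∅ ∧ S12.IsCoreFrobenius L ∧
      Group.IsNilpotent (sigmaCore L) ∧ sigmaCore L = fittingHallOf L ∧ U ≤ sigmaCore L ∧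
      ¬ Nat.card W₁ ∣ Nat.card (sigmaCore L) ∧
      ((sigmaCore L ⊓ W₁ = ⊥ ∧ sigmaCore L ⊔ W₁ = L) ∨
        ∃ y ∈ fittingHallOf T, sigmaCore L ⊓ (W₁ ⊔ W₂.map (MulAut.conj y).toMonoidHom) = ⊥ ∧
          sigmaCore L ⊔ (W₁ ⊔ W₂.map (MulAut.conj y).toMonoidHom) = L) :=
  f.pair.exists_kernel f.imp f.cls f.typeII_S

/-- The kernel `M` over `N(V)` when `T` has type II. -/
theorem exists_M (hII : IsOfTypeII T) :
    ∃ M : Subgroup G, IsCoatom M ∧ normalizer (V : Set G) ≤ M ∧ kappa M = ∅ ∧ S12.IsCoreFrobenius M ∧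
      Group.IsNilpotent (sigmaCore M) ∧ sigmaCore M = fittingHallOf M ∧ V ≤ sigmaCore M ∧
      ¬ Nat.card W₂ ∣ Nat.card (sigmaCore M) ∧
      ((sigmaCore M ⊓ W₂ = ⊥ ∧ sigmaCore M ⊔ W₂ = M) ∨
        ∃ x ∈ fittingHallOf S, sigmaCore M ⊓ (W₂ ⊔ W₁.map (MulAut.conj x).toMonoidHom) = ⊥ ∧
          sigmaCore M ⊔ (W₂ ⊔ W₁.map (MulAut.conj x).toMonoidHom) = M) :=
  f.pair.swap.exists_kernel f.imp f.cls.swap hII

/-- `T` has type II or III. -/
theorem typeT : IsOfTypeII T ∨ IsOfTypeIII T := f.pair.swap.typeII_or_III f.imp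

end Fourteen

end CfsgLib.OddOrder.S14
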