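import Cfsg.Agent.Lib.OddOrder.S14.TableL
import Cfsg.Agent.Lib.OddOrder.S14.Setup
import Cfsg.Agent.Lib.OddOrder.S14.MainData
import Cfsg.Agent.Lib.CharTheory.EqualDegree

/-!
Section 14 of the blueprint, (L3) for `T` of type III: the family of the characters induced from `T'` which are
trivial on `Q`, its bridge and the table of the bridge, in the form used by the algebra of the bridges.
-/

set_option autoImplicit false
set_option linter.unusedSectionVars false
set_option linter.style.haveILetI false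

open Cfsg CfsgLib.CharTheory CfsgLib.Dade CfsgLib.OddOrder.Found
open scoped ComplexConjugate commutatorElement

universe u

namespace CfsgLib.OddOrder.S14

variable {G : Type u} [Group G] [Fintype G] {A A' : Set G} {M L : Subgroup G} [Fintype M] [Fintype L]
  {RM R' : G → Subgroup G} {N : Subgroup M} {W₁ W₂ : Subgroup G} {χ : WLin W₁ W₂ → (G → ℂ)}

/-- `β - 1 + τ₁ ζ` is real as soon as `τ₁` commutes with conjugation at `ζ`. -/
theorem bridge_real [N.Normal] {S : Set (M → ℂ)} {τ₁ : (M → ℂ) → (G → ℂ)}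
    (hiso : IsLinearIsometryOn (zspan S) τ₁) (hagree : ∀ α ∈ zspanOn S {1}ᶜ, τ₁ α = dadeIsometry A M RM α)
    {ζ : M → ℂ} (hζ : ζ ∈ S) (hζc : conjFun ζ ∈ S) (hd : conjFun ζ 1 = ζ 1)
    (hc : τ₁ (conjFun ζ) = conjFun (τ₁ ζ)) :
    conjFun (kernelBeta A M RM N ζ - (fun _ => (1 : ℂ)) + τ₁ ζ) = kernelBeta A M RM N ζ - (fun _ => 1) + τ₁ ζ := by
  classical
  have h1 : ζ ∈ zspan S := Submodule.subset_span hζ
  have h2 : conjFun ζ ∈ zspan S := Submodule.subset_span hζc
  have hm : ζ - conjFun ζ ∈ zspanOn S {1}ᶜ :=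
    ⟨Submodule.sub_mem _ h1 h2, fun x hx => by rw [not_not.mp hx, Pi.sub_apply, hd, sub_self]⟩
  have e1 : conjFun (kernelBeta A M RM N ζ) = kernelBeta A M RM N ζ + dadeIsometry A M RM (ζ - conjFun ζ) := by
    rw [kernelBeta, ← dade_conjFun, ← dade_add]
    congr 1
    funext x
    simp only [kernelAlpha, conjFun, Pi.sub_apply, Pi.add_apply, map_sub, indTriv_apply, apply_ite (starRingEnd ℂ),
      map_natCast, map_zero]
    ring
  rw [← hagree _ hm, isometryOn_sub hiso h1 h2, hc] at e1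
  funext g
  have := congrFun e1 g
  simp only [conjFun, Pi.add_apply, Pi.sub_apply, map_add, map_sub, map_one] at this ⊢
  linear_combination this

/-- **(L1)** A generalized character fixed by every field automorphism at the family of `W`, with multiplicity `1`
of the principal character, which vanishes on the hat, has a table. -/
theorem exists_isTable {K₀ H₀ : Subgroup L} {A₀ : Set G} {R₀ : G → Subgroup G}
    (h : IsPrimeDade L K₀ H₀ W₁ W₂ A₀ R₀) (hχ : IsCyclicTIFamily W₁ W₂ χ) (hp₁ : (Nat.card W₁).Prime)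
    (hp₂ : (Nat.card W₂).Prime) {β : G → ℂ} (hg : IsGeneralizedCharacter G β)
    (h1 : classInner β (fun _ => 1) = 1) (hV : ∀ w : ↥(W₁ ⊔ W₂), (w : G) ∉ W₁ → (w : G) ∉ W₂ → β w = 0)
    (hgal : ∀ (s : ℂ ≃+* ℂ) (ω : WLin W₁ W₂), classInner β (χ (wLinMap s ω)) = classInner β (χ ω)) :
    ∃ a₀ b₀ : ℤ, IsTable χ β a₀ b₀ := by
  classical
  haveI := Fintype.ofFinite (W₁.subgroupOf L →* ℂˣ)
  haveI := Fintype.ofFinite (W₂.subgroupOf L →* ℂˣ)
  have hc2 : Fintype.card (W₂.subgroupOf L →* ℂˣ) = Nat.card (W₂.subgroupOf L) := by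
    have := sum_hom_abelian h.ti.comm₂ 1
    simp at this
    rw [Nat.card_eq_fintype_card]
    exact_mod_cast this
  haveI : Nontrivial (W₁.subgroupOf L →* ℂˣ) := Fintype.one_lt_card_iff_nontrivial.mp
    (by rw [h.ti.card_hom₁]; have := h.ti.three_le₁; omega)
  haveI : Nontrivial (W₂.subgroupOf L →* ℂˣ) := Fintype.one_lt_card_iff_nontrivial.mp
    (by rw [hc2]; have := h.ti.three_le₂; omega)
  obtain ⟨a', ha'⟩ := exists_ne (1 : W₁.subgroupOf L →* ℂˣ)
  obtain ⟨b', hb'⟩ := exists_ne (1 : W₂.subgroupOf L →* ℂˣ)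
  obtain ⟨a₀, ha₀⟩ := classInner_genChar_int hg (cycFamily_signed hχ (h.idx a' 1))
  obtain ⟨b₀, hb₀⟩ := classInner_genChar_int hg (cycFamily_signed hχ (h.idx 1 b'))
  have hA : ∀ a, a ≠ 1 → classInner β (χ (h.idx a 1)) = (a₀ : ℂ) := fun a ha => by
    obtain ⟨s, -, hs⟩ := S11.exists_wLinMap (N := 1) one_ne_zero hp₁ h.card₁ (Nat.coprime_one_right _) ha' ha
    have e := hgal s (h.idx a' 1)
    rw [wLinMap_idx, hs, S11.wLinMap_one] at e
    rw [e, ha₀]
  have hB : ∀ b, b ≠ 1 → classInner β (χ (h.idx 1 b)) = (b₀ : ℂ) := fun b hb => by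
    obtain ⟨s, -, hs⟩ := S11.exists_wLinMap (N := 1) one_ne_zero hp₂ h.card₂ (Nat.coprime_one_right _) hb' hb
    have e := hgal s (h.idx 1 b')
    rw [wLinMap_idx, hs, S11.wLinMap_one] at e
    rw [e, hb₀]
  refine ⟨a₀, b₀, IsTable.of_idx h hA hB fun a b ha hb => ?_⟩
  have e := h.table_additive hχ (isGenChar_iff_coeff_int.mp hg).1 hV a 1 b 1
  rw [h.idx_one, hχ.map_one, h1, hA a ha, hB b hb] at e
  push_cast
  linear_combination e

/-- Two coherent extensions with disjoint supports: the images of non-real irreducibles are orthogonal. -/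
theorem images_orth_pair (hD : DadeHypothesis A M RM) (hD' : DadeHypothesis A' L R')
    (hdisj : Disjoint (dadeSupp A RM) (dadeSupp A' R')) {S : Set (M → ℂ)} {τ₁ : (M → ℂ) → (G → ℂ)}
    (hiso : IsLinearIsometryOn (zspan S) τ₁) (hagree : ∀ α ∈ zspanOn S {1}ᶜ, τ₁ α = dadeIsometry A M RM α)
    {S' : Set (L → ℂ)} {σ : (L → ℂ) → (G → ℂ)} (hiso' : IsLinearIsometryOn (zspan S') σ)
    (hagree' : ∀ α ∈ zspanOn S' {1}ᶜ, σ α = dadeIsometry A' L R' α)
    {ξ : M → ℂ} (hξ : ξ ∈ S) (hξc : conjFun ξ ∈ S) (hξi : IsIrrCharacter M ξ) (hξn : conjFun ξ ≠ ξ)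
    {φ : L → ℂ} (hφ : φ ∈ S') (hφc : conjFun φ ∈ S') (hφi : IsIrrCharacter L φ) (hφn : conjFun φ ≠ φ) :
    classInner (τ₁ ξ) (σ φ) = 0 := by
  have s1 : ξ ∈ zspan S := Submodule.subset_span hξ
  have s2 : conjFun ξ ∈ zspan S := Submodule.subset_span hξc
  have t1 : φ ∈ zspan S' := Submodule.subset_span hφ
  have t2 : conjFun φ ∈ zspan S' := Submodule.subset_span hφc
  have hm : ξ - conjFun ξ ∈ zspanOn S {1}ᶜ := ⟨Submodule.sub_mem _ s1 s2, fun x hx => by
    rw [not_not.mp hx, Pi.sub_apply, conjFun_char_one (isCharacter_of_irr hξi), sub_self]⟩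
  have hm' : φ - conjFun φ ∈ zspanOn S' {1}ᶜ := ⟨Submodule.sub_mem _ t1 t2, fun x hx => by
    rw [not_not.mp hx, Pi.sub_apply, conjFun_char_one (isCharacter_of_irr hφi), sub_self]⟩
  have e := classInner_dade_disjoint hD hD' hdisj (ξ - conjFun ξ) (φ - conjFun φ)
  rw [← hagree _ hm, ← hagree' _ hm', isometryOn_sub hiso s1 s2, isometryOn_sub hiso' t1 t2] at e
  have d1 : τ₁ ξ 1 = τ₁ (conjFun ξ) 1 := by
    have h1 : τ₁ (ξ - conjFun ξ) 1 = 0 := by rw [hagree _ hm]; exact dade_apply_one hD _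
    rwa [isometryOn_sub hiso s1 s2, Pi.sub_apply, sub_eq_zero] at h1
  have d2 : σ φ 1 = σ (conjFun φ) 1 := by
    have h1 : σ (φ - conjFun φ) 1 = 0 := by rw [hagree' _ hm']; exact dade_apply_one hD' _
    rwa [isometryOn_sub hiso' t1 t2, Pi.sub_apply, sub_eq_zero] at h1
  have sg : ∀ {η : M → ℂ}, η ∈ zspan S → IsIrrCharacter M η → IsSignedIrr (τ₁ η) := fun hη hi =>
    irr_or_neg_of_norm_one (hiso.2.2.2 _ hη) (by rw [hiso.2.2.1 _ hη _ hη, classInner_irr_self hi])
  have sg' : ∀ {η : L → ℂ}, η ∈ zspan S' → IsIrrCharacter L η → IsSignedIrr (σ η) := fun hη hi =>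
    irr_or_neg_of_norm_one (hiso'.2.2.2 _ hη) (by rw [hiso'.2.2.1 _ hη _ hη, classInner_irr_self hi])
  exact (four_signed (sg s1 hξi) (sg s2 (isIrrCharacter_conjChar hξi)) (sg' t1 hφi)
    (sg' t2 (isIrrCharacter_conjChar hφi)) one_ne_zero one_ne_zero
    (by rw [hiso.2.2.1 _ s1 _ s2]; exact classInner_irr_ne hξi (isIrrCharacter_conjChar hξi) (Ne.symm hξn))
    (by rw [hiso'.2.2.1 _ t1 _ t2]; exact classInner_irr_ne hφi (isIrrCharacter_conjChar hφi) (Ne.symm hφn))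
    (by simpa using e) d1 (by simpa using d2)).1

/-- The family of a bridge on part of the characters induced from `N`, all of degree `[M : N]`. -/
structure DegFamily (A : Set G) (M : Subgroup G) [Fintype M] (RM : G → Subgroup G) (N : Subgroup M)
    (χ : WLin W₁ W₂ → (G → ℂ)) (F : Finset (M → ℂ)) (τ₁ : (M → ℂ) → (G → ℂ)) : Prop where
  dade : DadeHypothesis A M RM
  normal : N.Normal
  mem_iff : ∀ a : M, (a : G) ∈ A ↔ a ∈ N ∧ a ≠ 1
  sub : ∀ ξ ∈ F, ξ ∈ inducedIrrAbove N ⊥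
  irr : ∀ ξ ∈ F, IsIrrCharacter M ξ
  deg : ∀ ξ ∈ F, ξ 1 = (N.index : ℂ)
  conj_mem : ∀ ξ ∈ F, conjFun ξ ∈ F
  conj_ne : ∀ ξ ∈ F, conjFun ξ ≠ ξ
  galois_mem : ∀ (s : ℂ ≃+* ℂ), ∀ ξ ∈ F, (fun x => s (ξ x)) ∈ F
  iso : IsLinearIsometryOn (zspan (F : Set (M → ℂ))) τ₁
  agree : ∀ α ∈ zspanOn (F : Set (M → ℂ)) {1}ᶜ, τ₁ α = dadeIsometry A M RM α
  conj_comm : ∀ ξ ∈ F, τ₁ (conjFun ξ) = conjFun (τ₁ ξ)
  orth : ∀ ξ ∈ F, ∀ ω, classInner (τ₁ ξ) (χ ω) = 0
  hat : ∀ w : ↥(W₁ ⊔ W₂), (w : G) ∉ W₁ → (w : G) ∉ W₂ → (w : G) ∉ dadeSupp A RM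

namespace DegFamily

variable {F : Finset (M → ℂ)} {τ₁ : (M → ℂ) → (G → ℂ)} (D : DegFamily A M RM N χ F τ₁)
include D

theorem mem_span {ξ : M → ℂ} (hξ : ξ ∈ F) : ξ ∈ zspan (F : Set (M → ℂ)) :=
  Submodule.subset_span (Finset.mem_coe.mpr hξ)

theorem vanish {ξ : M → ℂ} (hξ : ξ ∈ F) {x : M} (hx : (x : G) ∉ A) (hx1 : x ≠ 1) : ξ x = 0 := by
  haveI := D.normal
  exact inducedAbove_vanish N (D.sub ξ hξ) fun h => hx ((D.mem_iff x).mpr ⟨h, hx1⟩)

theorem diff_mem {ξ η : M → ℂ} (hξ : ξ ∈ F) (hη : η ∈ F) : ξ - η ∈ zspanOn (F : Set (M → ℂ)) {1}ᶜ :=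
  ⟨Submodule.sub_mem _ (D.mem_span hξ) (D.mem_span hη), fun x hx => by
    rw [not_not.mp hx, Pi.sub_apply, D.deg ξ hξ, D.deg η hη, sub_self]⟩

theorem classInner_image [DecidableEq (M → ℂ)] {ξ η : M → ℂ} (hξ : ξ ∈ F) (hη : η ∈ F) :
    classInner (τ₁ ξ) (τ₁ η) = if ξ = η then 1 else 0 := by
  rw [D.iso.2.2.1 _ (D.mem_span hξ) _ (D.mem_span hη)]
  split
  · rename_i e; rw [e, classInner_irr_self (D.irr η hη)]
  · rename_i e; exact classInner_irr_ne (D.irr ξ hξ) (D.irr η hη) e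

theorem image_orth_one (hχ : IsCyclicTIFamily W₁ W₂ χ) {ξ : M → ℂ} (hξ : ξ ∈ F) :
    classInner (τ₁ ξ) (fun _ => 1) = 0 := by
  rw [← hχ.map_one]; exact D.orth ξ hξ 1

/-- The images are orthogonal to those of a coherent family with disjoint support. -/
theorem orth_images (hD' : DadeHypothesis A' L R') (hdisj : Disjoint (dadeSupp A RM) (dadeSupp A' R'))
    {S' : Set (L → ℂ)} {σ : (L → ℂ) → (G → ℂ)} (hiso' : IsLinearIsometryOn (zspan S') σ)
    (hagree' : ∀ α ∈ zspanOn S' {1}ᶜ, σ α = dadeIsometry A' L R' α) {φ : L → ℂ} (hφ : φ ∈ S')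
    (hφc : conjFun φ ∈ S') (hφi : IsIrrCharacter L φ) (hφn : conjFun φ ≠ φ) {ξ : M → ℂ} (hξ : ξ ∈ F) :
    classInner (τ₁ ξ) (σ φ) = 0 :=
  images_orth_pair D.dade hD' hdisj D.iso D.agree hiso' hagree' (Finset.mem_coe.mpr hξ)
    (Finset.mem_coe.mpr (D.conj_mem ξ hξ)) (D.irr ξ hξ) (D.conj_ne ξ hξ) hφ hφc hφi hφn

section Zeta

variable {ζ : M → ℂ} (hζ : ζ ∈ F)
include hζ

theorem alpha_class : IsClassFunction M (kernelAlpha N ζ) :=
  isClassFunction_sub (indFun_isClassFunction N _) (isClassFunction_irr (D.irr ζ hζ))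

theorem alpha_vanish {x : M} (hx : (x : G) ∉ A) : kernelAlpha N ζ x = 0 := by
  classical
  haveI := D.normal
  by_cases hx1 : x = 1
  · rw [kernelAlpha, Pi.sub_apply, indTriv_apply, if_pos (hx1 ▸ N.one_mem), hx1, D.deg ζ hζ, sub_self]
  · rw [kernelAlpha, Pi.sub_apply, indTriv_apply, if_neg (fun h => hx ((D.mem_iff x).mpr ⟨h, hx1⟩)),
      D.vanish hζ hx hx1, sub_zero]

theorem beta_genChar : IsGeneralizedCharacter G (kernelBeta A M RM N ζ) := by
  haveI := D.normal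
  haveI := Fintype.ofFinite N
  exact isGenChar_dade D.dade (isGenChar_sub (isGenChar_of_char (isCharacter_indFun N
    (isCharacter_of_irr isIrrCharacter_one))) (isGenChar_of_char (isCharacter_of_irr (D.irr ζ hζ))))
    fun _ hx => D.alpha_vanish hζ hx

theorem beta_one : classInner (kernelBeta A M RM N ζ) (fun _ => 1) = 1 := by
  classical
  haveI := D.normal
  haveI := Fintype.ofFinite N
  rw [kernelBeta, classInner_dade_dadeRho D.dade (D.alpha_class hζ) (fun _ hx => D.alpha_vanish hζ hx)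
    isClassFunction_one]
  have e : classInner (kernelAlpha N ζ) (fun _ => 1) = 1 := by
    rw [kernelAlpha, classInner_sub_left, frobenius_reciprocity N _ isClassFunction_one,
      inducedAbove_orth_one N (D.sub ζ hζ), sub_zero]
    exact classInner_irr_self isIrrCharacter_one
  refine Eq.trans ?_ e
  simp only [classInner]
  congr 1
  refine Finset.sum_congr rfl fun x _ => ?_
  by_cases hx : (x : G) ∈ A
  · rw [dadeRho_one hx]
  · rw [D.alpha_vanish hζ hx, zero_mul, zero_mul]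

theorem beta_self : classInner (kernelBeta A M RM N ζ) (kernelBeta A M RM N ζ) = (N.index : ℂ) + 1 := by
  classical
  haveI := D.normal
  haveI := Fintype.ofFinite N
  rw [kernelBeta, classInner_dade_dade D.dade (D.alpha_class hζ) (fun _ hx => D.alpha_vanish hζ hx)
    (D.alpha_class hζ), kernelAlpha, classInner_sub_left, classInner_sub_right, classInner_sub_right,
    classInner_irr_self (D.irr ζ hζ), ← classInner_comm ζ, inducedAbove_orth_triv N (D.sub ζ hζ), map_zero,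
    classInner_indTriv_of_kernel N (fun x hx => indFun_normal_apply_not_mem N _ hx),
    frobenius_reciprocity N _ isClassFunction_one, classInner_irr_self isIrrCharacter_one]
  ring

/-- The coefficients of the bridge at `ζ` and at another member differ by one. -/
theorem coeff_succ {ξ : M → ℂ} (hξ : ξ ∈ F) (hne : ξ ≠ ζ) :
    classInner (kernelBeta A M RM N ζ) (τ₁ ξ) = classInner (kernelBeta A M RM N ζ) (τ₁ ζ) + 1 := by
  classical
  haveI := D.normal
  have hm := D.diff_mem hξ hζ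
  have hg : IsGeneralizedCharacter M (ξ - ζ) :=
    isGenChar_sub (isGenChar_of_char (isCharacter_of_irr (D.irr ξ hξ)))
      (isGenChar_of_char (isCharacter_of_irr (D.irr ζ hζ)))
  have e := classInner_dade_dade D.dade (D.alpha_class hζ) (fun _ hx => D.alpha_vanish hζ hx)
    (isGenChar_iff_coeff_int.mp hg).1
  rw [← D.agree _ hm, isometryOn_sub D.iso (D.mem_span hξ) (D.mem_span hζ),
    show dadeIsometry A M RM (kernelAlpha N ζ) = kernelBeta A M RM N ζ from rfl, classInner_sub_right, kernelAlpha,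
    classInner_sub_left, classInner_sub_right, classInner_sub_right, ← classInner_comm ξ (indFun N _),
    ← classInner_comm ζ (indFun N _), inducedAbove_orth_triv N (D.sub ξ hξ), inducedAbove_orth_triv N (D.sub ζ hζ),
    map_zero, classInner_irr_ne (D.irr ζ hζ) (D.irr ξ hξ) (Ne.symm hne), classInner_irr_self (D.irr ζ hζ)] at e
  linear_combination e

theorem delta_real : conjFun (kernelBeta A M RM N ζ - (fun _ => (1 : ℂ)) + τ₁ ζ) =
    kernelBeta A M RM N ζ - (fun _ => 1) + τ₁ ζ := by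
  haveI := D.normal
  exact bridge_real D.iso D.agree (Finset.mem_coe.mpr hζ) (Finset.mem_coe.mpr (D.conj_mem ζ hζ))
    (conjFun_char_one (isCharacter_of_irr (D.irr ζ hζ))) (D.conj_comm ζ hζ)

/-- **(L3)** The bridge of the family. -/
theorem exists_bridge (hχ : IsCyclicTIFamily W₁ W₂ χ) :
    ∃ c : ℤ, IsBridge χ (dadeSupp A RM) (kernelBeta A M RM N ζ) (∑ ξ ∈ F, τ₁ ξ) (τ₁ ζ) N.index F.card c := by
  classical
  haveI := D.normal
  obtain ⟨z, hz⟩ := classInner_genChar_int (D.beta_genChar hζ) (D.iso.2.2.2 _ (D.mem_span hζ))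
  have hP : ∀ η ∈ F, classInner (∑ ξ ∈ F, τ₁ ξ) (τ₁ η) = 1 := fun η hη => by
    rw [classInner_sum_left, Finset.sum_eq_single_of_mem η hη fun ξ hξ hne => by
      rw [D.classInner_image hξ hη, if_neg hne], D.classInner_image hη hη, if_pos rfl]
  have hPη : ∀ ω, classInner (∑ ξ ∈ F, τ₁ ξ) (χ ω) = 0 := fun ω => by
    rw [classInner_sum_left]; exact Finset.sum_eq_zero fun ξ hξ => D.orth ξ hξ ω
  refine ⟨z + 1, fun g hg => dade_eq_zero_of_notMem D.dade _ hg, fun Y hY => ?_, D.beta_genChar hζ,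
    D.iso.2.2.2 _ (D.mem_span hζ), isGenChar_sum _ _ fun ξ hξ => D.iso.2.2.2 _ (D.mem_span hξ), ?_, D.beta_one hζ,
    by rw [← hχ.map_one]; exact hPη 1, D.image_orth_one hχ hζ, D.beta_self hζ, by rw [hz]; push_cast; ring, ?_,
    ?_, hP ζ hζ, by rw [D.classInner_image hζ hζ, if_pos rfl], hPη, D.orth ζ hζ⟩
  · have hprop : ∀ ξ ∈ F, classInner Y (τ₁ ξ) = classInner Y (τ₁ ζ) := fun ξ hξ => by
      have e : classInner Y (dadeIsometry A M RM (ξ - ζ)) = 0 := by
        simp only [classInner]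
        rw [Finset.sum_eq_zero fun g _ => ?_, mul_zero]
        by_cases hg : g ∈ dadeSupp A RM
        · rw [hY g hg, zero_mul]
        · rw [dade_eq_zero_of_notMem D.dade _ hg, map_zero, mul_zero]
      rwa [← D.agree _ (D.diff_mem hξ hζ), isometryOn_sub D.iso (D.mem_span hξ) (D.mem_span hζ),
        classInner_sub_right, sub_eq_zero] at e
    rw [classInner_sum_right, Finset.sum_congr rfl hprop, Finset.sum_const, nsmul_eq_mul]
  · have hPr : conjFun (∑ ξ ∈ F, τ₁ ξ) = ∑ ξ ∈ F, τ₁ ξ := by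
      funext g
      simp only [conjFun, Finset.sum_apply, map_sum]
      exact Finset.sum_nbij' conjFun conjFun D.conj_mem D.conj_mem (fun ξ _ => cs_conj_conj ξ)
        (fun ξ _ => cs_conj_conj ξ) fun ξ hξ => (congrFun (D.conj_comm ξ hξ) g).symm
    funext g
    have h1 := congrFun (D.delta_real hζ) g
    have h2 := congrFun hPr g
    simp only [conjFun, bridgeGamma, Pi.add_apply, Pi.sub_apply, Pi.smul_apply, smul_eq_mul, map_add, map_sub,
      map_mul, map_intCast, map_one] at h1 h2 ⊢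
    rw [h1, h2]
  · rw [classInner_sum_right, ← Finset.add_sum_erase _ _ hζ, hz, Finset.sum_congr rfl fun ξ hξ => show _ = ((z + 1 : ℤ) : ℂ) by
      rw [D.coeff_succ hζ (Finset.mem_of_mem_erase hξ) (Finset.ne_of_mem_erase hξ), hz]; push_cast; ring,
      Finset.sum_const, nsmul_eq_mul, Finset.card_erase_of_mem hζ,
      Nat.cast_sub (show 1 ≤ F.card from Finset.card_pos.mpr ⟨ζ, hζ⟩)]
    push_cast
    ring
  · rw [classInner_sum_right, Finset.sum_congr rfl hP, Finset.sum_const, nsmul_eq_mul, mul_one]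

theorem galois_beta (s : ℂ ≃+* ℂ) :
    (fun g => s (kernelBeta A M RM N ζ g)) = kernelBeta A M RM N ζ + τ₁ ζ - τ₁ (fun x => s (ζ x)) := by
  classical
  haveI := D.normal
  have hs := D.galois_mem s ζ hζ
  rw [kernelBeta, ← dade_map _ (map_zero s), add_sub_assoc, ← isometryOn_sub D.iso (D.mem_span hζ) (D.mem_span hs),
    D.agree _ (D.diff_mem hζ hs), ← dade_add]
  congr 1
  funext x
  simp only [kernelAlpha, Pi.sub_apply, Pi.add_apply, map_sub, indTriv_apply, apply_ite s, map_natCast, map_zero]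
  ring

variable {K₀ H₀ : Subgroup L} {A₀ : Set G} {R₀ : G → Subgroup G} (h : IsPrimeDade L K₀ H₀ W₁ W₂ A₀ R₀)
  (hχ : IsCyclicTIFamily W₁ W₂ χ)
include h hχ

/-- **(L1)** The table of the bridge of the family. -/
theorem exists_table (hp₁ : (Nat.card W₁).Prime) (hp₂ : (Nat.card W₂).Prime) :
    ∃ a₀ b₀ : ℤ, IsTable χ (kernelBeta A M RM N ζ) a₀ b₀ := by
  refine exists_isTable h hχ hp₁ hp₂ (D.beta_genChar hζ) (D.beta_one hζ)
    (fun w w1 w2 => dade_eq_zero_of_notMem D.dade _ (D.hat w w1 w2)) fun s ω => ?_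
  have e := classInner_galois s (D.beta_genChar hζ) (cycFamily_signed hχ ω)
  rw [D.galois_beta hζ s, cycFamily_galois h.selfNormG h.oddW hχ, classInner_sub_left, classInner_add_left,
    D.orth _ hζ, D.orth _ (D.galois_mem s ζ hζ)] at e
  rw [← e]
  ring

end Zeta

/-- The images separate the bridge of the family from that of a kernel with disjoint support. -/
theorem sep_kernel {NL : Subgroup L} {SL : Finset (L → ℂ)} {σ : (L → ℂ) → (G → ℂ)}
    (DL : IsKernelData A' L R' NL SL σ) (hdisj : Disjoint (dadeSupp A RM) (dadeSupp A' R'))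
    (hirr : ∀ φ ∈ SL, IsIrrCharacter L φ) (hnr : ∀ φ ∈ SL, conjFun φ ≠ φ) {ζ : M → ℂ} (hζ : ζ ∈ F) {ζL : L → ℂ}
    (hζL : ζL ∈ SL) : Sep (∑ ξ ∈ F, τ₁ ξ) (τ₁ ζ) (kernelDegSum NL SL σ) (σ ζL) := by
  haveI := DL.normal
  have ho : ∀ ξ ∈ F, ∀ φ ∈ SL, classInner (τ₁ ξ) (σ φ) = 0 := fun ξ hξ φ hφ =>
    D.orth_images DL.dade hdisj DL.iso DL.agree (Finset.mem_coe.mpr hφ)
      (by rw [DL.set_eq]; exact inducedIrrAbove_conj NL ⊥ (DL.mem hφ)) (hirr φ hφ) (hnr φ hφ) hξ
  refine ⟨ho _ hζ _ hζL, ?_, ?_, ?_⟩ <;>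
    simp only [kernelDegSum, classInner_sum_left, classInner_sum_right, classInner_smul_right]
  · exact Finset.sum_eq_zero fun φ hφ => by rw [ho _ hζ _ hφ, mul_zero]
  · exact Finset.sum_eq_zero fun ξ hξ => ho _ hξ _ hζL
  · exact Finset.sum_eq_zero fun φ hφ => by
      rw [Finset.sum_eq_zero fun ξ hξ => ho _ hξ _ hφ, mul_zero]

/-- The weighted sum of a part of `S(P)` is orthogonal to the images. -/
theorem side_perp (hD' : DadeHypothesis A' L R') (hdisj : Disjoint (dadeSupp A RM) (dadeSupp A' R'))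
    {S' : Set (L → ℂ)} {σ : (L → ℂ) → (G → ℂ)} (hiso' : IsLinearIsometryOn (zspan S') σ)
    (hagree' : ∀ α ∈ zspanOn S' {1}ᶜ, σ α = dadeIsometry A' L R' α) {T₀ : Finset (L → ℂ)} {q u : ℕ}
    (hT : ∀ φ ∈ T₀, φ ∈ S' ∧ conjFun φ ∈ S' ∧ IsIrrCharacter L φ ∧ conjFun φ ≠ φ) :
    (∀ ξ ∈ F, classInner (sideVec T₀ σ q u) (τ₁ ξ) = 0) ∧
      classInner (sideVec T₀ σ q u) (∑ ξ ∈ F, τ₁ ξ) = 0 := by
  have h0 : ∀ ξ ∈ F, classInner (sideVec T₀ σ q u) (τ₁ ξ) = 0 := fun ξ hξ => sideVec_perp fun φ hφ => by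
    obtain ⟨h1, h2, h3, h4⟩ := hT φ hφ
    rw [← classInner_comm, D.orth_images hD' hdisj hiso' hagree' h1 h2 h3 h4 hξ, map_zero]
  exact ⟨h0, by rw [classInner_sum_right]; exact Finset.sum_eq_zero h0⟩

end DegFamily

/-! ### The configuration -/

variable {S T U V : Subgroup G}

/-- `T'` without `1`. -/
def thirdA (T : Subgroup G) : Set G := (↑(⁅T, T⁆ : Subgroup G) : Set G) \ {1}

namespace Fourteen

open CfsgLib.OddOrder.S13 CfsgLib.OddOrder.S9 CfsgLib.MinSimpleOdd Subgroup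

variable (f : Fourteen S T W₁ W₂ U V) (hIII : IsOfTypeIII T)
include f hIII

theorem thirdA_subset : thirdA T ⊆ typeA0 T := fun a ha => by
  refine Or.inl ?_
  unfold typeA
  rw [if_neg (S8.not_typeI f.pair.hG f.kpair_T), typeCore, if_pos (Or.inl hIII)]
  exact ⟨ha.1, fun e => ha.2 e, a, ha.1, fun e => ha.2 e, rfl⟩

theorem thirdA_conj {x : G} (hx : x ∈ T) {a : G} (ha : a ∈ thirdA T) : x * a * x⁻¹ ∈ thirdA T :=
  ⟨((mem_set_normalizer_iff.mp (le_normalizer_derived hx)) a).mp ha.1, fun e => ha.2 (conj_eq_one_iff.mp e)⟩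

theorem thirdA_dade : DadeHypothesis (thirdA T) T (fun _ => ⊥) :=
  dadeHypothesis_subset (f.pair.swap.typeA0_dade f.imp) (f.thirdA_subset hIII)
    fun _ hx _ ha => f.thirdA_conj hIII hx ha

theorem third_hat (w : ↥(W₁ ⊔ W₂)) (h1 : (w : G) ∉ W₁) (h2 : (w : G) ∉ W₂) :
    (w : G) ∉ dadeSupp (thirdA T) (fun _ => (⊥ : Subgroup G)) := by
  classical
  haveI := Fintype.ofFinite T
  rintro ⟨a, ha, r, hr, x, hx⟩
  rw [mem_bot.mp hr, mul_one] at hx
  have hd := f.pair.swap.primeDade f.imp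
  have hw : (w : G) ∈ W₂ ⊔ W₁ := sup_comm W₁ W₂ ▸ w.2
  have hwA : (w : G) ∈ typeA0 T := hd.memV _ hw h2 h1
  obtain ⟨g, hg, e⟩ := hd.dade.fusion _ hwA x (by rw [hx]; exact f.thirdA_subset hIII ha)
  rw [hx] at e
  have hwT : (w : G) ∈ T := hd.le_sup hw
  have hder : (⟨(w : G), hwT⟩ : T) ∈ derK T := by
    refine mem_subgroupOf.mpr (((mem_set_normalizer_iff.mp (le_normalizer_derived hg)) (w : G)).mpr ?_)
    rw [e]
    exact ha.1
  refine h1 (hd.ti.mem₂_of_mem_kernel ?_ hder)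
  rw [hd.sup_eq_subgroupOf]
  exact hw

theorem third_mono {g : G} (hg : g ∈ dadeSupp (thirdA T) (fun _ => (⊥ : Subgroup G))) :
    g ∈ dadeSupp (typeA0 T) (fun _ => (⊥ : Subgroup G)) :=
  let ⟨a, ha, r⟩ := hg
  ⟨a, f.thirdA_subset hIII ha, r⟩

theorem third_disjoint_S :
    Disjoint (dadeSupp (thirdA T) (fun _ => (⊥ : Subgroup G))) (dadeSupp (typeA0 S) (fun _ => ⊥)) := by
  rw [Set.disjoint_left]
  intro g hg hgS
  obtain ⟨y, z, ⟨hz, hz'⟩, rfl⟩ := f.supp_inter.le ⟨hgS, f.third_mono hIII hg⟩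
  rw [← f.W₂_eq] at hz hz'
  refine f.third_hat hIII ⟨z, hz⟩ (fun e => hz' (Or.inl e)) (fun e => hz' (Or.inr e)) ?_
  obtain ⟨a, ha, r, hr, x, hx⟩ := hg
  exact ⟨a, ha, r, hr, x * y, by rw [← hx]; group⟩

theorem third_disjoint_kernel {L₀ : Subgroup G} (hL : IsCoatom L₀) (hκ : kappa L₀ = ∅) :
    Disjoint (dadeSupp (thirdA T) (fun _ => (⊥ : Subgroup G)))
      (dadeSupp ((sigmaCore L₀ : Set G) \ {1}) (supportR L₀)) :=
  (f.supp_disjoint_T hL hκ).mono_left fun _ hg => f.third_mono hIII hg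

/-- **(L3)** for `T` of type III. -/
theorem exists_third [Fintype S] [Fintype T] (hχ : IsCyclicTIFamily W₁ W₂ χ) :
    ∃ (F : Finset (T → ℂ)) (τ₁ : (T → ℂ) → (G → ℂ)) (ζ : T → ℂ),
      DegFamily (thirdA T) T (fun _ => ⊥) (derK T) χ F τ₁ ∧ ζ ∈ F ∧ (derK T).index = Nat.card W₂ ∧
      Nat.card V = Nat.card W₂ * F.card + 1 ∧
      (F : Set (T → ℂ)) = inducedIrrAbove (derK T) ((fittingHallOf T).subgroupOf T) := by
  classical
  have hd := f.pair.swap.primeDade f.imp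
  have hc := f.pair.swap.coreHypOf f.imp hd
  have sd := f.pair.swap.sideData f.imp
  haveI := hd.ti.normal
  haveI := hd.normalH
  set K : Subgroup T := derK T with hK
  set P : Subgroup T := (fittingHallOf T).subgroupOf T with hP
  haveI : Fintype K := Fintype.ofFinite K
  have hoddT : Odd (Nat.card T) := (f.pair.swap.typeData f.imp).odd.of_dvd_nat (dvd_refl _)
  have hv1 : 1 < Nat.card V := f.pair.swap.u_gt f.imp
  have hidx : K.index = Nat.card W₂ := by rw [hd.ti.index_eq, hd.card₁]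
  have hlin : ∀ θ : K → ℂ, IsIrrCharacter K θ → (∀ a : K, (a : T) ∈ P → θ a = θ 1) → θ 1 = 1 := by
    intro θ hθ hk
    obtain ⟨ξ, hξ, e⟩ := exists_quotient_irr (P.subgroupOf K) hθ fun n hn => hk n hn
    rw [e]
    refine degree_one_of_commutative (fun a b => ?_) hξ
    obtain ⟨a, rfl⟩ := QuotientGroup.mk_surjective a
    obtain ⟨b, rfl⟩ := QuotientGroup.mk_surjective b
    rw [← commutatorElement_eq_one_iff_mul_comm, ← QuotientGroup.mk'_apply, ← QuotientGroup.mk'_apply,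
      ← map_commutatorElement, QuotientGroup.mk'_apply, QuotientGroup.eq_one_iff, mem_subgroupOf]
    exact hc.mem_of_commutator a.2 b.2
  set F := (inducedIrrAbove_finite K P).toFinset with hF
  have hFc : (F : Set (T → ℂ)) = inducedIrrAbove K P := Set.Finite.coe_toFinset _
  have hmem : ∀ {ξ}, ξ ∈ F ↔ ξ ∈ inducedIrrAbove K P := Set.Finite.mem_toFinset _
  have hsub : ∀ ξ ∈ F, ξ ∈ inducedIrrAbove K (⊥ : Subgroup T) := fun ξ hξ =>
    inducedIrrAbove_subset K P (hmem.mp hξ)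
  have hirr : ∀ ξ ∈ F, IsIrrCharacter T ξ := fun ξ hξ => by
    obtain ⟨θ, hθ, hne, hk, rfl⟩ := hmem.mp hξ
    refine hd.ti.isIrr_indFun_of_ne hθ fun b e => ?_
    by_cases hb : b = 1
    · exact hne (by rw [e, hb, hd.ti.colChar_one])
    · have h1 := hlin θ hθ hk
      rw [e, sd.deg b hb, Nat.cast_eq_one] at h1
      omega
  have hdeg : ∀ ξ ∈ F, ξ 1 = (K.index : ℂ) := fun ξ hξ => by
    obtain ⟨θ, hθ, -, hk, rfl⟩ := hmem.mp hξ
    rw [indFun_apply_one, hlin θ hθ hk, mul_one]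
  have hconj : ∀ ξ ∈ F, conjFun ξ ∈ F := fun ξ hξ => hmem.mpr (inducedIrrAbove_conj K P (hmem.mp hξ))
  have hnr : ∀ ξ ∈ F, conjFun ξ ≠ ξ := fun ξ hξ => by
    obtain ⟨θ, hθ, hne, -, rfl⟩ := hmem.mp hξ
    exact hd.ti.indFun_conj_ne hoddT hθ hne
  have hiff : ∀ a : T, (a : G) ∈ thirdA T ↔ a ∈ K ∧ a ≠ 1 := fun a =>
    ⟨fun ha => ⟨mem_subgroupOf.mpr ha.1, fun e => ha.2 (by rw [e]; rfl)⟩,
      fun ha => ⟨mem_subgroupOf.mp ha.1, fun e => ha.2 (Subtype.ext e)⟩⟩
  have hgal : ∀ (s : ℂ ≃+* ℂ), ∀ ξ ∈ F, (fun x => s (ξ x)) ∈ F := fun s ξ hξ => by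
    obtain ⟨θ, hθ, hne, hk, rfl⟩ := hmem.mp hξ
    refine hmem.mpr ⟨fun n => s (θ n), isIrr_galois s hθ, fun h0 => hne (funext fun n => s.injective ?_),
      fun x hx => ?_, ?_⟩
    · rw [congrFun h0 n, map_one]
    · show s (θ x) = s (θ 1)
      rw [hk x hx]
    · rw [← S11.indFun_galois]
  -- the count
  have hcard : Nat.card V = Nat.card W₂ * F.card + 1 := by
    have key := norm_ratio_sum K P (fun _ => Nat.card W₂) (fun _ => 1)
      (fun φ hφ => by rw [hdeg φ (hmem.mpr hφ), hidx])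
      fun φ hφ => by rw [classInner_irr_self (hirr φ (hmem.mpr hφ)), Nat.cast_one]
    rw [Finset.sum_const, nsmul_eq_mul, ← hF, hidx,
      show P.relIndex K = Nat.card V from sd.index] at key
    have hp0 : (Nat.card W₂ : ℝ) ≠ 0 := Nat.cast_ne_zero.mpr Nat.card_pos.ne'
    have h2 : (Nat.card V : ℝ) = (Nat.card W₂ : ℝ) * F.card + 1 := by
      field_simp at key
      push_cast at key
      linarith [key]
    exact_mod_cast h2
  have hthree : 3 ≤ F.card := by
    have hp := f.pair.p_prime f.imp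
    have hq := f.pair.q_prime f.imp
    have hqp := f.q_lt_p
    have hq3 : 3 ≤ Nat.card W₁ := by
      obtain ⟨k, hk⟩ := f.pair.q_odd f.imp
      have := hq.two_le
      omega
    have h1 : 3 ^ (Nat.card W₂ - 1) ≤ Nat.card V := by
      rw [f.v_full]
      exact (Nat.pow_le_pow_left hq3 _).trans (pow_pred_le_geom hp.one_le)
    have h2 : ∀ n, 4 ≤ n → 3 * n + 1 ≤ 3 ^ (n - 1) := by
      intro n hn
      induction n, hn using Nat.le_induction with
      | base => norm_num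
      | succ n hn ih =>
        rw [show n + 1 - 1 = n - 1 + 1 by omega, pow_succ]
        omega
    have h3 := h2 (Nat.card W₂) (by omega)
    by_contra hlt
    have : Nat.card W₂ * F.card ≤ Nat.card W₂ * 2 := Nat.mul_le_mul_left _ (by omega)
    omega
  -- the Dade isometry and coherence
  have hvan : ∀ α ∈ zspanOn (F : Set (T → ℂ)) {1}ᶜ, ∀ x : T, (x : G) ∉ thirdA T → α x = 0 := fun α hα x hx => by
    by_cases hx1 : x = 1
    · exact hα.2 x fun hc' => hc' hx1
    · exact zspan_eq_zero (fun φ hφ => inducedAbove_vanish K (hsub φ hφ) fun h' => hx ((hiff x).mpr ⟨h', hx1⟩)) hα.1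
  have hgen : ∀ φ ∈ (F : Set (T → ℂ)), IsGeneralizedCharacter T φ := fun φ hφ =>
    isGenChar_of_char (isCharacter_of_irr (hirr φ hφ))
  obtain ⟨hiso, hone⟩ := dade_isometryOn (f.thirdA_dade hIII) hgen hvan
  obtain ⟨a, ha, b, hb, hab⟩ := Finset.one_lt_card.mp (show 1 < F.card by omega)
  obtain ⟨-, τ₁, hτ, hagree⟩ := coherent_equal_degree (F : Set (T → ℂ)) F.finite_toSet hirr
    (fun ξ hξ η hη => by rw [hdeg ξ hξ, hdeg η hη]) ⟨a, ha, b, hb, hab⟩ hiso hone
  have hcomm : ∀ ξ ∈ F, τ₁ (conjFun ξ) = conjFun (τ₁ ξ) := fun ξ hξ => by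
    refine coherent_galois (S := (F : Set (T → ℂ))) (Complex.conjAe.toRingEquiv) hirr hconj hτ hagree
      (fun α _ => dade_map (fun z => conj z) (map_zero _) α) (fun φ => ?_) (Finset.mem_coe.mpr hξ)
    have h2 : 1 < (F.erase φ).card := by
      have := Finset.pred_card_le_card_erase (a := φ) (s := F)
      omega
    obtain ⟨x, hx, y, hy, hxy⟩ := Finset.one_lt_card.mp h2
    exact ⟨x, Finset.mem_of_mem_erase hx, y, Finset.mem_of_mem_erase hy, Finset.ne_of_mem_erase hx,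
      Finset.ne_of_mem_erase hy, hxy⟩
  -- orthogonality to the family of `W`
  have h := f.pair.primeDade f.imp
  have horth : ∀ ξ ∈ F, ∀ ω, classInner (τ₁ ξ) (χ ω) = 0 := fun ξ hξ ω => by
    have hξc := hconj ξ hξ
    have hne := Ne.symm (hnr ξ hξ)
    have hm : ξ - conjFun ξ ∈ zspanOn (F : Set (T → ℂ)) {1}ᶜ :=
      ⟨Submodule.sub_mem _ (Submodule.subset_span hξ) (Submodule.subset_span hξc), fun x hx => by
        rw [not_not.mp hx, Pi.sub_apply, conjFun_char_one (isCharacter_of_irr (hirr ξ hξ)), sub_self]⟩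
    have hN : classInner (τ₁ (ξ - conjFun ξ)) (τ₁ (ξ - conjFun ξ)) = ((2 : ℤ) : ℂ) := by
      rw [hτ.2.2.1 _ hm.1 _ hm.1, classInner_sub_left, classInner_sub_right, classInner_sub_right,
        classInner_irr_self (hirr _ hξ), classInner_irr_self (hirr _ hξc),
        classInner_irr_ne (hirr _ hξ) (hirr _ hξc) hne, classInner_irr_ne (hirr _ hξc) (hirr _ hξ) hne.symm]
      norm_num
    have h0 := h.classInner_family_eq_zero hχ (hτ.2.2.2 _ hm.1) hN le_rfl (fun w h1 h2 => by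
      rw [hagree _ hm]
      exact dade_eq_zero_of_notMem (f.thirdA_dade hIII) _ (f.third_hat hIII w h1 h2)) ω
    rw [isometryOn_sub hτ (Submodule.subset_span hξ) (Submodule.subset_span hξc), classInner_sub_left,
      sub_eq_zero] at h0
    by_contra hne0
    have hsg : ∀ {φ}, φ ∈ F → IsSignedIrr (τ₁ φ) := fun hφ => signed_image hirr hτ (Finset.mem_coe.mpr hφ)
    have hη : IsSignedIrr (χ ω) := irr_or_neg_of_norm_one (cycFamily_signed hχ ω)
      (by rw [hχ.orthonormal, if_pos rfl])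
    obtain ⟨ε, hε, e1⟩ := (signed_cases (hsg hξ) hη).resolve_left hne0
    obtain ⟨ε', hε', e2⟩ := (signed_cases (hsg hξc) hη).resolve_left (h0 ▸ hne0)
    have hz : classInner (τ₁ ξ) (τ₁ (conjFun ξ)) = 0 := by
      rw [hτ.2.2.1 _ (Submodule.subset_span hξ) _ (Submodule.subset_span hξc),
        classInner_irr_ne (hirr _ hξ) (hirr _ hξc) hne]
    rw [e1, e2, classInner_smul_left, classInner_smul_right, hχ.orthonormal, if_pos rfl] at hz
    rcases hε with rfl | rfl <;> rcases hε' with rfl | rfl <;> simp at hz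
  exact ⟨F, τ₁, a,
    { dade := f.thirdA_dade hIII
      normal := hd.ti.normal
      mem_iff := hiff
      sub := hsub
      irr := hirr
      deg := hdeg
      conj_mem := hconj
      conj_ne := hnr
      galois_mem := hgal
      iso := hτ
      agree := hagree
      conj_comm := hcomm
      orth := horth
      hat := f.third_hat hIII }, ha, hidx, hcard, hFc⟩

/-- The second bridge of the assembly when `T` has type III. -/
theorem second_typeIII (hχ : IsCyclicTIFamily W₁ W₂ χ) {L₀ : Subgroup G} (hL : IsCoatom L₀) (hκ : kappa L₀ = ∅) :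
    ∃ (X : Set G) (β P t : G → ℂ) (e N : ℕ) (c a₀ b₀ : ℤ),
      Second f χ (dadeSupp ((sigmaCore L₀ : Set G) \ {1}) (supportR L₀)) X β P t e N c a₀ b₀ := by
  classical
  haveI := Fintype.ofFinite S
  haveI := Fintype.ofFinite T
  obtain ⟨F, τ₁, ζ, D, hζ, hidx, hv, -⟩ := f.exists_third hIII hχ
  obtain ⟨c, hc⟩ := D.exists_bridge hζ hχ
  obtain ⟨a₀, b₀, hT⟩ := D.exists_table hζ (f.pair.primeDade f.imp) hχ (f.pair.q_prime f.imp) (f.pair.p_prime f.imp)
  have hodd : Odd (Nat.card V) := by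
    rw [f.v_full]
    exact geom_odd (f.pair.q_odd f.imp) (f.pair.swap.q_odd f.imp)
  have heven : Even F.card := by
    have h1 : Even (Nat.card W₂ * F.card) := by
      obtain ⟨k, hk⟩ := hodd
      exact ⟨k, by omega⟩
    exact (Nat.even_mul.mp h1).resolve_left (Nat.not_even_iff_odd.mpr (f.pair.swap.q_odd f.imp))
  have htwo : 2 ≤ F.card := by
    have h1 : 0 < F.card := Finset.card_pos.mpr ⟨ζ, hζ⟩
    obtain ⟨k, hk⟩ := heven
    omega
  refine ⟨_, _, _, _, _, _, c, a₀, b₀,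
    { bridge := hc
      table := hT
      index := Or.inl hidx
      size := by rw [hidx, hv]
      even := heven
      two_le := htwo
      one_notMem := one_notMem_dadeSupp (f.thirdA_dade hIII)
      disj_S := f.third_disjoint_S hIII
      disj_L := f.third_disjoint_kernel hIII hL hκ
      span := fun g hg => ?_
      count := fun _ => ⟨_, Set.subset_union_left, f.third_disjoint_S hIII,
        one_notMem_dadeSupp (f.thirdA_dade hIII), le_of_eq_of_le ?_ (supp_measure (f.thirdA_dade hIII))⟩ }⟩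
  · have h0 : ∀ ξ ∈ F, classInner g (τ₁ ξ) = 0 := fun ξ hξ =>
      hg _ (paired_of_agree D.dade D.iso D.agree (Finset.mem_coe.mpr hξ) (D.irr ξ hξ)
        (Finset.mem_coe.mpr (D.conj_mem ξ hξ)) (D.conj_ne ξ hξ))
    exact ⟨by rw [classInner_sum_right]; exact Finset.sum_eq_zero h0, h0 ζ hζ⟩
  · have sd := f.pair.swap.sideData f.imp
    have hd := f.pair.swap.primeDade f.imp
    have hcore := f.pair.swap.coreHypOf f.imp hd
    have hK : Nat.card (derK T) = Nat.card W₁ ^ Nat.card W₂ * Nat.card V := by rw [sd.card_K, hcore.card_P]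
    have hA : Nat.card (thirdA T) = Nat.card W₁ ^ Nat.card W₂ * Nat.card V - 1 := by
      rw [← hK, thirdA, Nat.card_congr (subgroupOfEquivOfLe (commutator_le_self T)).toEquiv,
        Nat.card_coe_set_eq, Set.ncard_sdiff (Set.singleton_subset_iff.mpr (one_mem _)) (Set.finite_singleton 1),
        Set.ncard_singleton]
      rfl
    have hT' : Nat.card T = Nat.card W₁ ^ Nat.card W₂ * Nat.card V * Nat.card W₂ := by
      rw [sd.card_L, hcore.card_P]
    have hpos : 1 ≤ Nat.card W₁ ^ Nat.card W₂ * Nat.card V :=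
      Nat.mul_pos (pow_pos Nat.card_pos _) Nat.card_pos
    rw [hA, hT', Nat.cast_sub hpos]
    push_cast
    ring

end Fourteen

end CfsgLib.OddOrder.S14
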