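import Cfsg.Agent.Lib.OddOrder.S14.StepB

/-!
Section 14, Step C: the kernel of `L` is `U`, or a conjugate of a cyclic `V`.
-/

set_option autoImplicit false

namespace CfsgLib.OddOrder.S14

open CfsgLib.OddOrder.S13

namespace Nums.Valid

variable {n : Nums} {conj Vcyc : Prop} (H : n.Valid conj Vcyc)
include H

theorem pow_pred_le_geom : n.p ^ (n.q - 1) ≤ geom n.p n.q := by
  have := H.hq.pos
  exact Finset.single_le_sum (f := fun i => n.p ^ i) (fun _ _ => Nat.zero_le _)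
    (Finset.mem_range.mpr (by omega))

theorem geom_mod_p : geom n.p n.q % n.p = 1 := by
  obtain ⟨q', hq'⟩ := Nat.exists_eq_add_of_le H.hq.one_le
  rw [hq', geom, add_comm 1 q', Finset.sum_range_succ', pow_zero]
  obtain ⟨c, hc⟩ : n.p ∣ ∑ i ∈ Finset.range q', n.p ^ (i + 1) :=
    Finset.dvd_sum fun i _ => dvd_pow_self _ (Nat.succ_ne_zero i)
  rw [hc, Nat.mul_add_mod, Nat.mod_eq_of_lt H.hp.one_lt]

/-- Step C: `H` has order `u`, or `L` is conjugate to `M` and `H` has the order of a cyclic `V`. -/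
theorem stepC : n.h = n.u ∨ (conj ∧ n.h = n.v ∧ Vcyc) := by
  have hu := H.stepB
  have hq3 := H.q_ge
  have hp5 := H.p_ge
  have hu1 := H.u_gt
  have hh := H.h_eq
  obtain ⟨k, hk⟩ := H.h_dvd
  have hup : n.u % n.p = 1 := hu ▸ H.geom_mod_p
  have hkp : k % n.p = 1 := by
    have h1 : (n.u * k) % n.p = 1 := by
      rw [← hk, hh, mul_assoc, Nat.mul_add_mod, Nat.mod_eq_of_lt H.hp.one_lt]
    rwa [Nat.mul_mod, hup, one_mul, Nat.mod_mod] at h1
  have hkq : k % n.q = 1 := by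
    have h1 : (n.u * k) % n.q = 1 := by
      rw [← hk, hh, mul_comm n.p, mul_assoc, Nat.mul_add_mod, Nat.mod_eq_of_lt H.hq.one_lt]
    rwa [Nat.mul_mod, H.u_mod, one_mul, Nat.mod_mod] at h1
  by_cases hk1 : k = 1
  · exact Or.inl (by rw [hk, hk1, mul_one])
  have hko : Odd k := H.h_odd.of_dvd_nat (hk ▸ dvd_mul_left k n.u)
  have hkbig : 2 * (n.p * n.q) + 1 ≤ k := by
    have hk0 := hko.pos
    have hpq : n.p * n.q ∣ k - 1 := Nat.Coprime.mul_dvd_of_dvd_of_dvd
      ((Nat.coprime_primes H.hp H.hq).mpr (by omega))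
      ((Nat.modEq_iff_dvd' hk0).mp (by rw [Nat.ModEq, Nat.mod_eq_of_lt H.hp.one_lt, hkp]))
      ((Nat.modEq_iff_dvd' hk0).mp (by rw [Nat.ModEq, Nat.mod_eq_of_lt H.hq.one_lt, hkq]))
    have h2 : Even (k - 1) := Nat.Odd.sub_odd hko odd_one
    have h4 : 2 * (n.p * n.q) ∣ k - 1 := Nat.Coprime.mul_dvd_of_dvd_of_dvd
      (Nat.coprime_two_left.mpr ((H.hp.odd_of_ne_two H.p_ne_two).mul (H.hq.odd_of_ne_two H.hq2)))
      (even_iff_two_dvd.mp h2) hpq
    have := Nat.le_of_dvd (by omega) h4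
    omega
  have hhbig : n.u * (2 * (n.p * n.q) + 1) ≤ n.h := hk ▸ Nat.mul_le_mul_left n.u hkbig
  have hup2 : n.p * n.p ≤ n.u := by
    refine le_trans ?_ (hu ▸ H.pow_pred_le_geom)
    rw [← sq]
    exact Nat.pow_le_pow_right H.hp.pos (by omega)
  have hcS : n.cS = 0 := by
    by_contra h0
    have h1 : n.NL * n.q + 1 ≤ n.u := by
      have h' := H.cS_le
      have : (n.NL : ℤ) * n.q ≤ n.cS ^ 2 * n.NL * n.q := by
        rw [mul_assoc]
        exact le_mul_of_one_le_left (by positivity) (one_le_sq h0)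
      exact_mod_cast (show (n.NL : ℤ) * n.q + 1 ≤ n.u by linarith)
    have h2 := Nat.mul_le_mul_left n.p h1
    have h3 : n.p * 2 ≤ n.p * n.q * 2 := Nat.mul_le_mul_right _ (Nat.le_mul_of_pos_right _ (by omega))
    clear * - hh hhbig h2 h3 hu1
    nlinarith
  have hB : Odd n.B := by
    have := H.parS
    rwa [hcS, add_zero] at this
  have hA : ¬ Odd n.A := fun hA => by
    have h1 := H.oddA hu hA (by
      intro e
      rw [e] at hk
      exact hk1 (Nat.eq_of_mul_eq_mul_left (show 0 < n.u by omega) (by omega)))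
    have hpu : n.p ≤ n.u := le_trans (Nat.le_mul_of_pos_right _ H.hp.pos) hup2
    have h2 : 2 * n.u ≤ (n.p - 2) * n.u - n.p := by
      have := Nat.mul_le_mul_right n.u (show 3 ≤ n.p - 2 by omega)
      omega
    have h3 := le_trans (Nat.mul_le_mul hhbig h2) h1
    have h4 : n.u * (n.u * (4 * (n.p * n.q))) ≤ n.u * (n.p * n.q * (n.p * n.q)) := by
      clear * - h3
      nlinarith
    have h5 := Nat.le_of_mul_le_mul_left h4 (by omega)
    have h6 : n.p * n.q ≤ n.p * n.p := Nat.mul_le_mul_left _ (by omega)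
    have h7 : 0 < n.p * n.q := Nat.mul_pos H.hp.pos H.hq.pos
    clear * - h5 h6 h7 hup2
    nlinarith
  have hd : Odd n.d := by
    have h' := H.parT
    rw [Int.not_odd_iff_even] at hA
    exact (Int.odd_add'.mp h').mpr hA
  have hdle : n.NL * n.p + 1 ≤ n.v := by
    have h' := H.d_le
    have : (n.NL : ℤ) * n.p ≤ n.d ^ 2 * n.NL * n.p := by
      rw [mul_assoc]
      exact le_mul_of_one_le_left (by positivity) (one_le_sq (odd_ne_zero hd))
    exact_mod_cast (show (n.NL : ℤ) * n.p + 1 ≤ n.v by linarith)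
  have hvu : 2 * (n.p * n.u) < n.v := by
    have h2 := Nat.mul_le_mul_left n.q hdle
    clear * - hh hhbig h2 hu1 hq3
    nlinarith
  rcases H.cases with ⟨hc, -, -, -, j, hj⟩ | ⟨hpar, hc1, hc2⟩
  · refine Or.inr ⟨hc, ?_⟩
    have hjq : j < n.q := by
      by_contra hge
      have := Nat.mul_le_mul_left n.v (not_lt.mp hge)
      nlinarith
    have hj1 : j = 1 := by
      have h1 : (n.v * j) % n.p = 1 := by
        rw [← hj, hh, mul_assoc, Nat.mul_add_mod, Nat.mod_eq_of_lt H.hp.one_lt]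
      rwa [Nat.mul_mod, H.v_mod, one_mul, Nat.mod_mod, Nat.mod_eq_of_lt (by omega)] at h1
    rw [hj1, mul_one] at hj
    refine ⟨hj, ?_⟩
    rcases H.v_shape with ⟨-, hV⟩ | ⟨b, hb, hvb⟩
    · exact hV
    obtain ⟨r, hr, hru⟩ := Nat.exists_prime_and_dvd H.u_gt.ne'
    have hrq : r % n.q = 1 := geom_prime_dvd H.hp H.hq hr (hu ▸ hru) fun e => H.q_not_dvd_u (e ▸ hru)
    have h2 := Nat.le_of_dvd (by omega) ((prime_dvd_pow_of_dvd hr (hru.trans (hj ▸ H.h_dvd)) hvb).trans hb)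
    rw [Nat.mod_eq_of_lt (by omega)] at hrq
    exact absurd hrq hr.ne_one
  exfalso
  have heM : n.eM ≤ n.p * n.q := by
    rcases H.eM_eq with e | e <;> rw [e]
    exact Nat.le_mul_of_pos_right _ (by omega)
  have hq2p : n.q * n.q < 2 * n.p ^ (n.q - 2) := by
    rcases (show n.q = 3 ∨ 4 ≤ n.q by omega) with e | e
    · rw [e]
      norm_num
      omega
    · have h1 : n.p ^ 2 ≤ n.p ^ (n.q - 2) := Nat.pow_le_pow_right H.hp.pos (by omega)
      have h2 := Nat.mul_le_mul H.hqp.le H.hqp.le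
      have h3 := Nat.mul_pos H.hp.pos H.hp.pos
      rw [sq] at h1
      omega
  have hbig : n.p * n.q * (n.p * n.q) < 2 * (n.p * n.u) := by
    have h1 : n.p * n.p ^ (n.q - 2) ≤ n.u := by
      rw [← pow_succ']
      rw [show n.q - 2 + 1 = n.q - 1 by omega]
      exact hu ▸ H.pow_pred_le_geom
    have h2 := Nat.mul_lt_mul_of_pos_left hq2p (Nat.mul_pos H.hp.pos H.hp.pos)
    clear * - h1 h2
    nlinarith
  have hc' : n.c' = 0 := by
    by_contra h0
    have h1 := mul_le_mul_of_nonneg_right (one_le_sq h0) (Int.natCast_nonneg n.NL)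
    have h3 : 0 ≤ fval n.q n.AM n.BM ^ 2 * (n.NS : ℤ) := by positivity
    have h4 := grid_nonneg (p := n.p) (q := n.q) (by omega) (by omega) n.AM n.BM
    have h5 : n.NL + 1 ≤ n.eM := by
      have : ((n.NL + 1 : ℕ) : ℤ) ≤ (n.eM : ℤ) := by push_cast; linarith
      exact_mod_cast this
    have h6 := Nat.mul_le_mul_left (n.p * n.q) (h5.trans heM)
    have h7 : n.p * n.u ≤ n.p * n.q * n.u := Nat.mul_le_mul_right _ (Nat.le_mul_of_pos_right _ (by omega))
    clear * - hh hhbig h6 h7 hbig hu1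
    nlinarith
  have hd' : Odd n.d' := by rwa [hc', zero_add] at hpar
  have h1 := mul_le_mul_of_nonneg_right (one_le_sq (odd_ne_zero hd')) (Int.natCast_nonneg n.NM)
  have h3 : 0 ≤ fval n.q n.A n.B ^ 2 * (n.NS : ℤ) := by positivity
  have h4 := grid_nonneg (p := n.p) (q := n.q) (by omega) (by omega) n.A n.B
  have h5 : n.NM + 1 ≤ n.p * n.q := by
    have : ((n.NM + 1 : ℕ) : ℤ) ≤ ((n.p * n.q : ℕ) : ℤ) := by push_cast at hc2 ⊢; linarith
    exact_mod_cast this
  have h6 := Nat.mul_le_mul heM h5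
  have h7 : 1 ≤ n.eM := by
    rcases H.eM_eq with e | e <;> rw [e]
    · exact H.hp.pos
    · exact Nat.mul_pos H.hp.pos H.hq.pos
  have hm := H.m_eq
  have hmv := H.m_ge
  clear * - hvu hbig h6 h7 hm hmv
  nlinarith

end Nums.Valid

end CfsgLib.OddOrder.S14
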