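import Cfsg.Agent.Lib.OddOrder.S14.Sides
import Cfsg.Agent.Lib.OddOrder.S14.SecondIII
import Cfsg.Agent.Lib.OddOrder.S14.StepC
import Cfsg.Agent.Lib.OddOrder.S14.Final
import Cfsg.Agent.S1502

/-!
Section 14 of the blueprint: the numbers of the bridges satisfy `Nums.Valid`, and §5 closes the case.
-/

set_option autoImplicit false
set_option linter.unusedSectionVars false
set_option linter.style.haveILetI false

namespace CfsgLib.OddOrder.S14

open Cfsg CfsgLib.MinSimpleOdd CfsgLib.CharTheory CfsgLib.Dade CfsgLib.OddOrder.Found CfsgLib.OddOrder.S13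
open scoped ComplexConjugate Pointwise

universe u

variable {G : Type u} [Group G] [Fintype G] {S T W₁ W₂ U V : Subgroup G} {χ : WLin W₁ W₂ → (G → ℂ)}

/-- The index of a kernel over `N(U)`. -/
theorem kernel_index (h : FTPair S T W₁ W₂ U V) (_imp : FTImports G) {M C : Subgroup G} (hM : IsCoatom M)
    (hd : sigmaCore M ⊓ C = ⊥) (hs : sigmaCore M ⊔ C = M) :
    ((sigmaCore M).subgroupOf M).index = Nat.card C := by
  haveI := Fintype.ofFinite M
  haveI := S12.core_normal h.hG hM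
  have hle : sigmaCore M ≤ M := piCoreOf_le _ _
  have hn : M ≤ Subgroup.normalizer (sigmaCore M : Set G) :=
    (Subgroup.normal_subgroupOf_iff_le_normalizer hle).mp inferInstance
  refine S9.relIndex_of_compl ⟨hle, hs ▸ le_sup_right, hd, fun m hm => ?_⟩
  have hm' : m ∈ ((sigmaCore M ⊔ C : Subgroup G) : Set G) := by rw [hs]; exact hm
  rw [Subgroup.coe_mul_of_right_le_normalizer_left _ _ ((hs ▸ le_sup_right).trans hn), Set.mem_mul] at hm'
  obtain ⟨a, ha, c, hc, e⟩ := hm'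
  exact ⟨a, ha, c, hc, e.symm⟩

theorem card_sup_conj (h : FTPair S T W₁ W₂ U V) (imp : FTImports G) {y : G} (hy : y ∈ fittingHallOf T) :
    Nat.card ↥(W₁ ⊔ W₂.map (MulAut.conj y).toMonoidHom) = Nat.card W₂ * Nat.card W₁ := by
  haveI := h.swap.P_comm imp
  have hQ : W₁ ≤ fittingHallOf T := (h.swap.typeData imp).W2_le
  have hc : ∀ w ∈ W₁, y * w = w * y := fun w hw => by
    have e : (⟨y, hy⟩ : fittingHallOf T) * ⟨w, hQ hw⟩ = ⟨w, hQ hw⟩ * ⟨y, hy⟩ := mul_comm' _ _
    exact congrArg Subtype.val e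
  have hfix : W₁.map (MulAut.conj y).toMonoidHom = W₁ := by
    refine le_antisymm ?_ fun w hw => ⟨w, hw, ?_⟩
    · rintro _ ⟨w, hw, rfl⟩
      show y * w * y⁻¹ ∈ W₁
      rwa [hc w hw, mul_inv_cancel_right]
    · show y * w * y⁻¹ = w
      rw [hc w hw, mul_inv_cancel_right]
  conv_lhs => rw [← hfix, ← Subgroup.map_sup]
  rw [Subgroup.card_map_of_injective (MulEquiv.injective _), (card_hatSet h.hSP.selfNormalizing).1, mul_comm]

/-- A full `u` which divides `h ≠ u` keeps the coefficient of the table odd. -/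
theorem odd_B {p q u h NL : ℕ} (hp : p.Prime) (hq : 1 < q) (hu : u = geom p q) (hdvd : u ∣ h)
    (hh : h = p * q * NL + 1) (hne : h ≠ u) {B cS : ℤ} (hpar : Odd (B + cS))
    (hb : cS ^ 2 * (NL : ℤ) * q + 1 ≤ (u : ℤ)) : Odd B := by
  by_contra hB
  have hc : Odd cS := by
    obtain ⟨i, hi⟩ := Int.not_odd_iff_even.mp hB
    obtain ⟨j, hj⟩ := hpar
    exact ⟨j - i, by omega⟩
  have h1 := one_le_sq (odd_ne_zero hc)
  have h2 : ((q * NL + 1 : ℕ) : ℤ) ≤ (u : ℤ) := by
    push_cast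
    have : (NL : ℤ) * q ≤ cS ^ 2 * (NL : ℤ) * q := by
      rw [mul_assoc]
      exact le_mul_of_one_le_left (by positivity) h1
    linarith
  have h2' : q * NL + 1 ≤ u := by exact_mod_cast h2
  obtain ⟨k, hk⟩ := hdvd
  have hu1 : u % p = 1 := by
    obtain ⟨q', hq'⟩ := Nat.exists_eq_add_of_le hq.le
    rw [hu, hq', geom, add_comm 1 q', Finset.sum_range_succ', pow_zero]
    obtain ⟨c, hc⟩ : p ∣ ∑ i ∈ Finset.range q', p ^ (i + 1) :=
      Finset.dvd_sum fun i _ => dvd_pow_self _ (Nat.succ_ne_zero i)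
    rw [hc, Nat.mul_add_mod, Nat.mod_eq_of_lt hp.one_lt]
  have hk1 : k % p = 1 := by
    have e : (u * k) % p = 1 := by rw [← hk, hh, mul_assoc, Nat.mul_add_mod, Nat.mod_eq_of_lt hp.one_lt]
    rwa [Nat.mul_mod, hu1, one_mul, Nat.mod_mod] at e
  rcases lt_or_ge k p with hlt | hge
  · rw [Nat.mod_eq_of_lt hlt] at hk1
    exact hne (by rw [hk, hk1, mul_one])
  · have h3 : u * p ≤ h := hk ▸ Nat.mul_le_mul_left u hge
    have h4 := Nat.mul_le_mul_right p h2'
    have := hp.two_le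
    nlinarith

/-- The facts of a second bridge in the form of `Nums.Valid`, or the conjugacy of the two kernels. -/
def SecondNums (W₁ W₂ U V L : Subgroup G) (NL NS eM NM : ℕ) (A B AM BM cSM c' d' : ℤ) : Prop :=
  Nat.card V ≤ eM * NM + 1 ∧ (eM = Nat.card W₂ ∨ eM = Nat.card W₂ * Nat.card W₁) ∧ Odd (BM + cSM) ∧
    cSM ^ 2 * (NM : ℤ) * Nat.card W₁ + 1 ≤ (Nat.card U : ℤ) ∧
    fval (Nat.card W₁) AM BM ^ 2 * NS + grid (Nat.card W₂) (Nat.card W₁) AM BM + 1 ≤ (eM : ℤ) ∧
    (((∃ M : Subgroup G, ∃ g : G, IsCoatom M ∧ V ≤ sigmaCore M ∧ M = MulAut.conj g • L) ∧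
        eM * NM + 1 = Nat.card (sigmaCore L) ∧ AM = A ∧ BM = B ∧ Nat.card V ∣ Nat.card (sigmaCore L)) ∨
      (Odd (c' + d') ∧
        c' ^ 2 * (NL : ℤ) + fval (Nat.card W₁) AM BM ^ 2 * NS + grid (Nat.card W₂) (Nat.card W₁) AM BM + 1 ≤ (eM : ℤ) ∧
        d' ^ 2 * (NM : ℤ) + fval (Nat.card W₁) A B ^ 2 * NS + grid (Nat.card W₂) (Nat.card W₁) A B + 1 ≤
          ((Nat.card W₂ * Nat.card W₁ : ℕ) : ℤ)))

/-- The bound of a table by the sum over `S(P)`. -/
theorem norm_side (f : Fourteen S T W₁ W₂ U V) (hχ : IsCyclicTIFamily W₁ W₂ χ) {X : Set G} {β P t : G → ℂ}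
    {e N : ℕ} {c A B : ℤ} (D : IsBridge χ X β P t e N c) (Tb : IsTable χ β A B) (hN : 2 ≤ N)
    (hX : Disjoint X (dadeSupp (typeA0 S) fun _ => (⊥ : Subgroup G))) (hX1 : (1 : G) ∉ X)
    (hspan : ∀ g : G → ℂ, (∀ b, IsPaired X b → classInner g b = 0) → classInner g P = 0 ∧ classInner g t = 0)
    {Z : G → ℂ} {NS : ℕ} (hZ : SideSum S χ (Nat.card W₁) Z NS) {P' : G → ℂ} {N' : ℕ} {y : ℤ}
    (hP'η : ∀ ω, classInner P' (χ ω) = 0) (hP't : classInner P' t = 0) (hP'P : classInner P' P = 0)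
    (hP'Z : classInner P' Z = 0) (hP'P' : classInner P' P' = (N' : ℂ)) (hβP' : classInner β P' = (N' : ℂ) * y) :
    y ^ 2 * (N' : ℤ) + fval (Nat.card W₁) A B ^ 2 * NS + grid (Nat.card W₂) (Nat.card W₁) A B + 1 ≤ (e : ℤ) := by
  classical
  haveI := Fintype.ofFinite S
  have hd := f.pair.primeDade f.imp
  have hZb : ∀ b, IsPaired X b → classInner Z b = 0 := fun b hb =>
    hZ.perp hX hX1 (one_notMem_dadeSupp hd.dade) hb
  obtain ⟨hZP, hZt⟩ := hspan Z hZb
  exact D.norm_bound hχ hd hN Tb hZ.eta hZt hZP hZ.self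
    (hZ.table β A B Tb fun g hg => D.supp g (Set.disjoint_right.mp hX hg)) hP'η hP't hP'P hP'Z hP'P' hβP'

/-- The numbers of the second bridge. -/
theorem second_nums (f : Fourteen S T W₁ W₂ U V) (hχ : IsCyclicTIFamily W₁ W₂ χ) {L : Subgroup G} [Fintype L]
    (hL : IsCoatom L) (hκ : kappa L = ∅)
    (hidx : ((sigmaCore L).subgroupOf L).index = Nat.card W₂ * Nat.card W₁) {SL : Finset (L → ℂ)}
    {τ₁ : (L → ℂ) → (G → ℂ)} {ζ : L → ℂ} {NL : ℕ} {c A B : ℤ} (k : KernelPack χ L SL τ₁ ζ NL c A B) {cS : ℤ}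
    (hpar : Odd (B + cS)) (hcS : cS ^ 2 * (NL : ℤ) * Nat.card W₁ + 1 ≤ (Nat.card U : ℤ)) {Z : G → ℂ} {NS : ℕ}
    (hZ : SideSum S χ (Nat.card W₁) Z NS)
    (hsec : (∃ (M : Subgroup G) (g : G), IsCoatom M ∧ V ≤ sigmaCore M ∧ M = MulAut.conj g • L) ∨
      ∃ (X : Set G) (β P t : G → ℂ) (e N : ℕ) (c' AM BM : ℤ), Second f χ (kernelSupp L) X β P t e N c' AM BM) :
    ∃ (eM NM : ℕ) (AM BM cSM c' d' : ℤ), SecondNums W₁ W₂ U V L NL NS eM NM A B AM BM cSM c' d' := by
  classical
  haveI := Fintype.ofFinite S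
  have hX : Disjoint (kernelSupp L) (dadeSupp (typeA0 S) fun _ => (⊥ : Subgroup G)) := (f.supp_disjoint_S hL hκ).symm
  have hX1 : (1 : G) ∉ kernelSupp L := one_notMem_kernelSupp f hL
  have hS1 : (1 : G) ∉ dadeSupp (typeA0 S) fun _ => (⊥ : Subgroup G) :=
    one_notMem_dadeSupp (f.pair.primeDade f.imp).dade
  have hDL := k.bridge
  rw [hidx] at hDL
  rcases hsec with ⟨M, g, hM, hVM, rfl⟩ | ⟨X, β, P, t, e, N, c', AM, BM, s⟩
  · have hcard : Nat.card (sigmaCore L) = Nat.card W₂ * Nat.card W₁ * NL + 1 := hidx ▸ k.card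
    have hc : Nat.card (sigmaCore (MulAut.conj g • L)) = Nat.card (sigmaCore L) := by
      rw [sigmaCore_conj f.pair.hG hL g]
      exact Subgroup.card_map_of_injective (MulEquiv.injective _)
    have hdvd : Nat.card V ∣ Nat.card (sigmaCore L) := hc ▸ Subgroup.card_dvd_of_le hVM
    have h0 := norm_side f hχ hDL k.table k.two_le hX hX1 (k.span f) hZ (P' := 0) (N' := 0) (y := 0)
      (fun ω => by simp [classInner]) (by simp [classInner]) (by simp [classInner]) (by simp [classInner])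
      (by simp [classInner]) (by simp [classInner])
    exact ⟨Nat.card W₂ * Nat.card W₁, NL, A, B, cS, 0, 0, hcard ▸ Nat.le_of_dvd Nat.card_pos hdvd, Or.inr rfl,
      hpar, hcS, by simpa using h0, Or.inl ⟨⟨_, g, hM, hVM, rfl⟩, hcard.symm, rfl, rfl, hdvd⟩⟩
  obtain ⟨cSM, hp1, hp2⟩ := side_facts f.pair f.imp hχ s.bridge s.table s.even (by have := s.two_le; omega) s.disj_S
  obtain ⟨x, hx⟩ := classInner_genChar_int s.bridge.gen hDL.genT
  obtain ⟨y, hy⟩ := classInner_genChar_int hDL.gen s.bridge.genT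
  have hLX : ∀ a, IsPaired (kernelSupp L) a → ∀ b, IsPaired X b → classInner a b = 0 := fun a ha b hb =>
    paired_orth s.disj_L.symm hX1 s.one_notMem ha hb
  have hb1 : ∀ b, IsPaired X b → classInner b (kernelDegSum ((sigmaCore L).subgroupOf L) SL τ₁) = 0 ∧
      classInner b (τ₁ ζ) = 0 := fun b hb =>
    k.span f b fun a ha => by rw [← classInner_comm, hLX a ha b hb, map_zero]
  obtain ⟨htP, htt⟩ := s.span (τ₁ ζ) fun b hb => by rw [← classInner_comm, (hb1 b hb).2, map_zero]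
  obtain ⟨hPP, hPt⟩ := s.span (kernelDegSum ((sigmaCore L).subgroupOf L) SL τ₁)
    fun b hb => by rw [← classInner_comm, (hb1 b hb).1, map_zero]
  have hsep : Sep (kernelDegSum ((sigmaCore L).subgroupOf L) SL τ₁) (τ₁ ζ) P t := ⟨htt, htP, hPt, hPP⟩
  have hodd := hDL.cross_parity s.bridge f.pair.hG.1 s.disj_L.symm hsep k.even s.even hx hy
  have hZL := k.span f Z fun b hb => hZ.perp hX hX1 hS1 hb
  have hZX := s.span Z fun b hb => hZ.perp s.disj_S s.one_notMem hS1 hb
  have hM' := norm_side f hχ s.bridge s.table s.two_le s.disj_S s.one_notMem s.span hZ (P' := kernelDegSum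
      ((sigmaCore L).subgroupOf L) SL τ₁) (N' := NL) (y := x) hDL.P_eta hPt hPP
    (by rw [← classInner_comm, hZL.1, map_zero]) hDL.P_P (by
      rw [hDL.prop β fun g hg => s.bridge.supp g (Set.disjoint_right.mp s.disj_L hg), hx])
  have hM0 := norm_side f hχ s.bridge s.table s.two_le s.disj_S s.one_notMem s.span hZ (P' := 0) (N' := 0) (y := 0)
    (fun ω => by simp [classInner]) (by simp [classInner]) (by simp [classInner]) (by simp [classInner])
    (by simp [classInner]) (by simp [classInner])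
  have hL' := norm_side f hχ hDL k.table k.two_le hX hX1 (k.span f) hZ (P' := P) (N' := N) (y := y) s.bridge.P_eta
    (by rw [← classInner_comm, htP, map_zero]) (by rw [← classInner_comm, hPP, map_zero])
    (by rw [← classInner_comm, hZX.1, map_zero]) s.bridge.P_P (by
      rw [s.bridge.prop _ fun g hg => hDL.supp g (Set.disjoint_left.mp s.disj_L hg), hy])
  exact ⟨e, N, AM, BM, cSM, x, y, s.size, s.index, hp1, hp2, by simpa using hM0, Or.inr ⟨hodd, hM', hL'⟩⟩

/-- **Section 14.** -/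
theorem fourteen_false_of (f : Fourteen S T W₁ W₂ U V)
    (hA : ∀ {χ : WLin W₁ W₂ → (G → ℂ)}, IsCyclicTIFamily W₁ W₂ χ → ∀ {L : Subgroup G} [Fintype L], IsCoatom L →
      kappa L = ∅ → U ≤ sigmaCore L → ∀ {SL : Finset (L → ℂ)} {τ₁ : (L → ℂ) → (G → ℂ)} {ζ : L → ℂ} {NL : ℕ}
        {c A B : ℤ}, KernelPack χ L SL τ₁ ζ NL c A B →
        ((sigmaCore L).subgroupOf L).index ≠ Nat.card W₁)
    (hO : ∀ {χ : WLin W₁ W₂ → (G → ℂ)}, IsCyclicTIFamily W₁ W₂ χ → ∀ {L : Subgroup G} [Fintype L], IsCoatom L →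
      kappa L = ∅ → ∀ {SL : Finset (L → ℂ)} {τ₁ : (L → ℂ) → (G → ℂ)} {ζ : L → ℂ} {NL : ℕ}
        {c A B : ℤ}, KernelPack χ L SL τ₁ ζ NL c A B →
        ((sigmaCore L).subgroupOf L).index = Nat.card W₂ * Nat.card W₁ → 3 ≤ NL → Odd A → Odd B →
        Nat.card (sigmaCore L) * ((Nat.card W₂ - 2) * Nat.card U - Nat.card W₂) ≤
          Nat.card W₂ ^ 2 * Nat.card W₁ ^ 2 * Nat.card U) : False := by
  classical
  obtain ⟨χ, hχ⟩ := Cfsg.Agent.S1502.result W₁ W₂ f.pair.hSP.selfNormalizing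
    (f.pair.hG.1.of_dvd_nat (Subgroup.card_subgroup_dvd_card _))
  obtain ⟨L, hL, hNU, hκ, -, -, -, hUL, -, halt⟩ := f.exists_L
  haveI := Fintype.ofFinite L
  have hp := f.pair.p_prime f.imp
  have hq := f.pair.q_prime f.imp
  have hqo := f.pair.q_odd f.imp
  obtain ⟨SL, τ₁, ζ, NL, c, A, B, k⟩ := exists_kernelPack f hχ hL hκ
  rcases halt with ⟨hd, hs⟩ | ⟨y, hy, hd, hs⟩
  · exact hA hχ hL hκ hUL k (kernel_index f.pair f.imp hL hd hs)
  have hidx : ((sigmaCore L).subgroupOf L).index = Nat.card W₂ * Nat.card W₁ :=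
    (kernel_index f.pair f.imp hL hd hs).trans (card_sup_conj f.pair f.imp hy)
  have hWL : W₂.map (MulAut.conj y).toMonoidHom ≤ L := (le_sup_right.trans le_sup_right).trans hs.le
  obtain ⟨cS, hparS, hcS⟩ := side_facts f.pair f.imp hχ k.bridge k.table k.even (by have := k.two_le; omega)
    (f.supp_disjoint_S hL hκ).symm
  obtain ⟨d, hparT, hdle⟩ := side_facts_swap f.pair f.imp hχ k.bridge k.table k.even (by have := k.two_le; omega)
    (f.supp_disjoint_T hL hκ).symm
  obtain ⟨Z, NS, hZ, hNS⟩ := exists_sideSum f hχ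
  have hsec : (∃ (M : Subgroup G) (g : G), IsCoatom M ∧ V ≤ sigmaCore M ∧ M = MulAut.conj g • L) ∨
      ∃ (X : Set G) (β P t : G → ℂ) (e N : ℕ) (c' AM BM : ℤ), Second f χ (kernelSupp L) X β P t e N c' AM BM := by
    rcases f.typeT with hII | hIII
    · exact (second_typeII f hII hχ hL hκ).imp_left fun ⟨M, g, h1, _, h2, h3, _⟩ => ⟨M, g, h1, h2, h3⟩
    · exact Or.inr (f.second_typeIII hIII hχ hL hκ)
  obtain ⟨eM, NM, AM, BM, cSM, c', d', hsize, hindex, hparM, hcM, hnM, hcases⟩ :=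
    second_nums f hχ hL hκ hidx k hparS hcS hZ hsec
  have hnL := norm_side f hχ k.bridge k.table k.two_le (f.supp_disjoint_S hL hκ).symm (one_notMem_kernelSupp f hL)
    (k.span f) hZ (P' := 0) (N' := 0) (y := 0) (fun ω => by simp [classInner]) (by simp [classInner])
    (by simp [classInner]) (by simp [classInner]) (by simp [classInner]) (by simp [classInner])
  have hcard : Nat.card (sigmaCore L) = Nat.card W₂ * Nat.card W₁ * NL + 1 := hidx ▸ k.card
  have hdvd : Nat.card U ∣ Nat.card (sigmaCore L) := Subgroup.card_dvd_of_le hUL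
  have hodd : Odd (Nat.card (sigmaCore L)) := f.pair.hG.1.of_dvd_nat (Subgroup.card_subgroup_dvd_card _)
  let n : Nums :=
    { p := Nat.card W₂, q := Nat.card W₁, u := Nat.card U, v := Nat.card V, h := Nat.card (sigmaCore L),
      m := eM * NM + 1, eM := eM, NL := NL, NM := NM, NS := NS, A := A, B := B, AM := AM, BM := BM, cS := cS,
      d := d, cSM := cSM, c' := c', d' := d' }
  have hv : n.Valid (∃ M : Subgroup G, ∃ g : G, IsCoatom M ∧ V ≤ sigmaCore M ∧ M = MulAut.conj g • L)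
      (IsCyclic V) :=
    { hp := hp
      hq := hq
      hq2 := fun e => by
        change Nat.card W₁ = 2 at e
        rw [e] at hqo
        exact absurd hqo (by decide)
      hqp := f.q_lt_p
      u_gt := f.pair.u_gt f.imp
      u_mod := f.pair.u_mod f.imp
      v_mod := f.pair.swap.u_mod f.imp
      u_shape := f.pair.u_shape f.imp
      v_shape := Or.inl ⟨dvd_of_eq f.v_full, f.cyclic_V⟩
      u_full := f.pair.u_full_or f.imp
      full := Or.inr f.v_full
      h_dvd := hdvd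
      h_odd := hodd
      h_eq := hcard
      m_ge := hsize
      m_eq := rfl
      eM_eq := hindex
      NS_eq := hNS
      parS := hparS
      parT := hparT
      parSM := hparM
      cS_le := hcS
      d_le := hdle
      cSM_le := hcM
      normL := by
        rw [hidx] at hnL
        show fval (Nat.card W₁) A B ^ 2 * NS + grid (Nat.card W₂) (Nat.card W₁) A B + 1 ≤
          ((Nat.card W₂ * Nat.card W₁ : ℕ) : ℤ)
        simpa using hnL
      normM := hnM
      cases := hcases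
      oddA := fun hu hA' hne => by
        refine hO hχ hL hκ k hidx ?_ hA' (odd_B hp hq.one_lt hu hdvd hcard hne hparS hcS)
        change Nat.card U = geom (Nat.card W₂) (Nat.card W₁) at hu
        change Nat.card (sigmaCore L) ≠ Nat.card U at hne
        show 3 ≤ NL
        by_contra hlt
        have hNL : NL = 2 := by have := k.two_le; omega
        subst hNL
        obtain ⟨j, hj⟩ := hdvd
        have hj2 : 2 ≤ j := by
          rcases j with _ | _ | j
          · simp at hj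
          · exact absurd (hj.trans (mul_one _)) hne
          · omega
        have hq3 : 3 ≤ Nat.card W₁ := by
          obtain ⟨i, hi⟩ := hqo
          have := hq.two_le
          omega
        have h1 : Nat.card W₂ ^ (Nat.card W₁ - 1) ≤ Nat.card U := hu ▸ pow_pred_le_geom hq.one_le
        have h2 : Nat.card W₂ ^ 2 ≤ Nat.card W₂ ^ (Nat.card W₁ - 1) := Nat.pow_le_pow_right hp.pos (by omega)
        have h3 := Nat.mul_le_mul (h2.trans h1) hj2
        have := f.q_lt_p
        nlinarith }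
  have hfull : Nat.card U = geom (Nat.card W₂) (Nat.card W₁) := hv.stepB
  refine final_contradiction f.pair f.imp f.q_lt_p f.C_bot hfull ?_ hy hWL
  have hle : sigmaCore L ≤ L := piCoreOf_le _ _
  have hn : L ≤ Subgroup.normalizer (sigmaCore L : Set G) :=
    (Subgroup.normal_subgroupOf_iff_le_normalizer hle).mp (S12.core_normal f.pair.hG hL)
  rcases hv.stepC with e | ⟨⟨M, g, -, hVM, rfl⟩, e, hV⟩
  · rwa [Subgroup.eq_of_le_of_card_ge hUL e.le]
  · rw [sigmaCore_conj f.pair.hG hL g] at hVM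
    have hc : Nat.card ↥(MulAut.conj g • sigmaCore L : Subgroup G) = Nat.card (sigmaCore L) :=
      Subgroup.card_map_of_injective (MulEquiv.injective _)
    have hVeq : V = MulAut.conj g • sigmaCore L := Subgroup.eq_of_le_of_card_ge hVM (hc.trans e).le
    haveI : IsCyclic (sigmaCore L) := by
      rw [hVeq] at hV
      haveI := hV
      exact isCyclic_of_surjective (Subgroup.equivSMul (MulAut.conj g) (sigmaCore L)).symm
        (Subgroup.equivSMul (MulAut.conj g) (sigmaCore L)).symm.surjective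
    exact le_normalizer_of_cyclic hUL hn

end CfsgLib.OddOrder.S14
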