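import Cfsg.Agent.Lib.OddOrder.S14.Mass

/-!
Section 14 of the odd order theorem: Bessel's inequality for an orthogonal family, with the case of equality.
-/

set_option autoImplicit false
set_option linter.unusedSectionVars false

namespace CfsgLib.OddOrder.S14

open Cfsg CfsgLib.CharTheory CfsgLib.Dade CfsgLib.OddOrder.Found
open scoped ComplexConjugate

universe u

section Bessel

variable {X : Type u} [Group X] [Fintype X] {ι : Type*}

theorem meanSq_sub_proj (s : Finset ι) (f : ι → X → ℂ)
    (horth : ∀ i ∈ s, ∀ j ∈ s, i ≠ j → classInner (f i) (f j) = 0) (g : X → ℂ) :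
    meanSq (g - ∑ i ∈ s, (classInner g (f i) / (meanSq (f i) : ℂ)) • f i) =
      meanSq g - ∑ i ∈ s, Complex.normSq (classInner g (f i)) / meanSq (f i) := by
  classical
  set c : ι → ℂ := fun i => classInner g (f i) / (meanSq (f i) : ℂ) with hc
  set P : X → ℂ := ∑ i ∈ s, c i • f i with hP
  have key : ∀ i, classInner g (f i) * conj (c i) =
      ((Complex.normSq (classInner g (f i)) / meanSq (f i) : ℝ) : ℂ) := fun i => by
    simp only [hc, map_div₀, Complex.conj_ofReal, Complex.ofReal_div, ← Complex.mul_conj]
    ring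
  have hgP : classInner g P = ((∑ i ∈ s, Complex.normSq (classInner g (f i)) / meanSq (f i) : ℝ) : ℂ) := by
    rw [hP, classInner_sum_right, Complex.ofReal_sum]
    exact Finset.sum_congr rfl fun i _ => by rw [classInner_smul_right, mul_comm, key]
  have hPP : classInner P P = ((∑ i ∈ s, Complex.normSq (classInner g (f i)) / meanSq (f i) : ℝ) : ℂ) := by
    conv_lhs => arg 2; rw [hP]
    rw [classInner_sum_right, Complex.ofReal_sum]
    refine Finset.sum_congr rfl fun i hi => ?_
    rw [classInner_smul_right, hP, classInner_sum_left, Finset.sum_eq_single_of_mem i hi fun j hj hne => by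
      rw [classInner_smul_left, horth j hj i hi hne, mul_zero], classInner_smul_left, classInner_self_eq_meanSq,
      ← key]
    by_cases h0 : meanSq (f i) = 0
    · simp [hc, h0]
    · have : (meanSq (f i) : ℂ) ≠ 0 := Complex.ofReal_ne_zero.mpr h0
      simp only [hc]
      field_simp
  have hPg : classInner P g = ((∑ i ∈ s, Complex.normSq (classInner g (f i)) / meanSq (f i) : ℝ) : ℂ) := by
    rw [← classInner_comm g P, hgP, Complex.conj_ofReal]
  apply Complex.ofReal_injective
  rw [← classInner_self_eq_meanSq, classInner_sub_left, classInner_sub_right, classInner_sub_right, hgP, hPg, hPP,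
    classInner_self_eq_meanSq, Complex.ofReal_sub]
  ring

/-- Bessel's inequality for an orthogonal family. -/
theorem bessel_orth (s : Finset ι) (f : ι → X → ℂ)
    (horth : ∀ i ∈ s, ∀ j ∈ s, i ≠ j → classInner (f i) (f j) = 0) (g : X → ℂ) :
    ∑ i ∈ s, Complex.normSq (classInner g (f i)) / meanSq (f i) ≤ meanSq g := by
  have := meanSq_nonneg (g - ∑ i ∈ s, (classInner g (f i) / (meanSq (f i) : ℂ)) • f i)
  rw [meanSq_sub_proj s f horth g] at this
  linarith

/-- The case of equality in Bessel's inequality. -/
theorem eq_proj_of_tight (s : Finset ι) (f : ι → X → ℂ)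
    (horth : ∀ i ∈ s, ∀ j ∈ s, i ≠ j → classInner (f i) (f j) = 0) (g : X → ℂ)
    (h : meanSq g ≤ ∑ i ∈ s, Complex.normSq (classInner g (f i)) / meanSq (f i)) :
    g = ∑ i ∈ s, (classInner g (f i) / (meanSq (f i) : ℂ)) • f i := by
  set P := ∑ i ∈ s, (classInner g (f i) / (meanSq (f i) : ℂ)) • f i
  have e := meanSq_sub_proj s f horth g
  have h0 : meanSq (g - P) = 0 := le_antisymm (by linarith) (meanSq_nonneg _)
  funext x
  rw [meanSq, mul_eq_zero] at h0
  have h1 := h0.resolve_left (inv_ne_zero (Nat.cast_ne_zero.mpr Fintype.card_ne_zero))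
  have h2 := (Finset.sum_eq_zero_iff_of_nonneg fun y _ => Complex.normSq_nonneg _).mp h1 x (Finset.mem_univ x)
  rw [Complex.normSq_eq_zero, Pi.sub_apply, sub_eq_zero] at h2
  exact h2

end Bessel

end CfsgLib.OddOrder.S14
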