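import Cfsg.Agent.Lib.OddOrder.S14.MainData
import Cfsg.Agent.Lib.OddOrder.S14.TableL
import Cfsg.Agent.Lib.OddOrder.S12.Ortho

/-!
Section 14 of the blueprint, (L2): the bridge, the table and the images of a kernel `L` with `κ(L) = ∅`.
-/

set_option autoImplicit false
set_option linter.unusedSectionVars false
set_option linter.style.haveILetI false

namespace CfsgLib.OddOrder.S14

open Cfsg CfsgLib.MinSimpleOdd CfsgLib.CharTheory CfsgLib.Dade CfsgLib.OddOrder.Found CfsgLib.OddOrder.S13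
open scoped ComplexConjugate Pointwise

universe u

variable {G : Type u} [Group G] [Fintype G]

/-- The support of a kernel. -/
abbrev kernelSupp (L : Subgroup G) : Set G := dadeSupp ((sigmaCore L : Set G) \ {1}) (supportR L)

/-- Kernel data with its bridge. -/
structure KernelPack {W₁ W₂ : Subgroup G} (χ : WLin W₁ W₂ → (G → ℂ)) (L : Subgroup G) [Fintype L] (SL : Finset (L → ℂ))
    (τ₁ : (L → ℂ) → (G → ℂ)) (ζ : L → ℂ) (NL : ℕ) (c A B : ℤ) : Prop where
  data : IsKernelData ((sigmaCore L : Set G) \ {1}) L (supportR L) ((sigmaCore L).subgroupOf L) SL τ₁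
  kt : KernelTable data χ ζ
  irr : ∀ ξ ∈ SL, IsIrrCharacter L ξ
  tauConj : ∀ ξ ∈ SL, τ₁ (conjFun ξ) = conjFun (τ₁ ξ)
  paired : ∀ ξ ∈ SL, IsPaired (kernelSupp L) (τ₁ ξ)
  card : Nat.card (sigmaCore L) = ((sigmaCore L).subgroupOf L).index * NL + 1
  even : Even NL
  two_le : 2 ≤ NL
  bridge : IsBridge χ (kernelSupp L) (kernelBeta ((sigmaCore L : Set G) \ {1}) L (supportR L)
    ((sigmaCore L).subgroupOf L) ζ) (kernelDegSum ((sigmaCore L).subgroupOf L) SL τ₁) (τ₁ ζ)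
    ((sigmaCore L).subgroupOf L).index NL c
  table : IsTable χ (kernelBeta ((sigmaCore L : Set G) \ {1}) L (supportR L) ((sigmaCore L).subgroupOf L) ζ) A B

variable {S T W₁ W₂ U V : Subgroup G} (f : Fourteen S T W₁ W₂ U V) {χ : WLin W₁ W₂ → (G → ℂ)}
  (hχ : IsCyclicTIFamily W₁ W₂ χ) {L : Subgroup G} [Fintype L]
include f

theorem one_notMem_kernelSupp (hL : IsCoatom L) : (1 : G) ∉ kernelSupp L :=
  one_notMem_dadeSupp (S12.dade_sigmaCore f.pair.hG hL)

theorem hat_notMem_kernel (hL : IsCoatom L) (hκ : kappa L = ∅) (w : ↥(W₁ ⊔ W₂)) (h1 : (w : G) ∉ W₁)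
    (h2 : (w : G) ∉ W₂) : (w : G) ∉ kernelSupp L := by
  classical
  haveI := Fintype.ofFinite S
  have hd := f.pair.primeDade f.imp
  refine Set.disjoint_left.mp (f.supp_disjoint_S hL hκ) ?_
  exact ⟨w, hd.memV w w.2 h1 h2, 1, Subgroup.one_mem _, 1, by group⟩

include hχ

theorem exists_kernelPack (hL : IsCoatom L) (hκ : kappa L = ∅) :
    ∃ (SL : Finset (L → ℂ)) (τ₁ : (L → ℂ) → (G → ℂ)) (ζ : L → ℂ) (NL : ℕ) (c A B : ℤ),
      KernelPack χ L SL τ₁ ζ NL c A B := by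
  classical
  haveI := Fintype.ofFinite S
  have hG := f.pair.hG
  have hfr : S12.IsCoreFrobenius L := by
    have := f.imp.frobI L hL hκ
    rw [S8.fittingHallOf_of_kappa_empty hG hL hκ] at this
    exact this
  have hnil : Group.IsNilpotent (sigmaCore L) := nilpotent_of_kappa_empty hG hL hκ
  obtain ⟨SL, τ₁, ε, -, D, hfacts, -⟩ := S12.exists_core_kernelData hG hL hfr hnil
  set N := (sigmaCore L).subgroupOf L with hN
  haveI : N.Normal := S12.core_normal hG hL
  haveI := Fintype.ofFinite N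
  have hNbot : (⊥ : Subgroup L) < N := bot_lt_iff_ne_bot.mpr (S12.core_subgroupOf_ne_bot hG hL)
  have hsolvN : Group.IsSolvable N := by
    haveI : Group.IsSolvable L := solvable_of_ne_top hG hL.1
    infer_instance
  obtain ⟨θ, hθ, hθ1, hk, hd1⟩ := exists_linear_above N ⊥ hsolvN hNbot
  have hζ : indFun N θ ∈ SL := by
    rw [← Finset.mem_coe, D.set_eq]
    exact ⟨θ, hθ, hθ1, fun x hx => hk x hx, rfl⟩
  have hζ1 : indFun N θ 1 = (N.index : ℂ) := by rw [indFun_apply_one, hd1, mul_one]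
  have hirr : ∀ ξ ∈ SL, IsIrrCharacter L ξ := fun ξ hξ => (hfacts ξ hξ).1
  have hconj : ∀ ξ ∈ SL, τ₁ (conjFun ξ) = conjFun (τ₁ ξ) := fun ξ hξ => (hfacts ξ hξ).2.2.2.2
  have h2 : 1 < SL.card := Finset.one_lt_card.mpr
    ⟨_, hζ, _, (hfacts _ hζ).2.1, fun e => (hfacts _ hζ).2.2.1 e.symm⟩
  have k : KernelTable D χ (indFun N θ) :=
    ⟨hζ, hirr _ hζ, hζ1, h2, fun ξ hξ ω => S12.core_orth_family hG hL hfr D f.pair.hSP.selfNormalizing hχ
      (fun w h1 h2 => hat_notMem_kernel f hL hκ w h1 h2) hξ ω, fun w h1 h2 => hat_notMem_kernel f hL hκ w h1 h2⟩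
  have hc : Nat.card N = Nat.card (sigmaCore L) :=
    Nat.card_congr (Subgroup.subgroupOfEquivOfLe (piCoreOf_le _ _)).toEquiv
  -- the order of the kernel
  have hdeg : ∀ ξ : L → ℂ, ∃ d : ℕ, ξ ∈ SL → 0 < d ∧ ξ 1 = (N.index : ℂ) * d := fun ξ => by
    by_cases hξ : ξ ∈ SL
    · obtain ⟨d, hd⟩ := inducedAbove_degree N (D.mem hξ)
      exact ⟨d, fun _ => hd⟩
    · exact ⟨0, fun h => absurd h hξ⟩
  choose d hd using hdeg
  set NL := ∑ ξ ∈ SL, d ξ * d ξ with hNL
  have hcard : Nat.card N = N.index * NL + 1 := by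
    have hi : (N.index : ℂ) ≠ 0 := Nat.cast_ne_zero.mpr Subgroup.index_ne_zero_of_finite
    have e := sum_degree_sq_kernel_index N SL D.set_eq
    rw [Finset.sum_congr rfl fun ξ hξ => show ξ 1 * ξ 1 / classInner ξ ξ =
      (N.index : ℂ) * ((N.index : ℂ) * ((d ξ * d ξ : ℕ) : ℂ)) by
        rw [classInner_irr_self (hirr ξ hξ), div_one, (hd ξ hξ).2, Nat.cast_mul]; ring,
      ← Finset.mul_sum, ← Finset.mul_sum, ← Nat.cast_sum, mul_right_inj' hi, ← hNL] at e
    have e' : ((N.index * NL + 1 : ℕ) : ℂ) = (Nat.card N : ℂ) := by push_cast; linear_combination e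
    exact (Nat.cast_inj.mp e').symm
  have heven : Even NL := by
    have hodd : Odd (Nat.card N) := (hG.1.of_dvd_nat L.card_subgroup_dvd_card).of_dvd_nat N.card_subgroup_dvd_card
    rw [hcard, Nat.odd_add_one, Nat.not_odd_iff_even] at hodd
    exact (Nat.even_mul.mp hodd).resolve_left (Nat.not_even_iff_odd.mpr
      ((hG.1.of_dvd_nat L.card_subgroup_dvd_card).of_dvd_nat N.index_dvd_card))
  have hpos : 2 ≤ NL := by
    have : d (indFun N θ) * d (indFun N θ) ≤ NL := Finset.single_le_sum (f := fun ξ => d ξ * d ξ)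
      (fun ξ _ => Nat.zero_le _) hζ
    have := Nat.mul_pos (hd _ hζ).1 (hd _ hζ).1
    obtain ⟨j, hj⟩ := heven
    omega
  obtain ⟨c, hb⟩ := k.exists_bridge hirr hconj hcard
  obtain ⟨A, B, hT⟩ := k.exists_table (f.pair.primeDade f.imp) hχ (f.pair.q_prime f.imp) (f.pair.p_prime f.imp)
  refine ⟨SL, τ₁, indFun N θ, NL, c, A, B, D, k, hirr, hconj, fun ξ hξ => ?_, hc ▸ hcard, heven, hpos, hb, hT⟩
  exact paired_of_agree D.dade D.iso D.agree (Finset.mem_coe.mpr hξ) (hirr ξ hξ)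
    (Finset.mem_coe.mpr (hfacts ξ hξ).2.1) (hfacts ξ hξ).2.2.1

omit hχ in
/-- Whatever is orthogonal to all functions paired on the support is orthogonal to the bridge images. -/
theorem KernelPack.span {SL : Finset (L → ℂ)} {τ₁ : (L → ℂ) → (G → ℂ)} {ζ : L → ℂ} {NL : ℕ} {c A B : ℤ}
    (k : KernelPack χ L SL τ₁ ζ NL c A B) (g : G → ℂ) (hg : ∀ b, IsPaired (kernelSupp L) b → classInner g b = 0) :
    classInner g (kernelDegSum ((sigmaCore L).subgroupOf L) SL τ₁) = 0 ∧ classInner g (τ₁ ζ) = 0 := by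
  refine ⟨?_, hg _ (k.paired ζ k.kt.mem)⟩
  rw [kernelDegSum, classInner_sum_right]
  exact Finset.sum_eq_zero fun ξ hξ => by rw [classInner_smul_right, hg _ (k.paired ξ hξ), mul_zero]

end CfsgLib.OddOrder.S14
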