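import Cfsg.Agent.Lib.OddOrder.Found.Subcoherent
import Cfsg.Agent.Lib.OddOrder.Found.InvDadeKernel

/-!
Section 14 of the blueprint, (L6): the mass of `η_ij` on three disjoint TI sets.
-/

set_option autoImplicit false
set_option linter.unusedSectionVars false
set_option linter.style.haveILetI false

namespace CfsgLib.OddOrder.S14

open Cfsg CfsgLib.CharTheory CfsgLib.Dade CfsgLib.OddOrder.Found
open scoped ComplexConjugate

universe u

section Generic

variable {X : Type u} [Group X] [Fintype X]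

theorem meanSq_nonneg (f : X → ℂ) : 0 ≤ meanSq f :=
  mul_nonneg (by positivity) (Finset.sum_nonneg fun x _ => Complex.normSq_nonneg _)

theorem normSq_classInner_le (f g : X → ℂ) : Complex.normSq (classInner f g) ≤ meanSq f * meanSq g := by
  have h1 : ‖∑ x, f x * conj (g x)‖ ≤ ∑ x, ‖f x‖ * ‖g x‖ :=
    (norm_sum_le _ _).trans (le_of_eq (Finset.sum_congr rfl fun x _ => by rw [norm_mul, Complex.norm_conj]))
  have h2 : (∑ x, ‖f x‖ * ‖g x‖) ^ 2 ≤ (∑ x, ‖f x‖ ^ 2) * ∑ x, ‖g x‖ ^ 2 :=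
    Finset.sum_mul_sq_le_sq_mul_sq _ _ _
  simp only [Complex.normSq_eq_norm_sq, classInner, meanSq, norm_mul, norm_inv, Complex.norm_natCast,
    Nat.card_eq_fintype_card, mul_pow]
  calc (Fintype.card X : ℝ)⁻¹ ^ 2 * ‖∑ x, f x * conj (g x)‖ ^ 2
      ≤ (Fintype.card X : ℝ)⁻¹ ^ 2 * ((∑ x, ‖f x‖ ^ 2) * ∑ x, ‖g x‖ ^ 2) :=
        mul_le_mul_of_nonneg_left ((pow_le_pow_left₀ (norm_nonneg _) h1 2).trans h2) (by positivity)
    _ = _ := by ring

variable {G : Type u} [Group G] [Fintype G] {A : Set G} {L : Subgroup G} [Fintype L] {R : G → Subgroup G}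

/-- A test function bounds the mass below. -/
theorem test_le_mass (hD : DadeHypothesis A L R) {g : L → ℂ} (hg : IsClassFunction L g)
    (hgA : ∀ x : L, (x : G) ∉ A → g x = 0) {χ : G → ℂ} (hχ : IsClassFunction G χ) :
    Complex.normSq (classInner (dadeIsometry A L R g) χ) ≤ meanSq g * meanSq (dadeRho A L R χ) := by
  rw [classInner_dade_dadeRho hD hg hgA hχ]
  exact normSq_classInner_le g _

/-- Disjoint supports missing `1` carry less than the whole norm. -/
theorem sum_mass_lt {ι : Type*} [Fintype ι] (As : ι → Set G) (Ls : ι → Subgroup G) [∀ k, Fintype (Ls k)]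
    (Rs : ι → G → Subgroup G) (hD : ∀ k, DadeHypothesis (As k) (Ls k) (Rs k))
    (hdisj : Pairwise fun i j => Disjoint (dadeSupp (As i) (Rs i)) (dadeSupp (As j) (Rs j)))
    {χ : G → ℂ} (hχ : IsClassFunction G χ) (h1 : classInner χ χ = 1) (hne : χ 1 ≠ 0) :
    ∑ k, meanSq (dadeRho (As k) (Ls k) (Rs k) χ) < 1 := by
  classical
  set T : ι → Finset G := fun k => Finset.univ.filter (· ∈ dadeSupp (As k) (Rs k)) with hT
  have hTd : Set.PairwiseDisjoint (↑(Finset.univ : Finset ι)) T := fun i _ j _ hij => by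
    rw [Function.onFun, Finset.disjoint_left]
    intro g hg hg'
    exact Set.disjoint_left.mp (hdisj hij) (Finset.mem_filter.mp hg).2 (Finset.mem_filter.mp hg').2
  have hle : ∑ k, ∑ g ∈ T k, Complex.normSq (χ g) < ∑ g, Complex.normSq (χ g) := by
    rw [← Finset.sum_biUnion hTd]
    refine Finset.sum_lt_sum_of_subset (Finset.subset_univ _) (i := 1) (Finset.mem_univ _) ?_
      (Complex.normSq_pos.mpr hne) fun j _ _ => Complex.normSq_nonneg _
    simp only [Finset.mem_biUnion, not_exists, not_and]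
    exact fun k _ hk => one_notMem_dadeSupp (hD k) (Finset.mem_filter.mp hk).2
  rw [classInner_self_eq_meanSq, Complex.ofReal_eq_one, meanSq] at h1
  calc ∑ k, meanSq (dadeRho (As k) (Ls k) (Rs k) χ)
      ≤ ∑ k, (Nat.card G : ℝ)⁻¹ * ∑ g ∈ T k, Complex.normSq (χ g) :=
        Finset.sum_le_sum fun k _ => meanSq_dadeRho_le (hD k) hχ
    _ < (Nat.card G : ℝ)⁻¹ * ∑ g, Complex.normSq (χ g) := by
        rw [← Finset.mul_sum]
        exact mul_lt_mul_of_pos_left hle (inv_pos.mpr (Nat.cast_pos.mpr Nat.card_pos))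
    _ = 1 := by rw [Nat.card_eq_fintype_card]; exact h1

end Generic

section Cyclic

variable {G : Type u} [Group G] [Fintype G] {W₁ W₂ : Subgroup G}

/-- The set `W \ (W₁ ∪ W₂)`. -/
def hatSet (W₁ W₂ : Subgroup G) : Set G := (↑(W₁ ⊔ W₂) : Set G) \ (↑W₁ ∪ ↑W₂)

theorem hatSet_mem {v : G} : v ∈ hatSet W₁ W₂ ↔ v ∈ W₁ ⊔ W₂ ∧ v ∉ W₁ ∧ v ∉ W₂ := by
  simp [hatSet]

theorem sup_comm_elements (hW : IsSelfNormalizingCyclic W₁ W₂) (u v : ↥(W₁ ⊔ W₂)) : u * v = v * u := by
  obtain ⟨-, -, -, -, hcyc, -⟩ := hW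
  haveI := hcyc
  exact IsMulCommutative.is_comm.comm u v

theorem cyclic_dade (hW : IsSelfNormalizingCyclic W₁ W₂) :
    DadeHypothesis (hatSet W₁ W₂) (W₁ ⊔ W₂) (fun _ => ⊥) where
  one_not_mem h := (hatSet_mem.mp h).2.1 W₁.one_mem
  subset := fun _ h => (hatSet_mem.mp h).1
  conj_mem x hx a ha := by
    have e := congrArg Subtype.val (sup_comm_elements hW ⟨x, hx⟩ ⟨a, (hatSet_mem.mp ha).1⟩)
    rw [show x * a * x⁻¹ = a by rw [show x * a = a * x from e, mul_inv_cancel_right]]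
    exact ha
  fusion a ha g hg := by
    by_cases hgW : g ∈ W₁ ⊔ W₂
    · exact ⟨g, hgW, rfl⟩
    · exact absurd (cyclicTI_isTI hW g hgW a ha hg ▸ W₁.one_mem) (hatSet_mem.mp ha).2.1
  le_centralizer _ _ := bot_le
  conj_mem_H a _ c _ u hu := by
    rw [Subgroup.mem_bot] at hu ⊢
    simp [hu]
  inf_eq_bot _ _ := bot_inf_eq _
  sup_eq a ha := by
    rw [bot_sup_eq, inf_eq_right]
    exact centralizer_eq_of_mem_cyclicTI hW (hatSet_mem.mp ha).1 (hatSet_mem.mp ha).2.1 (hatSet_mem.mp ha).2.2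
  coprime _ _ _ _ := by rw [Subgroup.card_bot]; exact Nat.coprime_one_left _

theorem card_hatSet (hW : IsSelfNormalizingCyclic W₁ W₂) :
    Nat.card ↥(W₁ ⊔ W₂) = Nat.card W₁ * Nat.card W₂ ∧
      Nat.card (hatSet W₁ W₂) = (Nat.card W₁ - 1) * (Nat.card W₂ - 1) := by
  classical
  obtain ⟨-, -, hdisj, hcomm, -, -⟩ := hW
  have hmul : ∀ w ∈ W₁ ⊔ W₂, ∃ a ∈ W₁, ∃ b ∈ W₂, a * b = w := fun w hw => by
    have hn : W₂ ≤ Subgroup.normalizer (W₁ : Set G) := fun b hb =>
      Subgroup.centralizer_le_normalizer _ (Subgroup.mem_centralizer_iff.mpr fun a ha => hcomm a ha b hb)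
    rw [← SetLike.mem_coe, Subgroup.coe_mul_of_right_le_normalizer_left W₁ W₂ hn, Set.mem_mul] at hw
    exact hw
  have hinj : ∀ a ∈ W₁, ∀ b ∈ W₂, ∀ a' ∈ W₁, ∀ b' ∈ W₂, a * b = a' * b' → a = a' ∧ b = b' := by
    intro a ha b hb a' ha' b' hb' e
    have h1 : a'⁻¹ * a ∈ W₁ ⊓ W₂ := ⟨W₁.mul_mem (W₁.inv_mem ha') ha, by
      rw [show a'⁻¹ * a = b' * b⁻¹ by rw [inv_mul_eq_iff_eq_mul, ← mul_assoc, ← e, mul_inv_cancel_right]]
      exact W₂.mul_mem hb' (W₂.inv_mem hb)⟩
    rw [hdisj, Subgroup.mem_bot, inv_mul_eq_one] at h1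
    subst h1
    exact ⟨rfl, mul_left_cancel e⟩
  constructor
  · rw [← Nat.card_prod]
    refine (Nat.card_congr (Equiv.ofBijective (fun x : W₁ × W₂ => (⟨(x.1 : G) * x.2,
      Subgroup.mul_mem_sup x.1.2 x.2.2⟩ : ↥(W₁ ⊔ W₂))) ⟨fun x y e => ?_, fun w => ?_⟩)).symm
    · obtain ⟨e1, e2⟩ := hinj _ x.1.2 _ x.2.2 _ y.1.2 _ y.2.2 (congrArg Subtype.val e)
      exact Prod.ext (Subtype.ext e1) (Subtype.ext e2)
    · obtain ⟨a, ha, b, hb, e⟩ := hmul w w.2
      exact ⟨(⟨a, ha⟩, ⟨b, hb⟩), Subtype.ext e⟩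
  · have hcard : ∀ X : Subgroup G, Nat.card {a : X // a ≠ 1} = Nat.card X - 1 := fun X => by
      rw [Nat.card_eq_fintype_card, Nat.card_eq_fintype_card, Fintype.card_subtype_compl, Fintype.card_subtype_eq]
    rw [← hcard W₁, ← hcard W₂, ← Nat.card_prod]
    refine (Nat.card_congr (Equiv.ofBijective (fun x : {a : W₁ // a ≠ 1} × {b : W₂ // b ≠ 1} =>
      (⟨((x.1.1 : W₁) : G) * (x.2.1 : W₂), hatSet_mem.mpr ⟨Subgroup.mul_mem_sup x.1.1.2 x.2.1.2, fun hc => ?_,
        fun hc => ?_⟩⟩ : hatSet W₁ W₂)) ⟨fun x y e => ?_, fun w => ?_⟩)).symm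
    · exact x.2.2 (Subtype.ext (hinj _ x.1.1.2 _ x.2.1.2 _ hc _ W₂.one_mem (mul_one _).symm).2)
    · exact x.1.2 (Subtype.ext (hinj _ x.1.1.2 _ x.2.1.2 _ W₁.one_mem _ hc (one_mul _).symm).1)
    · obtain ⟨e1, e2⟩ := hinj _ x.1.1.2 _ x.2.1.2 _ y.1.1.2 _ y.2.1.2 (congrArg Subtype.val e)
      exact Prod.ext (Subtype.ext (Subtype.ext e1)) (Subtype.ext (Subtype.ext e2))
    · obtain ⟨hw, h1, h2⟩ := hatSet_mem.mp w.2
      obtain ⟨a, ha, b, hb, e⟩ := hmul w hw
      exact ⟨(⟨⟨a, ha⟩, fun ea => h2 (e ▸ by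
          rw [show a = 1 from congrArg Subtype.val ea, one_mul]; exact hb)⟩,
        ⟨⟨b, hb⟩, fun eb => h1 (e ▸ by
          rw [show b = 1 from congrArg Subtype.val eb, mul_one]; exact ha)⟩), Subtype.ext e⟩

/-- The mass of a member of the family on `W \ (W₁ ∪ W₂)`. -/
theorem cyclic_mass (hW : IsSelfNormalizingCyclic W₁ W₂) [Fintype ↥(W₁ ⊔ W₂)]
    {χ : WLin W₁ W₂ → (G → ℂ)} (hχ : IsCyclicTIFamily W₁ W₂ χ) (ω : WLin W₁ W₂) :
    meanSq (dadeRho (hatSet W₁ W₂) (W₁ ⊔ W₂) (fun _ => ⊥) (χ ω)) =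
      (((Nat.card W₁ - 1) * (Nat.card W₂ - 1) : ℕ) : ℝ) / (Nat.card W₁ * Nat.card W₂ : ℕ) := by
  classical
  obtain ⟨hcW, hcV⟩ := card_hatSet hW
  rw [meanSq, div_eq_inv_mul, ← hcV, ← hcW, ← Nat.card_eq_fintype_card, ← card_mem_eq (cyclic_dade hW)]
  congr 1
  rw [Nat.card_eq_fintype_card, Fintype.card_subtype, Finset.card_filter, Nat.cast_sum]
  refine Finset.sum_congr rfl fun w _ => ?_
  by_cases hw : (w : G) ∈ hatSet W₁ W₂
  · rw [if_pos hw, dadeRho_eq_of_const hw (c := (ω w : ℂ)) fun x hx => by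
      rw [Subgroup.mem_bot] at hx
      rw [hx, mul_one, hχ.eq_on ω w (hatSet_mem.mp hw).2.1 (hatSet_mem.mp hw).2.2],
      Complex.normSq_eq_norm_sq, Complex.norm_eq_one_of_pow_eq_one (n := Nat.card ↥(W₁ ⊔ W₂))
        (by rw [← Units.val_pow_eq_pow_val, ← map_pow, pow_card_eq_one', map_one, Units.val_one]) Nat.card_pos.ne']
    simp
  · rw [if_neg hw, dadeRho_of_notMem hw, map_zero, Nat.cast_zero]

end Cyclic

section Side

variable {L : Type u} [Group L] [Fintype L] (K H : Subgroup L)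

theorem li_sum {G : Type u} [Group G] [Fintype G] {S : Set (L → ℂ)} {σ : (L → ℂ) → (G → ℂ)}
    (hσ : IsLinearIsometryOn (zspan S) σ) {ι : Type*} (s : Finset ι) (c : ι → ℤ) (f : ι → L → ℂ)
    (hf : ∀ i ∈ s, f i ∈ zspan S) :
    σ (∑ i ∈ s, c i • f i) = ∑ i ∈ s, c i • σ (f i) := by
  classical
  induction s using Finset.induction with
  | empty =>
    have h0 : (0 : L → ℂ) ∈ zspan S := Submodule.zero_mem _
    simpa using hσ.2.1 0 h0 0
  | insert i s hi ih =>
    have hmem : ∀ j ∈ insert i s, c j • f j ∈ zspan S := fun j hj => Submodule.smul_mem _ _ (hf j hj)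
    rw [Finset.sum_insert hi, Finset.sum_insert hi, hσ.1 _ (hmem i (Finset.mem_insert_self i s)) _
      (Submodule.sum_mem _ fun j hj => hmem j (Finset.mem_insert_of_mem hj)),
      hσ.2.1 _ (hf i (Finset.mem_insert_self i s)), ih fun j hj => hf j (Finset.mem_insert_of_mem hj)]

open Classical in
/-- The irreducible characters of `K` whose kernel misses `H`. -/
noncomputable def aboveIrr [Fintype K] : Finset (IrrCharacter K) :=
  Finset.univ.filter fun θ => ¬∀ x : K, (x : L) ∈ H → (θ : K → ℂ) x = (θ : K → ℂ) 1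

variable [Fintype K] [H.Normal] (hHK : H ≤ K)
include hHK

/-- The regular character of `K` less that of `K / H`. -/
theorem aboveIrr_sum [DecidablePred (· ∈ H)] [DecidableEq K] (k : K) :
    ∑ θ ∈ aboveIrr K H, (θ : K → ℂ) k * (θ : K → ℂ) 1 =
      (if k = 1 then (Nat.card K : ℂ) else 0) - if (k : L) ∈ H then ((H.subgroupOf K).index : ℂ) else 0 := by
  classical
  set N := H.subgroupOf K with hN
  haveI := Fintype.ofFinite N
  have hres : ∀ θ : IrrCharacter K, classInner (indFun N (fun _ => (1 : ℂ))) (θ : K → ℂ) =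
      if ∀ x : K, (x : L) ∈ H → (θ : K → ℂ) x = (θ : K → ℂ) 1 then (θ : K → ℂ) 1 else 0 := by
    intro θ
    obtain ⟨d, hd⟩ := char_one_eq_natCast (isCharacter_of_irr θ.2)
    rw [frobenius_reciprocity N _ (isClassFunction_irr θ.2)]
    by_cases hker : ∀ x : K, (x : L) ∈ H → (θ : K → ℂ) x = (θ : K → ℂ) 1
    · rw [if_pos hker, show (fun x : N => (θ : K → ℂ) x) = (θ : K → ℂ) 1 • (fun _ : N => (1 : ℂ)) from
        funext fun x => by simp [hker x (Subgroup.mem_subgroupOf.mp x.2)], classInner_smul_right,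
        classInner_irr_self isIrrCharacter_one, mul_one, hd, Complex.conj_natCast]
    · rw [if_neg hker]
      by_contra hne
      refine hker fun x hx => ?_
      have h1 := clifford_invariant N θ.2 isIrrCharacter_one (fun e => hne (by
        rw [← classInner_comm, e, map_zero])) fun g => rfl
      exact (congrFun h1 ⟨x, Subgroup.mem_subgroupOf.mpr hx⟩).trans (congrFun h1 1).symm
  have hexp := congrFun (eq_sum_irr (indFun_isClassFunction N (fun _ => (1 : ℂ)))) k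
  rw [indTriv_apply, Finset.sum_apply] at hexp
  rw [← sum_irr_apply_mul_degree k, eq_sub_iff_add_eq,
    ← Finset.sum_filter_add_sum_filter_not Finset.univ
      (fun θ : IrrCharacter K => ¬∀ x : K, (x : L) ∈ H → (θ : K → ℂ) x = (θ : K → ℂ) 1)]
  congr 1
  · exact Finset.sum_congr (by ext; simp [aboveIrr]) fun _ _ => rfl
  rw [show (if (k : L) ∈ H then (N.index : ℂ) else 0) = if k ∈ N then (N.index : ℂ) else 0 from
    if_congr Subgroup.mem_subgroupOf.symm rfl rfl, hexp, Finset.sum_filter]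
  refine Finset.sum_congr rfl fun θ _ => ?_
  rw [Pi.smul_apply, smul_eq_mul, hres θ]
  by_cases hker : ∀ x : K, (x : L) ∈ H → (θ : K → ℂ) x = (θ : K → ℂ) 1
  · rw [if_pos hker, if_pos (not_not_intro hker), mul_comm]
  · rw [if_neg hker, if_neg (not_not_intro hker), zero_mul]

end Side

section PrimeDade

variable {G : Type u} [Group G] [Fintype G] {L : Subgroup G} [Fintype L] {K H : Subgroup L} {W₁ W₂ : Subgroup G}
  {A₀ : Set G} {R : G → Subgroup G} {χ : WLin W₁ W₂ → (G → ℂ)}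

/-- The images of the non-identity elements of `H`. -/
def sharpSet (H : Subgroup L) : Set G := {x | ∃ y ∈ H, y ≠ 1 ∧ (y : G) = x}

theorem mem_sharpSet {H : Subgroup L} {x : L} : (x : G) ∈ sharpSet H ↔ x ∈ H ∧ x ≠ 1 :=
  ⟨fun ⟨y, hy, hy1, e⟩ => by rw [← Subtype.ext e]; exact ⟨hy, hy1⟩, fun h => ⟨x, h.1, h.2, rfl⟩⟩

variable (h : IsPrimeDade L K H W₁ W₂ A₀ R)
include h

theorem sharpSet_subset : sharpSet H ⊆ A₀ := by
  rintro _ ⟨y, hy, hy1, rfl⟩
  exact h.centralA y (h.H_le hy) hy1 y hy hy1 rfl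

theorem sharpSet_inv : ∀ x ∈ L, ∀ a ∈ sharpSet H, x * a * x⁻¹ ∈ sharpSet H := by
  rintro x hx _ ⟨y, hy, hy1, rfl⟩
  exact ⟨⟨x, hx⟩ * y * ⟨x, hx⟩⁻¹, h.normalH.conj_mem y hy _, by simpa using hy1, rfl⟩

/-- **(L6)**, one side: a column image with coefficient `±1` at `η` gives mass `(1 - u / (|H| - 1)) / q`. -/
theorem side_mass [Fintype (W₁.subgroupOf L →* ℂˣ)] {τ₁ : (L → ℂ) → (G → ℂ)}
    (hτ₁ : IsLinearIsometryOn (zspan (indSet K H)) τ₁)
    (hagree : ∀ α ∈ zspanOn (indSet K H) {1}ᶜ, τ₁ α = dadeIsometry A₀ L R α)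
    {η : G → ℂ} (hη : IsClassFunction G η) {c : W₂.subgroupOf L →* ℂˣ} (hc : c ≠ 1)
    (hc1 : classInner (τ₁ (h.ti.muSum c)) η = 1 ∨ classInner (τ₁ (h.ti.muSum c)) η = -1)
    (hc0 : ∀ d, d ≠ 1 → d ≠ c → classInner (τ₁ (h.ti.muSum d)) η = 0)
    (hperp : ∀ φ ∈ indSet K H, IsIrrCharacter L φ → classInner (τ₁ φ) η = 0)
    {u : ℕ} (hu : u * Nat.card H = Nat.card K) (hdeg : h.ti.colChar c 1 = (u : ℂ))
    (hvan : ∀ x : L, x ∉ H → h.ti.muSum c x = 0) :
    ((Nat.card H : ℝ) - 1 - u) / (((Nat.card H : ℝ) - 1) * Nat.card W₁) ≤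
      meanSq (dadeRho (sharpSet H) L R η) := by
  classical
  haveI := h.ti.normal
  haveI := h.normalH
  haveI : Fintype K := Fintype.ofFinite K
  set q := Nat.card W₁ with hq
  obtain ⟨N, hN⟩ : ∃ N, Nat.card H = N + 1 := ⟨Nat.card H - 1, by have := Nat.card_pos (α := H); omega⟩
  set g : L → ℂ := indFun K (fun k => ∑ θ ∈ aboveIrr K H, (θ : K → ℂ) k * (θ : K → ℂ) 1) with hg
  have hdeg' : ∀ θ : IrrCharacter K, ∃ d : ℕ, (θ : K → ℂ) 1 = d := fun θ => char_one_eq_natCast (isCharacter_of_irr θ.2)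
  choose d hd using hdeg'
  have hgsum : g = ∑ θ ∈ aboveIrr K H, (d θ : ℤ) • indFun K (θ : K → ℂ) := by
    rw [hg, show (fun k => ∑ θ ∈ aboveIrr K H, (θ : K → ℂ) k * (θ : K → ℂ) 1) =
      ∑ θ ∈ aboveIrr K H, (d θ : ℂ) • (θ : K → ℂ) from funext fun k => by
        rw [Finset.sum_apply]
        exact Finset.sum_congr rfl fun θ _ => by rw [Pi.smul_apply, smul_eq_mul, hd, mul_comm], indFun_sum]
    exact Finset.sum_congr rfl fun θ _ => by rw [indFun_smul, ← Int.cast_smul_eq_zsmul ℂ, Int.cast_natCast]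
  have hmemS : ∀ θ ∈ aboveIrr K H, indFun K (θ : K → ℂ) ∈ indSet K H := fun θ hθ =>
    ⟨θ, θ.2, (Finset.mem_filter.mp hθ).2, rfl⟩
  -- the column
  set θc : IrrCharacter K := ⟨h.ti.colChar c, h.ti.isIrr_colChar c⟩ with hθc
  have hθcmem : θc ∈ aboveIrr K H := Finset.mem_filter.mpr ⟨Finset.mem_univ _, h.colChar_nontrivial hc⟩
  have hμS : h.ti.muSum c ∈ indSet K H := h.muSum_mem_indSet hc
  have hcase : ∀ θ ∈ aboveIrr K H, θ ≠ θc → (∃ b, b ≠ 1 ∧ b ≠ c ∧ indFun K (θ : K → ℂ) = h.ti.muSum b) ∨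
      IsIrrCharacter L (indFun K (θ : K → ℂ)) := by
    intro θ hθ hne
    by_cases hb : ∃ b, (θ : K → ℂ) = h.ti.colChar b
    · obtain ⟨b, hb⟩ := hb
      refine Or.inl ⟨b, fun e => (Finset.mem_filter.mp hθ).2 fun x _ => ?_,
        fun e => hne (Subtype.ext (hb.trans (by rw [e]))), by rw [hb, h.ti.indFun_colChar]⟩
      rw [hb, e, h.ti.colChar_one]
    · push Not at hb
      exact Or.inr (h.ti.isIrr_indFun_of_ne θ.2 hb)
  have hu' : d θc = u := by exact_mod_cast (hd θc).symm.trans hdeg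
  -- the pairing with `η`
  obtain ⟨ε, hε, hcε⟩ : ∃ ε : ℝ, ε * ε = 1 ∧ classInner (τ₁ (h.ti.muSum c)) η = (ε : ℂ) := by
    rcases hc1 with e | e
    · exact ⟨1, by norm_num, by simpa using e⟩
    · exact ⟨-1, by norm_num, by simpa using e⟩
  set Φ : L → ℂ := (N : ℤ) • h.ti.muSum c - g with hΦ
  have hmem : Φ ∈ zspan (indSet K H) := by
    rw [hΦ, hgsum]
    exact Submodule.sub_mem _ (Submodule.smul_mem _ _ (Submodule.subset_span hμS))
      (Submodule.sum_mem _ fun θ hθ => Submodule.smul_mem _ _ (Submodule.subset_span (hmemS θ hθ)))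
  have hpair : classInner (τ₁ Φ) η = (((N : ℝ) - u) * ε : ℝ) := by
    have hgm : g ∈ zspan (indSet K H) := hgsum ▸
      Submodule.sum_mem _ fun θ hθ => Submodule.smul_mem _ _ (Submodule.subset_span (hmemS θ hθ))
    rw [hΦ, show (N : ℤ) • h.ti.muSum c - g = (N : ℤ) • h.ti.muSum c - (1 : ℤ) • g by rw [one_smul],
      li_comb hτ₁ (Submodule.subset_span hμS) hgm, hgsum,
      li_sum hτ₁ _ _ _ fun θ hθ => Submodule.subset_span (hmemS θ hθ), classInner_sub_left, classInner_smul_left,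
      classInner_smul_left, classInner_sum_left, Finset.sum_eq_single θc (fun θ hθ hne => ?_)
        (fun e => absurd hθcmem e)]
    · rw [← Int.cast_smul_eq_zsmul ℂ, classInner_smul_left, hu', hθc, h.ti.indFun_colChar, hcε]
      push_cast
      ring
    · rw [← Int.cast_smul_eq_zsmul ℂ, classInner_smul_left]
      rcases hcase θ hθ hne with ⟨b, hb, hbc, e⟩ | hi
      · rw [e, hc0 b hb hbc, mul_zero]
      · rw [hperp _ (hmemS θ hθ) hi, mul_zero]
  -- values
  have hNK : (H.subgroupOf K).index = u := by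
    have h1 := Subgroup.card_mul_index (H.subgroupOf K)
    rw [Nat.card_congr (Subgroup.subgroupOfEquivOfLe h.H_le).toEquiv, ← hu, mul_comm u] at h1
    exact Nat.eq_of_mul_eq_mul_left Nat.card_pos h1
  have hval : ∀ x : L, x ∉ H → g x = 0 := fun x hx => by
    by_cases hxK : x ∈ K
    · rw [hg, show x = ((⟨x, hxK⟩ : K) : L) from rfl, indFun_normal_apply]
      refine mul_eq_zero_of_right _ (Finset.sum_eq_zero fun y _ => ?_)
      have hy : y * x * y⁻¹ ∉ H := fun e => hx (by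
        have := h.normalH.conj_mem _ e y⁻¹
        simpa [mul_assoc] using this)
      rw [aboveIrr_sum K H h.H_le, if_neg hy, if_neg (fun e => hy (by
        rw [show y * x * y⁻¹ = 1 from congrArg Subtype.val e]; exact H.one_mem)), sub_zero]
    · exact indFun_normal_apply_not_mem K _ hxK
  have hsum1 : ∑ θ ∈ aboveIrr K H, (θ : K → ℂ) 1 * (θ : K → ℂ) 1 = (u : ℂ) * N := by
    rw [aboveIrr_sum K H h.H_le, if_pos rfl, if_pos (show ((1 : K) : L) ∈ H from H.one_mem), hNK, ← hu, hN]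
    push_cast
    ring
  have hμ1 : h.ti.muSum c 1 = (q : ℂ) * u := by
    rw [← h.ti.indFun_colChar, indFun_apply_one, h.ti.index_eq, h.card₁, hdeg]
  have hg1 : g 1 = (q : ℂ) * (u * N) := by
    rw [hg, indFun_apply_one, hsum1, h.ti.index_eq, h.card₁]
  have hΦ1 : Φ 1 = 0 := by
    rw [hΦ, Pi.sub_apply, Pi.smul_apply, zsmul_eq_mul, hμ1, hg1]
    push_cast
    ring
  have hΦA : ∀ x : L, (x : G) ∉ sharpSet H → Φ x = 0 := fun x hx => by
    rw [mem_sharpSet, not_and_or, not_ne_iff] at hx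
    rcases hx with hx | hx
    · rw [hΦ, Pi.sub_apply, Pi.smul_apply, hvan x hx, hval x hx, smul_zero, sub_zero]
    · rw [hx, hΦ1]
  have hcl : IsClassFunction L Φ := (isGenChar_iff_coeff_int.mp
    (zspan_genChar (fun φ hφ => isGenChar_of_char (h.isCharacter_of_mem hφ)) hmem)).1
  -- the norm
  have hnorm : classInner Φ Φ = (((q : ℝ) * N * ((N : ℝ) - u)) : ℝ) := by
    have hself : classInner (h.ti.muSum c) (h.ti.muSum c) = (q : ℂ) := by
      rw [h.ti.classInner_muSum, if_pos rfl, h.card₁]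
    have hμg : classInner (h.ti.muSum c) g = (q : ℂ) * u := by
      rw [hgsum, classInner_sum_right, Finset.sum_eq_single θc (fun θ hθ hne => ?_) (fun e => absurd hθcmem e)]
      · rw [← Int.cast_smul_eq_zsmul ℂ, classInner_smul_right, hθc, h.ti.indFun_colChar, hself, hu',
          Int.cast_natCast, Complex.conj_natCast, mul_comm]
      · rw [← Int.cast_smul_eq_zsmul ℂ, classInner_smul_right, h.indSet_orthogonal hμS (hmemS θ hθ) ?_, mul_zero]
        intro e
        rcases hcase θ hθ hne with ⟨b, hb, hbc, e'⟩ | hi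
        · exact hbc (h.muSum_inj (e'.symm.trans e.symm))
        · have := classInner_irr_self hi
          rw [← e, hself, Nat.cast_eq_one] at this
          have := h.ti.three_le₁
          rw [h.card₁] at this
          omega
    have hgg : classInner g g = (q : ℂ) * (u * N) := by
      have hρ : IsClassFunction K (fun k => ∑ θ ∈ aboveIrr K H, (θ : K → ℂ) k * (θ : K → ℂ) 1) := fun k x =>
        Finset.sum_congr rfl fun θ _ => by rw [isClassFunction_irr θ.2 k x]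
      have hres : (fun k : K => g k) = (q : ℂ) • fun k => ∑ θ ∈ aboveIrr K H, (θ : K → ℂ) k * (θ : K → ℂ) 1 := by
        funext k
        rw [hg, indFun_normal_apply, Pi.smul_apply, smul_eq_mul]
        have hconst : ∀ y : L, (∑ θ ∈ aboveIrr K H, (θ : K → ℂ) ⟨y * k * y⁻¹, h.ti.normal.conj_mem k k.2 y⟩ *
            (θ : K → ℂ) 1) = ∑ θ ∈ aboveIrr K H, (θ : K → ℂ) k * (θ : K → ℂ) 1 := fun y => by
          rw [aboveIrr_sum K H h.H_le, aboveIrr_sum K H h.H_le]
          refine congrArg₂ _ (if_congr ⟨fun e => ?_, fun e => ?_⟩ rfl rfl)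
            (if_congr ⟨fun e => ?_, fun e => h.normalH.conj_mem _ e y⟩ rfl rfl)
          · exact Subtype.ext (conj_eq_one_iff.mp (congrArg Subtype.val e))
          · subst e; exact Subtype.ext (by simp)
          · simpa [mul_assoc] using h.normalH.conj_mem _ e y⁻¹
        rw [Finset.sum_congr rfl fun y _ => hconst y, Finset.sum_const, Finset.card_univ, nsmul_eq_mul, ← mul_assoc,
          ← Nat.card_eq_fintype_card, ← K.card_mul_index, Nat.cast_mul, ← mul_assoc,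
          inv_mul_cancel₀ (Nat.cast_ne_zero.mpr Nat.card_pos.ne'), one_mul, h.ti.index_eq, h.card₁]
      conv_lhs => rw [hg]
      rw [frobenius_reciprocity K _ (indFun_isClassFunction K _), ← hg, hres, classInner_smul_right,
        Complex.conj_natCast]
      congr 1
      rw [show (fun k => ∑ θ ∈ aboveIrr K H, (θ : K → ℂ) k * (θ : K → ℂ) 1) =
        ∑ θ ∈ aboveIrr K H, (θ : K → ℂ) 1 • (θ : K → ℂ) from funext fun k => by
          rw [Finset.sum_apply]
          exact Finset.sum_congr rfl fun θ _ => by rw [Pi.smul_apply, smul_eq_mul, mul_comm],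
        classInner_sum_left, ← hsum1]
      refine Finset.sum_congr rfl fun θ hθ => ?_
      rw [classInner_smul_left, classInner_sum_right, Finset.sum_eq_single θ (fun θ' _ hne => by
          rw [classInner_smul_right, classInner_irr_ne θ.2 θ'.2 fun e => hne (Subtype.ext e).symm, mul_zero])
        (fun e => absurd hθ e), classInner_smul_right, classInner_irr_self θ.2, hd, Complex.conj_natCast, mul_one]
    have hgμ : classInner g (h.ti.muSum c) = (q : ℂ) * u := by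
      rw [← classInner_comm, hμg, map_mul, Complex.conj_natCast, Complex.conj_natCast]
    rw [hΦ, ← Int.cast_smul_eq_zsmul ℂ, classInner_sub_left, classInner_sub_right, classInner_sub_right,
      classInner_smul_left, classInner_smul_left, classInner_smul_right, classInner_smul_right,
      hgμ, hgg, hμg, hself]
    simp only [map_mul, Int.cast_natCast, Complex.conj_natCast]
    push_cast
    ring
  rw [classInner_self_eq_meanSq, Complex.ofReal_inj] at hnorm
  have hA := sharpSet_subset h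
  have hinv := sharpSet_inv h
  have htest := test_le_mass (dadeHypothesis_subset h.dade hA hinv) hcl hΦA hη
  rw [dade_subset_eq h.dade hA hinv hcl hΦA, ← hagree _ ⟨hmem, fun x hx => by
    rw [Set.notMem_compl_iff, Set.mem_singleton_iff] at hx
    rw [hx, hΦ1]⟩, hpair, hnorm, Complex.normSq_ofReal] at htest
  have hρ0 := meanSq_nonneg (dadeRho (sharpSet H) L R η)
  rw [hN, Nat.cast_succ, add_sub_cancel_right]
  have hq0 : 0 ≤ (q : ℝ) := Nat.cast_nonneg _
  rcases le_or_gt ((N : ℝ) - u) 0 with hle | hpos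
  · exact le_trans (div_nonpos_of_nonpos_of_nonneg hle (mul_nonneg (Nat.cast_nonneg _) hq0)) hρ0
  have hNpos : 0 < (N : ℝ) := by
    have : (0 : ℝ) ≤ u := Nat.cast_nonneg _
    linarith
  rw [div_le_iff₀ (mul_pos hNpos (by
    have := Nat.card_pos (α := W₁)
    rw [hq]; exact_mod_cast this))]
  refine le_of_mul_le_mul_left ?_ hpos
  calc ((N : ℝ) - u) * ((N : ℝ) - u) = ((N : ℝ) - u) * ε * (((N : ℝ) - u) * ε) := by
        linear_combination (-((N : ℝ) - u) * ((N : ℝ) - u)) * hε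
    _ ≤ _ := htest
    _ = _ := by ring

end PrimeDade

section Inputs

variable {G : Type u} [Group G] [Fintype G] {L : Subgroup G} [Fintype L] {K H : Subgroup L} {W₁ W₂ : Subgroup G}
  {A₀ : Set G} {R : G → Subgroup G} {χ : WLin W₁ W₂ → (G → ℂ)}

variable (h : IsPrimeDade L K H W₁ W₂ A₀ R)
include h

/-- The alternatives of (5.8) as one signed column. -/
theorem column_of_alt [Fintype (W₁.subgroupOf L →* ℂˣ)] {f : G → ℂ} {c : W₂.subgroupOf L →* ℂˣ} (hc : c ≠ 1)
    (hor : f = h.sgn c • ∑ a : W₁.subgroupOf L →* ℂˣ, χ (h.idx a c) ∨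
      f = -(h.sgn c • ∑ a : W₁.subgroupOf L →* ℂˣ, χ (h.idx a c⁻¹))) :
    ∃ d, d ≠ 1 ∧ ∃ ε : ℂ, (ε = 1 ∨ ε = -1) ∧ f = ε • ∑ a : W₁.subgroupOf L →* ℂˣ, χ (h.idx a d) := by
  have hs : h.sgn c = 1 ∨ h.sgn c = -1 := h.ti.delta_eq_or _
  rcases hor with e | e
  · exact ⟨c, hc, _, hs, e⟩
  · refine ⟨c⁻¹, h.inv_ne_one₂ hc, -h.sgn c, ?_, by rw [e, neg_smul]⟩
    rcases hs with e' | e' <;> rw [e']
    · exact Or.inr rfl
    · exact Or.inl (neg_neg _)

/-- Signed columns as images of all the `μ_c`: each `η_ab` has coefficient `±1` in exactly one image. -/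
theorem exists_column [Fintype (W₁.subgroupOf L →* ℂˣ)] (hχ : IsCyclicTIFamily W₁ W₂ χ)
    {τ₁ : (L → ℂ) → (G → ℂ)} (hτ₁ : IsLinearIsometryOn (zspan (indSet K H)) τ₁)
    (himg : ∀ c, c ≠ 1 → ∃ d, d ≠ 1 ∧ ∃ ε : ℂ, (ε = 1 ∨ ε = -1) ∧
      τ₁ (h.ti.muSum c) = ε • ∑ a : W₁.subgroupOf L →* ℂˣ, χ (h.idx a d))
    (a : W₁.subgroupOf L →* ℂˣ) {b : W₂.subgroupOf L →* ℂˣ} (hb : b ≠ 1) :
    ∃ c, c ≠ 1 ∧ (classInner (τ₁ (h.ti.muSum c)) (χ (h.idx a b)) = 1 ∨
        classInner (τ₁ (h.ti.muSum c)) (χ (h.idx a b)) = -1) ∧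
      ∀ d, d ≠ 1 → d ≠ c → classInner (τ₁ (h.ti.muSum d)) (χ (h.idx a b)) = 0 := by
  classical
  choose f hf ε hε himg' using himg
  have hval : ∀ c (hc : c ≠ 1) d, classInner (τ₁ (h.ti.muSum c)) (χ (h.idx a d)) =
      if f c hc = d then ε c hc else 0 := fun c hc d => by
    rw [himg' c hc, classInner_smul_left, classInner_sum_left]
    simp only [hχ.orthonormal, h.idx_eq_iff]
    by_cases hd : f c hc = d
    · simp [hd]
    · simp [hd]
  set g : {c : W₂.subgroupOf L →* ℂˣ // c ≠ 1} → {c : W₂.subgroupOf L →* ℂˣ // c ≠ 1} :=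
    fun c => ⟨f c.1 c.2, hf c.1 c.2⟩ with hg
  have hne : ∀ c hc, ε c hc ≠ 0 := fun c hc => by rcases hε c hc with e | e <;> rw [e] <;> norm_num
  have hinj : Function.Injective g := fun c c' e => by
    have e' : f c.1 c.2 = f c'.1 c'.2 := congrArg Subtype.val e
    by_contra hcc
    have horth := hτ₁.2.2.1 _ (Submodule.subset_span (h.muSum_mem_indSet c.2)) _
      (Submodule.subset_span (h.muSum_mem_indSet c'.2))
    rw [h.ti.classInner_muSum, if_neg fun e'' => hcc (Subtype.ext e''), himg' c'.1 c'.2, classInner_smul_right,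
      classInner_sum_right, Finset.sum_congr rfl fun x _ => show classInner (τ₁ (h.ti.muSum c.1))
        (χ (h.idx x (f c'.1 c'.2))) = ε c.1 c.2 from ?_, Finset.sum_const, Finset.card_univ, nsmul_eq_mul] at horth
    · rcases mul_eq_zero.mp horth with e1 | e1
      · exact hne _ c'.2 (by simpa using e1)
      · exact (mul_ne_zero (Nat.cast_ne_zero.mpr Fintype.card_ne_zero) (hne _ c.2)) e1
    · rw [himg' c.1 c.2, classInner_smul_left, classInner_sum_left]
      simp [hχ.orthonormal, h.idx_eq_iff, e']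
  obtain ⟨⟨c, hc⟩, hgc⟩ := (Finite.injective_iff_surjective.mp hinj) ⟨b, hb⟩
  have hfc : f c hc = b := congrArg Subtype.val hgc
  refine ⟨c, hc, ?_, fun d hd hdc => ?_⟩
  · rw [hval c hc, if_pos hfc]; exact hε c hc
  · rw [hval d hd, if_neg fun e => hdc (congrArg Subtype.val
      (hinj (show g ⟨d, hd⟩ = g ⟨c, hc⟩ from Subtype.ext (e.trans hfc.symm))))]

/-- In a coherence system the irreducible members have images orthogonal to the family. -/
theorem image_perp {S : Set (L → ℂ)} {RS : (L → ℂ) → Finset (G → ℂ)}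
    (hsys : IsCoherenceSystem S (dadeIsometry A₀ L R) RS) {τ₁ : (L → ℂ) → (G → ℂ)}
    (hτ₁ : IsLinearIsometryOn (zspan S) τ₁)
    (hagree : ∀ α ∈ zspanOn S {1}ᶜ, τ₁ α = dadeIsometry A₀ L R α)
    (horth : ∀ φ ∈ S, IsIrrCharacter L φ → ∀ α ∈ RS φ, ∀ ω, classInner α (χ ω) = 0) {φ : L → ℂ} (hφ : φ ∈ S)
    (hi : IsIrrCharacter L φ) (ω : WLin W₁ W₂) : classInner (τ₁ φ) (χ ω) = 0 := by
  classical
  obtain ⟨B, hB, hsum, -, -⟩ := exists_image_subset hsys (le_refl S) hτ₁ hagree hφ (hsys.conj_mem _ hφ)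
  rw [hsum, classInner_sum_left]
  exact Finset.sum_eq_zero fun α hα => horth φ hφ hi α (hB hα) ω

/-- With `H` abelian, a column of degree `[K : H]` vanishes off `H`. -/
theorem muSum_vanish [Fintype (W₁.subgroupOf L →* ℂˣ)] (hab : ∀ x ∈ H, ∀ y ∈ H, x * y = y * x)
    {c : W₂.subgroupOf L →* ℂˣ} (hdeg : h.ti.colChar c 1 = ((H.subgroupOf K).index : ℂ))
    {x : L} (hx : x ∉ H) : h.ti.muSum c x = 0 := by
  classical
  haveI := h.ti.normal
  haveI := h.normalH
  haveI : Fintype K := Fintype.ofFinite K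
  haveI : Fintype (H.subgroupOf K) := Fintype.ofFinite _
  set θ := h.ti.colChar c with hθ
  have hθi : IsIrrCharacter K θ := h.ti.isIrr_colChar c
  set N := H.subgroupOf K with hN
  obtain ⟨α, hα, hne⟩ := exists_constituent (isCharacter_restrict (isCharacter_of_irr hθi) N)
    (fun e => irr_ne_zero hθi (congrFun e 1))
  have habN : ∀ a b : N, a * b = b * a := fun a b => Subtype.ext (Subtype.ext
    (hab _ (Subgroup.mem_subgroupOf.mp a.2) _ (Subgroup.mem_subgroupOf.mp b.2)))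
  have hα1 : α 1 = 1 := degree_one_of_commutative habN hα
  have hind : IsCharacter K (indFun N α) := isCharacter_indFun N (isCharacter_of_irr hα)
  have hne' : classInner (indFun N α) θ ≠ 0 := by
    rw [frobenius_reciprocity N α (isClassFunction_irr hθi), ← classInner_comm]
    simpa using hne
  have heq : indFun N α = θ := by
    have hsub := isCharacter_sub_irr hind hθi hne'
    refine sub_eq_zero.mp (eq_zero_of_degree_zero hsub ?_)
    rw [Pi.sub_apply, indFun_apply_one, hα1, mul_one, hdeg, sub_self]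
  rw [← h.ti.indFun_colChar]
  by_cases hxK : x ∈ K
  · rw [show x = ((⟨x, hxK⟩ : K) : L) from rfl, indFun_normal_apply]
    refine mul_eq_zero_of_right _ (Finset.sum_eq_zero fun y _ => ?_)
    rw [show h.ti.colChar c = indFun N α from heq.symm]
    refine indFun_normal_apply_not_mem N α fun e => hx ?_
    have := h.normalH.conj_mem _ (Subgroup.mem_subgroupOf.mp e) y⁻¹
    simpa [mul_assoc] using this
  · exact indFun_normal_apply_not_mem K _ hxK

end Inputs

section Swap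

variable {G : Type u} [Group G] [Fintype G] {W₁ W₂ : Subgroup G}

/-- A family for `(W₁, W₂)` is one for `(W₂, W₁)`. -/
theorem cycFamily_swap {χ : WLin W₁ W₂ → (G → ℂ)} (hχ : IsCyclicTIFamily W₁ W₂ χ) :
    IsCyclicTIFamily W₂ W₁ fun ω => χ (ω.comp (MulEquiv.subgroupCongr (sup_comm W₁ W₂)).toMonoidHom) := by
  classical
  set e := (MulEquiv.subgroupCongr (sup_comm W₁ W₂) : ↥(W₁ ⊔ W₂) ≃* ↥(W₂ ⊔ W₁)) with he
  have hinj : ∀ ω ω' : WLin W₂ W₁, ω.comp e.toMonoidHom = ω'.comp e.toMonoidHom ↔ ω = ω' := fun ω ω' =>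
    MonoidHom.cancel_right e.surjective
  refine ⟨fun ω => hχ.irr_or_neg _, fun ω ω' => ?_, ?_, fun ω w h2 h1 => ?_, fun φ ψ hφ hψ h1 h2 => ?_⟩
  · rw [hχ.orthonormal]
    by_cases hω : ω = ω'
    · rw [if_pos ((hinj ω ω').mpr hω), if_pos hω]
    · rw [if_neg (mt (hinj ω ω').mp hω), if_neg hω]
  · rw [MonoidHom.one_comp]; exact hχ.map_one
  · exact hχ.eq_on _ (e.symm w) h1 h2
  · have key := hχ.induced_eq (ψ.comp e.toMonoidHom) (φ.comp e.toMonoidHom)
      (fun hc => hψ ((hinj ψ 1).mp (by rw [hc, MonoidHom.one_comp])))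
      (fun hc => hφ ((hinj φ 1).mp (by rw [hc, MonoidHom.one_comp])))
      (fun w hw => h2 (e w) hw) fun w hw => h1 (e w) hw
    funext g
    have key' := congrFun key g
    simp only [mul_comm φ ψ, MonoidHom.mul_comp]
    rw [sub_right_comm (1 : ℂ), ← key']
    simp only [indFun]
    refine congrArg₂ _ ?_ (Finset.sum_congr rfl fun x _ => ?_)
    · rw [Nat.card_congr e.toEquiv.symm]
    · by_cases hx : x⁻¹ * g * x ∈ W₁ ⊔ W₂
      · have hx' : x⁻¹ * g * x ∈ W₂ ⊔ W₁ := sup_comm W₁ W₂ ▸ hx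
        rw [extendByZero_of_mem _ _ hx, extendByZero_of_mem _ _ hx']
        simp only [MonoidHom.comp_apply]
        rw [show e.toMonoidHom ⟨x⁻¹ * g * x, hx⟩ = ⟨x⁻¹ * g * x, hx'⟩ from rfl]
        ring
      · rw [extendByZero_of_not_mem _ _ hx, extendByZero_of_not_mem _ _ fun h' => hx (sup_comm W₁ W₂ ▸ h')]

end Swap

section Three

variable {G : Type u} [Group G] [Fintype G] {W₁ W₂ : Subgroup G}

theorem meanSq_congr_inst {X : Type u} (i₁ i₂ : Fintype X) (f : X → ℂ) :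
    @meanSq X i₁ f = @meanSq X i₂ f := by rw [Subsingleton.elim i₁ i₂]

/-- The three masses of a member of the family total less than `1`. -/
theorem three_masses (hW : IsSelfNormalizingCyclic W₁ W₂) {χ : WLin W₁ W₂ → (G → ℂ)}
    (hχ : IsCyclicTIFamily W₁ W₂ χ) (ω : WLin W₁ W₂) {A B : Set G} {S T : Subgroup G} [Fintype S] [Fintype T]
    {R R' : G → Subgroup G} (hS : DadeHypothesis A S R) (hT : DadeHypothesis B T R')
    (hAB : Disjoint (dadeSupp A R) (dadeSupp B R'))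
    (hAW : Disjoint (dadeSupp A R) (dadeSupp (hatSet W₁ W₂) fun _ => ⊥))
    (hBW : Disjoint (dadeSupp B R') (dadeSupp (hatSet W₁ W₂) fun _ => ⊥)) :
    meanSq (dadeRho A S R (χ ω)) + meanSq (dadeRho B T R' (χ ω)) +
      (((Nat.card W₁ - 1) * (Nat.card W₂ - 1) : ℕ) : ℝ) / (Nat.card W₁ * Nat.card W₂ : ℕ) < 1 := by
  classical
  set As : Fin 3 → Set G := ![A, B, hatSet W₁ W₂] with hAs
  set Ls : Fin 3 → Subgroup G := ![S, T, W₁ ⊔ W₂] with hLs
  set Rs : Fin 3 → G → Subgroup G := ![R, R', fun _ => ⊥] with hRs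
  haveI : ∀ k, Fintype (Ls k) := fun k => Fintype.ofFinite _
  haveI : Fintype ↥(W₁ ⊔ W₂) := Fintype.ofFinite _
  have hD : ∀ k, DadeHypothesis (As k) (Ls k) (Rs k) := fun k => by
    fin_cases k
    exacts [hS, hT, cyclic_dade hW]
  have hdisj : Pairwise fun i j => Disjoint (dadeSupp (As i) (Rs i)) (dadeSupp (As j) (Rs j)) := fun i j hij => by
    fin_cases i <;> fin_cases j <;>
      first | exact absurd rfl hij | exact hAB | exact hAB.symm | exact hAW | exact hAW.symm | exact hBW | exact hBW.symm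
  have hgen : IsGeneralizedCharacter G (χ ω) := cycFamily_signed hχ ω
  have h1 : classInner (χ ω) (χ ω) = 1 := by rw [hχ.orthonormal, if_pos rfl]
  have hne : χ ω 1 ≠ 0 := by
    rcases hχ.irr_or_neg ω with hi | hi <;> obtain ⟨d, hd, hd1⟩ := irr_degree_pos hi
    · rw [hd1]; exact Nat.cast_ne_zero.mpr hd.ne'
    · intro e
      rw [Pi.neg_apply, e, neg_zero] at hd1
      exact hd.ne' (by exact_mod_cast hd1.symm)
  have key := sum_mass_lt As Ls Rs hD hdisj (isGenChar_iff_coeff_int.mp hgen).1 h1 hne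
  rw [Fin.sum_univ_three] at key
  rw [← cyclic_mass hW hχ ω]
  refine lt_of_eq_of_lt (congrArg₂ _ (congrArg₂ _ ?_ ?_) ?_) key <;> exact meanSq_congr_inst _ _ _

end Three

section Full

/-- **(L6)**, conclusion from the three masses. -/
theorem mass_bound {p q u v : ℕ} {a b w : ℝ} (hp : 2 ≤ p) (hq : 2 ≤ q)
    (ha : ((p : ℝ) ^ q - 1 - u) / (((p : ℝ) ^ q - 1) * q) ≤ a)
    (hb : ((q : ℝ) ^ p - 1 - v) / (((q : ℝ) ^ p - 1) * p) ≤ b)
    (hw : (((q - 1) * (p - 1) : ℕ) : ℝ) / (q * p : ℕ) = w) (hsum : a + b + w < 1) :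
    1 < (p : ℝ) * u / ((p : ℝ) ^ q - 1) + (q : ℝ) * v / ((q : ℝ) ^ p - 1) := by
  have hp' : (2 : ℝ) ≤ p := by exact_mod_cast hp
  have hq' : (2 : ℝ) ≤ q := by exact_mod_cast hq
  have hP : 0 < (p : ℝ) ^ q - 1 := sub_pos.mpr (one_lt_pow₀ (by linarith) (by omega))
  have hQ : 0 < (q : ℝ) ^ p - 1 := sub_pos.mpr (one_lt_pow₀ (by linarith) (by omega))
  rw [Nat.cast_mul, Nat.cast_mul, Nat.cast_sub (by omega), Nat.cast_sub (by omega), Nat.cast_one] at hw
  have key : ((p : ℝ) ^ q - 1 - u) / (((p : ℝ) ^ q - 1) * q) + ((q : ℝ) ^ p - 1 - v) / (((q : ℝ) ^ p - 1) * p) +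
      ((q : ℝ) - 1) * ((p : ℝ) - 1) / ((q : ℝ) * p) =
      1 + (1 - ((p : ℝ) * u / ((p : ℝ) ^ q - 1) + (q : ℝ) * v / ((q : ℝ) ^ p - 1))) / ((p : ℝ) * q) := by
    field_simp
    ring
  by_contra hle
  have h0 : 0 ≤ (1 - ((p : ℝ) * u / ((p : ℝ) ^ q - 1) + (q : ℝ) * v / ((q : ℝ) ^ p - 1))) / ((p : ℝ) * q) :=
    div_nonneg (by linarith [not_lt.mp hle]) (by positivity)
  linarith

/-- **Corollary X.** One of `u`, `v` is full. -/
theorem full_of_mass_bound {p q u v U V : ℕ} (hq : 3 ≤ q) (hqp : q + 2 ≤ p)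
    (hu : u = U ∨ 3 * u * (p - 1) ≤ p ^ q - 1) (hv : v = V ∨ 3 * v * (q - 1) ≤ q ^ p - 1)
    (h : 1 < (p : ℝ) * u / ((p : ℝ) ^ q - 1) + (q : ℝ) * v / ((q : ℝ) ^ p - 1)) : u = U ∨ v = V := by
  by_contra hne
  push Not at hne
  have hu' := hu.resolve_left hne.1
  have hv' := hv.resolve_left hne.2
  have side : ∀ a b x : ℕ, 3 ≤ a → 1 ≤ b → 3 * x * (a - 1) ≤ a ^ b - 1 →
      (a : ℝ) * x / ((a : ℝ) ^ b - 1) ≤ (a : ℝ) / (3 * ((a : ℝ) - 1)) := by
    intro a b x ha hb hle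
    have ha' : (3 : ℝ) ≤ a := by exact_mod_cast ha
    have hle' : 3 * (x : ℝ) * ((a : ℝ) - 1) ≤ (a : ℝ) ^ b - 1 := by
      have : ((3 * x * (a - 1) : ℕ) : ℝ) ≤ ((a ^ b - 1 : ℕ) : ℝ) := Nat.cast_le.mpr hle
      rw [Nat.cast_mul, Nat.cast_mul, Nat.cast_sub (by omega), Nat.cast_sub (Nat.one_le_pow _ _ (by omega)),
        Nat.cast_pow, Nat.cast_one, Nat.cast_ofNat] at this
      exact this
    rw [div_le_div_iff₀ (sub_pos.mpr (one_lt_pow₀ (by linarith) (by omega))) (by linarith)]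
    nlinarith
  have h1 := side p q u (by omega) (by omega) hu'
  have h2 := side q p v hq (by omega) hv'
  have hp' : (5 : ℝ) ≤ p := by exact_mod_cast (show 5 ≤ p by omega)
  have hq' : (3 : ℝ) ≤ q := by exact_mod_cast hq
  have h3 : (p : ℝ) / (3 * ((p : ℝ) - 1)) ≤ 5 / 12 := by
    rw [div_le_div_iff₀ (by linarith) (by norm_num)]
    linarith
  have h4 : (q : ℝ) / (3 * ((q : ℝ) - 1)) ≤ 1 / 2 := by
    rw [div_le_div_iff₀ (by linarith) (by norm_num)]
    linarith
  linarith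

end Full

end CfsgLib.OddOrder.S14
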