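import Cfsg.Agent.Lib.OddOrder.S14.Mass
import Cfsg.Agent.Lib.OddOrder.S9b.Degree

/-!
Section 14 of the blueprint, (L5 d): with `U` fixed point free on `P` the irreducible members of `S(P)` all have
degree `q u`, and there are `((p ^ q - 1) / u - (p - 1)) / q` of them.
-/

set_option autoImplicit false
set_option linter.unusedSectionVars false
set_option linter.style.haveILetI false

namespace CfsgLib.OddOrder.S14

open Cfsg CfsgLib.CharTheory CfsgLib.OddOrder.Found

universe u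

variable {L : Type u} [Group L] [Fintype L] {K P U W₁ W₂ : Subgroup L} {p q : ℕ}
  (h : S9b.CoreHyp K P U W₁ W₂ p q)
include h

theorem inertia_inf_eq_bot [P.Normal] (hfpf : ∀ x ∈ U, x ≠ 1 → ∀ z ∈ P, x * z = z * x → z = 1) {α : P → ℂ}
    (hα : IsIrrCharacter P α) (hne : α ≠ fun _ => 1) : inertia P α ⊓ U = ⊥ := by
  classical
  letI := Fintype.ofFinite P
  obtain ⟨a, ha⟩ := exists_hom_of_degree_one (isCharacter_of_irr hα) (h.alpha_one hα)
  refine (Subgroup.eq_bot_iff_forall _).mpr fun x hx => ?_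
  by_contra hx1
  refine hne ?_
  let f : P → P := fun z => ⟨x * z * x⁻¹ * (z : L)⁻¹,
    P.mul_mem (h.P_normal.conj_mem _ z.2 x) (P.inv_mem z.2)⟩
  have hinj : Function.Injective f := fun z w e => by
    have e' : x * (z : L) * x⁻¹ * (z : L)⁻¹ = x * w * x⁻¹ * (w : L)⁻¹ := congrArg Subtype.val e
    have hc : x * ((w : L)⁻¹ * z) = ((w : L)⁻¹ * z) * x := by
      have e2 : x * ((w : L)⁻¹ * z) * x⁻¹ = (w : L)⁻¹ * z := by
        calc x * ((w : L)⁻¹ * z) * x⁻¹ = (x * (w : L) * x⁻¹)⁻¹ * ((x * z * x⁻¹ * (z : L)⁻¹) * z) := by group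
          _ = (x * (w : L) * x⁻¹)⁻¹ * ((x * w * x⁻¹ * (w : L)⁻¹) * z) := by rw [e']
          _ = _ := by group
      exact mul_inv_eq_iff_eq_mul.mp e2
    exact Subtype.ext (inv_mul_eq_one.mp
      (hfpf x (Subgroup.mem_inf.mp hx).2 hx1 _ (P.mul_mem (P.inv_mem w.2) z.2) hc)).symm
  funext y
  obtain ⟨z, rfl⟩ := Finite.injective_iff_surjective.mp hinj y
  have h1 := congrFun ((mem_inertia P).mp (Subgroup.mem_inf.mp hx).1) z
  rw [conjNormFun, ha] at h1
  have e : a ⟨x * z * x⁻¹, h.P_normal.conj_mem _ z.2 x⟩ = a z := Units.ext h1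
  rw [ha, show f z = ⟨x * z * x⁻¹, h.P_normal.conj_mem _ z.2 x⟩ * z⁻¹ from rfl]
  show ((a _ : ℂˣ) : ℂ) = 1
  rw [map_mul, e, map_inv, mul_inv_cancel, Units.val_one]

theorem degree_eq_u (hfpf : ∀ x ∈ U, x ≠ 1 → ∀ z ∈ P, x * z = z * x → z = 1) {θ : K → ℂ}
    (hθ : IsIrrCharacter K θ) (hk : ¬ ∀ z : K, (z : L) ∈ P → θ z = θ 1) : θ 1 = (Nat.card U : ℂ) := by
  haveI := h.P_normal
  obtain ⟨α, hα, hne, ho⟩ := h.exists_ne_one_over hθ hk
  rw [h.degree_of_over hθ hα ho]
  have e := h.degIdx_mul hα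
  rw [inertia_inf_eq_bot h hfpf hα hne, Subgroup.card_bot, mul_one] at e
  rw [e]

/-- **(L5 d)** The count. -/
theorem member_count (hfpf : ∀ x ∈ U, x ≠ 1 → ∀ z ∈ P, x * z = z * x → z = 1) :
    ∃ T : Finset (L → ℂ), (∀ φ ∈ T, φ ∈ indSet K P ∧ IsIrrCharacter L φ) ∧
      (∀ φ ∈ T, φ 1 = (q : ℂ) * (Nat.card U : ℂ)) ∧
      T.card * q * Nat.card U + Nat.card U * (p - 1) = p ^ q - 1 := by
  classical
  haveI := h.P_normal
  haveI := h.prime.normal
  haveI := Fintype.ofFinite K
  haveI := Fintype.ofFinite (W₂ →* ℂˣ)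
  set u := Nat.card U with hu
  have hu0 : 0 < u := Nat.card_pos
  set Θ := aboveIrr K P with hΘ
  have hmem : ∀ θ : IrrCharacter K, θ ∈ Θ ↔ ¬ ∀ z : K, (z : L) ∈ P → (θ : K → ℂ) z = (θ : K → ℂ) 1 :=
    fun θ => by simp [hΘ, aboveIrr]
  have hdeg : ∀ θ ∈ Θ, (θ : K → ℂ) 1 = (u : ℂ) := fun θ hθ => degree_eq_u h hfpf θ.2 ((hmem θ).mp hθ)
  -- the number of characters above `P`
  have hidx : (P.subgroupOf K).index = u := by
    refine Nat.eq_of_mul_eq_mul_left (Nat.card_pos (α := P.subgroupOf K)) ?_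
    rw [Subgroup.card_mul_index, h.card_K, Nat.card_congr (Subgroup.subgroupOfEquivOfLe h.P_le).toEquiv]
  have hcardΘ : Θ.card * u = p ^ q - 1 := by
    have e := aboveIrr_sum K P h.P_le (1 : K)
    rw [if_pos rfl, if_pos (by simp : ((1 : K) : L) ∈ P), hidx, Finset.sum_congr rfl fun θ hθ => by
      rw [hdeg θ hθ], Finset.sum_const, nsmul_eq_mul, h.card_K, h.card_P, ← hu, Nat.cast_mul, Nat.cast_pow] at e
    have hpq : 1 ≤ p ^ q := Nat.one_le_pow _ _ h.hp.pos
    have e' : ((Θ.card * u * u : ℕ) : ℂ) = (((p ^ q - 1) * u : ℕ) : ℂ) := by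
      push_cast [Nat.cast_sub hpq]
      linear_combination e
    exact Nat.eq_of_mul_eq_mul_right hu0 (by exact_mod_cast e')
  -- columns and the others
  set Col := Θ.filter fun θ : IrrCharacter K => ∃ b, (θ : K → ℂ) = h.prime.colChar b with hCol
  set Oth := Θ.filter fun θ : IrrCharacter K => ¬∃ b, (θ : K → ℂ) = h.prime.colChar b with hOth
  have hsplit : Col.card + Oth.card = Θ.card := Finset.card_filter_add_card_filter_not _
  have hCcard : Col.card = p - 1 := by
    have hmap : Col = ((Finset.univ : Finset (W₂ →* ℂˣ)).erase 1).image fun b =>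
        (⟨h.prime.colChar b, h.prime.isIrr_colChar b⟩ : IrrCharacter K) := by
      ext θ
      simp only [hCol, Finset.mem_filter, hmem, Finset.mem_image, Finset.mem_erase, Finset.mem_univ, and_true]
      constructor
      · rintro ⟨hk, b, e⟩
        refine ⟨b, fun hb => hk fun z _ => ?_, Subtype.ext e.symm⟩
        rw [e, hb, h.prime.colChar_one]
      · rintro ⟨b, hb, rfl⟩
        exact ⟨h.colChar_kernel hb, b, rfl⟩
    rw [hmap, Finset.card_image_of_injective _ fun b c e => h.prime.colChar_injective (congrArg Subtype.val e),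
      Finset.card_erase_of_mem (Finset.mem_univ _), Finset.card_univ]
    have := sum_hom_abelian h.prime.comm₂ 1
    simp at this
    rw [← h.card_W₂, Nat.card_eq_fintype_card]
    congr 1
  have hirr : ∀ θ ∈ Oth, IsIrrCharacter L (indFun K (θ : K → ℂ)) := fun θ hθ =>
    h.prime.isIrr_indFun_of_ne θ.2 fun b e => (Finset.mem_filter.mp hθ).2 ⟨b, e⟩
  refine ⟨Oth.image fun θ : IrrCharacter K => indFun K (θ : K → ℂ), fun φ hφ => ?_, fun φ hφ => ?_, ?_⟩
  · obtain ⟨θ, hθ, rfl⟩ := Finset.mem_image.mp hφ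
    exact ⟨⟨θ, θ.2, (hmem θ).mp (Finset.mem_filter.mp hθ).1, rfl⟩, hirr θ hθ⟩
  · obtain ⟨θ, hθ, rfl⟩ := Finset.mem_image.mp hφ
    rw [indFun_apply_one, hdeg θ (Finset.mem_filter.mp hθ).1, h.prime.index_eq, h.card_W₁]
  -- every fibre has `q` elements
  have hfib : ∀ φ ∈ Oth.image (fun θ : IrrCharacter K => indFun K (θ : K → ℂ)),
      (Oth.filter fun θ : IrrCharacter K => indFun K (θ : K → ℂ) = φ).card = q := by
    intro φ hφ
    obtain ⟨θ, hθ, rfl⟩ := Finset.mem_image.mp hφ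
    have hinK : Nat.card (inertia K (θ : K → ℂ)) = Nat.card K := by
      have e := classInner_indFun_self K θ.2
      rw [classInner_irr_self (hirr θ hθ), mul_one] at e
      exact_mod_cast e.symm
    have horb : (conjOrbit K (θ : K → ℂ)).card = q := by
      refine Nat.eq_of_mul_eq_mul_right (Nat.card_pos (α := K)) ?_
      have e := card_conjOrbit_mul_inertia K (θ : K → ℂ)
      rw [hinK, ← K.card_mul_index, h.prime.index_eq, h.card_W₁] at e
      rw [e, mul_comm]
    refine Eq.trans ?_ horb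
    refine Finset.card_bij (fun η _ => (η : K → ℂ)) (fun η hη => ?_) (fun a _ b _ e => Subtype.ext e) fun ψ hψ => ?_
    · obtain ⟨-, e⟩ := Finset.mem_filter.mp hη
      rw [mem_conjOrbit]
      by_contra hno
      push Not at hno
      have h0 := indFun_orthogonal_of_not_conj K η.2 θ.2 fun ⟨g, hg⟩ => hno g hg
      rw [e, classInner_irr_self (hirr θ hθ)] at h0
      exact one_ne_zero h0
    · obtain ⟨g, rfl⟩ := mem_conjOrbit K |>.mp hψ
      refine ⟨⟨_, isIrr_conjNormFun K g θ.2⟩, Finset.mem_filter.mpr ⟨Finset.mem_filter.mpr ⟨?_, ?_⟩,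
        indFun_conjNormFun K g _⟩, rfl⟩
      · rw [hmem]
        intro hk
        refine (hmem θ).mp (Finset.mem_filter.mp hθ).1 fun z hz => ?_
        have hz' : ((⟨g⁻¹ * z * g, by simpa using h.prime.normal.conj_mem _ z.2 g⁻¹⟩ : K) : L) ∈ P := by
          simpa using h.P_normal.conj_mem _ hz g⁻¹
        have e := hk _ hz'
        simpa [conjNormFun, mul_assoc, show (⟨1, K.one_mem⟩ : K) = 1 from rfl] using e
      · rintro ⟨b, e⟩
        haveI := Fintype.ofFinite (W₁ →* ℂˣ)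
        have hi : IsIrrCharacter L (h.prime.muSum b) := by
          rw [← h.prime.indFun_colChar, ← e, indFun_conjNormFun]
          exact hirr θ hθ
        have h1 := classInner_irr_self hi
        rw [h.prime.classInner_muSum, if_pos rfl] at h1
        have h2 : Nat.card W₁ = 1 := by exact_mod_cast h1
        rw [h.card_W₁] at h2
        exact h.hq.ne_one h2
  have hO : Oth.card = q * (Oth.image fun θ : IrrCharacter K => indFun K (θ : K → ℂ)).card := by
    rw [Finset.card_eq_sum_card_image (fun θ : IrrCharacter K => indFun K (θ : K → ℂ)) Oth,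
      Finset.sum_congr rfl hfib, Finset.sum_const, smul_eq_mul, mul_comm]
  rw [← hcardΘ, ← hsplit, hCcard, hO]
  ring

end CfsgLib.OddOrder.S14
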