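import Cfsg.Agent.Lib.OddOrder.S14.Kernel
import Cfsg.Agent.Lib.OddOrder.S14.StepA

/-!
Section 14 of the blueprint: the measures of `P#`, of the hat and of a kernel, and the second bridge of a kernel
`M` when `T` has type II.
-/

set_option autoImplicit false
set_option linter.unusedSectionVars false
set_option linter.style.haveILetI false

namespace CfsgLib.OddOrder.S14

open Cfsg CfsgLib.MinSimpleOdd CfsgLib.CharTheory CfsgLib.Dade CfsgLib.OddOrder.Found CfsgLib.OddOrder.S13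
open scoped ComplexConjugate Pointwise

universe u

variable {G : Type u} [Group G] [Fintype G]

theorem orderOf_conj (x g : G) : orderOf (x * g * x⁻¹) = orderOf g := MulEquiv.orderOf_eq (MulAut.conj x) g

/-- The orders of the elements of the hat are multiples of both primes. -/
theorem dvd_orderOf_hat {W₁ W₂ : Subgroup G} (hW : IsSelfNormalizingCyclic W₁ W₂) (hp₁ : (Nat.card W₁).Prime)
    (hp₂ : (Nat.card W₂).Prime) (hne : Nat.card W₁ ≠ Nat.card W₂) {w : G} (hw : w ∈ hatSet W₁ W₂) :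
    Nat.card W₁ ∣ orderOf w ∧ Nat.card W₂ ∣ orderOf w := by
  obtain ⟨hw0, h1, h2⟩ := hatSet_mem.mp hw
  obtain ⟨-, -, hdisj, hcomm, -, -⟩ := hW
  have hn : W₂ ≤ Subgroup.normalizer (W₁ : Set G) := fun b hb =>
    Subgroup.centralizer_le_normalizer _ (Subgroup.mem_centralizer_iff.mpr fun a ha => hcomm a ha b hb)
  rw [← SetLike.mem_coe, Subgroup.coe_mul_of_right_le_normalizer_left W₁ W₂ hn, Set.mem_mul] at hw0
  obtain ⟨a, ha, b, hb, rfl⟩ := hw0
  have ha1 : a ≠ 1 := fun e => h2 (by rw [e, one_mul]; exact hb)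
  have hb1 : b ≠ 1 := fun e => h1 (by rw [e, mul_one]; exact ha)
  have hc : Commute a b := hcomm a ha b hb
  have oa : orderOf a = Nat.card W₁ := by
    rcases hp₁.eq_one_or_self_of_dvd _ (Subgroup.orderOf_dvd_natCard W₁ ha) with e | e
    · exact absurd (orderOf_eq_one_iff.mp e) ha1
    · exact e
  have ob : orderOf b = Nat.card W₂ := by
    rcases hp₂.eq_one_or_self_of_dvd _ (Subgroup.orderOf_dvd_natCard W₂ hb) with e | e
    · exact absurd (orderOf_eq_one_iff.mp e) hb1
    · exact e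
  rw [hc.orderOf_mul_eq_mul_orderOf_of_coprime (by rw [oa, ob]; exact (Nat.coprime_primes hp₁ hp₂).mpr hne), oa, ob]
  exact ⟨dvd_mul_right _ _, dvd_mul_left _ _⟩

variable {S T W₁ W₂ U V : Subgroup G} (h : FTPair S T W₁ W₂ U V) (imp : FTImports G)
include h imp

/-- The image of `P - 1` in `G`. -/
abbrev hallSharp (_h : FTPair S T W₁ W₂ U V) : Set G := sharpSet ((fittingHallOf S).subgroupOf S)

theorem hallSharp_dade : DadeHypothesis (hallSharp h) S (fun _ => (⊥ : Subgroup G)) := by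
  classical
  haveI := Fintype.ofFinite S
  have d := h.primeDade imp
  exact dadeHypothesis_subset d.dade (sharpSet_subset d) (sharpSet_inv d)

theorem hallSharp_subset : hallSharp h ⊆ typeA0 S := by
  classical
  haveI := Fintype.ofFinite S
  exact sharpSet_subset (h.primeDade imp)

theorem hat_subset : hatSet W₁ W₂ ⊆ typeA0 S := fun v hv => by
  classical
  haveI := Fintype.ofFinite S
  exact (h.primeDade imp).memV v (hatSet_mem.mp hv).1 (hatSet_mem.mp hv).2.1 (hatSet_mem.mp hv).2.2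

omit h imp in
theorem dadeSupp_mono {A B : Set G} (hAB : A ⊆ B) (R : G → Subgroup G) : dadeSupp A R ⊆ dadeSupp B R :=
  fun _ ⟨a, ha, r⟩ => ⟨a, hAB ha, r⟩

theorem hallSharp_hat_disjoint :
    Disjoint (dadeSupp (hallSharp h) fun _ => (⊥ : Subgroup G)) (dadeSupp (hatSet W₁ W₂) fun _ => ⊥) := by
  refine Set.disjoint_left.mpr ?_
  rintro g ⟨a, ⟨y, hy, -, rfl⟩, r, hr, x, hx⟩ ⟨b, hb, s, hs, z, hz⟩
  rw [Subgroup.mem_bot] at hr hs
  rw [hr, mul_one] at hx
  rw [hs, mul_one] at hz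
  have h1 : orderOf g ∣ Nat.card W₂ ^ Nat.card W₁ := by
    rw [← orderOf_conj x g, hx, ← h.card_P imp]
    exact Subgroup.orderOf_dvd_natCard _ (Subgroup.mem_subgroupOf.mp hy)
  have h2 : Nat.card W₁ ∣ orderOf g := by
    rw [← orderOf_conj z g, hz]
    exact (dvd_orderOf_hat h.hSP.selfNormalizing (h.q_prime imp) (h.p_prime imp) (h.p_ne_q imp).symm hb).1
  exact h.p_ne_q imp ((Nat.prime_dvd_prime_iff_eq (h.q_prime imp) (h.p_prime imp)).mp
    ((h.q_prime imp).dvd_of_dvd_pow (h2.trans h1))).symm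

theorem card_S' : Nat.card S = Nat.card W₂ ^ Nat.card W₁ * Nat.card U * Nat.card W₁ := by
  classical
  haveI := Fintype.ofFinite S
  rw [(h.sideData imp).card_L, Nat.card_congr (Subgroup.subgroupOfEquivOfLe (h.typeData imp).H_le).toEquiv,
    h.card_P imp]

theorem hallSharp_measure :
    ((Nat.card W₂ : ℝ) ^ Nat.card W₁ - 1) / ((Nat.card W₂ : ℝ) ^ Nat.card W₁ * Nat.card U * Nat.card W₁) ≤
      (Nat.card (dadeSupp (hallSharp h) fun _ => (⊥ : Subgroup G)) : ℝ) / Nat.card G := by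
  classical
  haveI := Fintype.ofFinite S
  refine le_of_eq_of_le ?_ (supp_measure (hallSharp_dade h imp))
  rw [card_sharpSet, Nat.card_congr (Subgroup.subgroupOfEquivOfLe (h.typeData imp).H_le).toEquiv, h.card_P imp,
    card_S' h imp, Nat.cast_sub (Nat.one_le_pow _ _ Nat.card_pos)]
  push_cast
  rfl

theorem A0_measure :
    ((Nat.card W₂ : ℝ) ^ Nat.card W₁ - 1) / ((Nat.card W₂ : ℝ) ^ Nat.card W₁ * Nat.card U * Nat.card W₁) +
      ((Nat.card W₁ : ℝ) - 1) * ((Nat.card W₂ : ℝ) - 1) / ((Nat.card W₁ : ℝ) * Nat.card W₂) ≤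
      (Nat.card (dadeSupp (typeA0 S) fun _ => (⊥ : Subgroup G)) : ℝ) / Nat.card G := by
  classical
  haveI := Fintype.ofFinite ↥(W₁ ⊔ W₂)
  have h2 := supp_measure (cyclic_dade h.hSP.selfNormalizing)
  rw [(card_hatSet h.hSP.selfNormalizing).1, (card_hatSet h.hSP.selfNormalizing).2, Nat.cast_mul, Nat.cast_mul,
    Nat.cast_sub Nat.card_pos, Nat.cast_sub Nat.card_pos, Nat.cast_one] at h2
  refine (add_le_add (hallSharp_measure h imp) h2).trans ?_
  rw [← add_div]
  refine div_le_div_of_nonneg_right ?_ (Nat.cast_nonneg _)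
  rw [← Nat.cast_add, Nat.cast_le]
  simp only [Nat.card_coe_set_eq]
  rw [← Set.ncard_union_eq (hallSharp_hat_disjoint h imp)]
  exact Set.ncard_le_ncard (Set.union_subset (dadeSupp_mono (hallSharp_subset h imp) _) (dadeSupp_mono (hat_subset h imp) _))

omit h imp

theorem kernel_measure {L : Subgroup G} [Fintype L] (hG : IsMinSimpleOddOrder G) (hL : IsCoatom L) :
    ((Nat.card (sigmaCore L) : ℝ) - 1) / (((sigmaCore L).subgroupOf L).index * (Nat.card (sigmaCore L) : ℝ)) ≤
      (Nat.card (kernelSupp L) : ℝ) / Nat.card G := by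
  classical
  refine le_of_eq_of_le ?_ (supp_measure (S12.dade_sigmaCore hG hL))
  have hc : Nat.card ((sigmaCore L).subgroupOf L) = Nat.card (sigmaCore L) :=
    Nat.card_congr (Subgroup.subgroupOfEquivOfLe (piCoreOf_le _ _)).toEquiv
  have h1 : Nat.card ↥((sigmaCore L : Set G) \ {1}) = Nat.card (sigmaCore L) - 1 := by
    rw [Nat.card_coe_set_eq, Set.ncard_sdiff_singleton_of_mem (sigmaCore L).one_mem, ← Nat.card_coe_set_eq]
    rfl
  rw [h1, ← ((sigmaCore L).subgroupOf L).card_mul_index, hc, Nat.cast_sub Nat.card_pos, Nat.cast_mul, Nat.cast_one,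
    mul_comm]

/-- The second bridge of a kernel over `N(V)`. -/
theorem second_typeII (f : Fourteen S T W₁ W₂ U V) (hII : IsOfTypeII T) {χ : WLin W₁ W₂ → (G → ℂ)}
    (hχ : IsCyclicTIFamily W₁ W₂ χ) {L : Subgroup G} (hL : IsCoatom L) (_hκ : kappa L = ∅) :
    (∃ (M : Subgroup G) (g : G), IsCoatom M ∧ Subgroup.normalizer (V : Set G) ≤ M ∧ V ≤ sigmaCore M ∧
        M = MulAut.conj g • L ∧
        (((sigmaCore M).subgroupOf M).index = Nat.card W₂ ∨
          ((sigmaCore M).subgroupOf M).index = Nat.card W₂ * Nat.card W₁)) ∨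
      ∃ (X : Set G) (β P t : G → ℂ) (e N : ℕ) (c A B : ℤ), Second f χ (kernelSupp L) X β P t e N c A B := by
  classical
  obtain ⟨M, hM, hNV, hMκ, -, -, -, hVM, -, halt⟩ := f.exists_M hII
  have hcW : Nat.card ↥(W₁ ⊔ W₂) = Nat.card W₁ * Nat.card W₂ := (card_hatSet f.pair.hSP.selfNormalizing).1
  have hidx : ((sigmaCore M).subgroupOf M).index = Nat.card W₂ ∨
      ((sigmaCore M).subgroupOf M).index = Nat.card W₂ * Nat.card W₁ := by
    haveI := S12.core_normal f.pair.hG hM
    have hle : sigmaCore M ≤ M := piCoreOf_le _ _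
    have hn : M ≤ Subgroup.normalizer (sigmaCore M : Set G) :=
      (Subgroup.normal_subgroupOf_iff_le_normalizer hle).mp inferInstance
    have key : ∀ C : Subgroup G, sigmaCore M ⊓ C = ⊥ → sigmaCore M ⊔ C = M →
        ((sigmaCore M).subgroupOf M).index = Nat.card C := fun C hd hs => by
      refine S9.relIndex_of_compl ⟨hle, hs ▸ le_sup_right, hd, fun m hm => ?_⟩
      have hm' : m ∈ ((sigmaCore M ⊔ C : Subgroup G) : Set G) := by rw [hs]; exact hm
      rw [Subgroup.coe_mul_of_right_le_normalizer_left _ _ ((hs ▸ le_sup_right).trans hn), Set.mem_mul] at hm'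
      obtain ⟨a, ha, c, hc, e⟩ := hm'
      exact ⟨a, ha, c, hc, e.symm⟩
    rcases halt with ⟨hd, hs⟩ | ⟨x, hx, hd, hs⟩
    · exact Or.inl (key _ hd hs)
    · refine Or.inr ((key _ hd hs).trans ?_)
      haveI := f.pair.P_comm f.imp
      have hP : W₂ ≤ fittingHallOf S := (f.pair.typeData f.imp).W2_le
      have hfix : W₂.map (MulAut.conj x).toMonoidHom = W₂ := by
        refine le_antisymm ?_ fun w hw => ⟨w, hw, ?_⟩
        · rintro _ ⟨w, hw, rfl⟩
          have e : (⟨x, hx⟩ : fittingHallOf S) * ⟨w, hP hw⟩ = ⟨w, hP hw⟩ * ⟨x, hx⟩ := mul_comm' _ _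
          have e' : x * w = w * x := congrArg Subtype.val e
          show x * w * x⁻¹ ∈ W₂
          rwa [e', mul_inv_cancel_right]
        · have e : (⟨x, hx⟩ : fittingHallOf S) * ⟨w, hP hw⟩ = ⟨w, hP hw⟩ * ⟨x, hx⟩ := mul_comm' _ _
          have e' : x * w = w * x := congrArg Subtype.val e
          show x * w * x⁻¹ = w
          rw [e', mul_inv_cancel_right]
      conv_lhs => rw [← hfix, ← Subgroup.map_sup]
      rw [Subgroup.card_map_of_injective (MulEquiv.injective _), sup_comm, hcW, mul_comm]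
  by_cases hconj : ∃ g : G, M = MulAut.conj g • L
  · obtain ⟨g, hg⟩ := hconj
    exact Or.inl ⟨M, g, hM, hNV, hVM, hg, hidx⟩
  push Not at hconj
  haveI := Fintype.ofFinite M
  haveI := Fintype.ofFinite L
  obtain ⟨SM, τ₁, ζ, NM, c, A, B, k⟩ := exists_kernelPack f hχ hM hMκ
  refine Or.inr ⟨kernelSupp M, _, _, _, _, NM, c, A, B, k.bridge, k.table, hidx, ?_, k.even, k.two_le,
    one_notMem_kernelSupp f hM, (f.supp_disjoint_S hM hMκ).symm,
    (S12.core_supp_disjoint f.pair.hG hL hM hconj).symm, k.span f, fun he => ?_⟩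
  · rw [← k.card]
    exact Nat.card_le_card_of_injective (Subgroup.inclusion hVM) (Subgroup.inclusion_injective hVM)
  refine ⟨kernelSupp M ∪ dadeSupp (hallSharp f.pair.swap) (fun _ => ⊥),
    Set.union_subset_union_right _ (dadeSupp_mono (hallSharp_subset f.pair.swap f.imp) _), ?_, ?_, ?_⟩
  · refine Set.disjoint_union_left.mpr ⟨(f.supp_disjoint_S hM hMκ).symm, Set.disjoint_left.mpr fun g hg hgS => ?_⟩
    have hmem : g ∈ dadeSupp (typeA0 S) (fun _ => (⊥ : Subgroup G)) ∩ dadeSupp (typeA0 T) (fun _ => ⊥) :=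
      ⟨hgS, dadeSupp_mono (hallSharp_subset f.pair.swap f.imp) _ hg⟩
    rw [f.supp_inter] at hmem
    obtain ⟨y, z, hz, e⟩ := hmem
    refine Set.disjoint_left.mp (hallSharp_hat_disjoint f.pair.swap f.imp) hg ?_
    refine ⟨z, ?_, 1, Subgroup.one_mem _, y⁻¹, by rw [e]; group⟩
    rw [← f.W₂_eq] at hz
    exact hatSet_mem.mpr ⟨sup_comm W₁ W₂ ▸ hz.1, fun e' => hz.2 (Or.inr e'), fun e' => hz.2 (Or.inl e')⟩
  · rintro (h1 | h1)
    · exact one_notMem_kernelSupp f hM h1
    · exact one_notMem_dadeSupp (hallSharp_dade f.pair.swap f.imp) h1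
  · have hd : Disjoint (kernelSupp M) (dadeSupp (hallSharp f.pair.swap) fun _ => (⊥ : Subgroup G)) :=
      Set.disjoint_left.mpr fun g hg hg' => Set.disjoint_left.mp (f.supp_disjoint_T hM hMκ)
        (dadeSupp_mono (hallSharp_subset f.pair.swap f.imp) _ hg') hg
    rw [Nat.card_coe_set_eq, Set.ncard_union_eq hd, Nat.cast_add, add_div, ← Nat.card_coe_set_eq, ← Nat.card_coe_set_eq]
    refine le_trans ?_ (add_le_add (kernel_measure f.pair.hG hM) (hallSharp_measure f.pair.swap f.imp))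
    rw [he]
    set v : ℝ := (Nat.card V : ℝ) with hv
    set m : ℝ := (Nat.card (sigmaCore M) : ℝ) with hm
    set p : ℝ := (Nat.card W₂ : ℝ) with hp
    set Q : ℝ := (Nat.card W₁ : ℝ) ^ Nat.card W₂ with hQ
    have hp0 : 0 < p := Nat.cast_pos.mpr Nat.card_pos
    have hv0 : 0 < v := Nat.cast_pos.mpr Nat.card_pos
    have hQ0 : 0 < Q := pow_pos (Nat.cast_pos.mpr Nat.card_pos) _
    have hvm : v ≤ m := Nat.cast_le.mpr
      (Nat.card_le_card_of_injective (Subgroup.inclusion hVM) (Subgroup.inclusion_injective hVM))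
    have e : (Q * v - 1) / (Q * v * p) = (v - 1) / (p * v) + (Q - 1) / (Q * v * p) := by
      field_simp
      ring
    have h1 : (v - 1) / (p * v) ≤ (m - 1) / (p * m) := by
      rw [div_le_div_iff₀ (mul_pos hp0 hv0) (mul_pos hp0 (lt_of_lt_of_le hv0 hvm))]
      nlinarith
    linarith

end CfsgLib.OddOrder.S14
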