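import Cfsg.Agent.Lib.OddOrder.S14.Second
import Cfsg.Agent.Lib.OddOrder.S14.Members

/-!
Section 14 of the blueprint, (L5): a bridge against the two sides of the pair and against the sum over `S(P)`.
-/

set_option autoImplicit false
set_option linter.unusedSectionVars false
set_option linter.style.haveILetI false

namespace CfsgLib.OddOrder.S14

open Cfsg CfsgLib.MinSimpleOdd CfsgLib.CharTheory CfsgLib.Dade CfsgLib.OddOrder.Found CfsgLib.OddOrder.S13
open scoped ComplexConjugate Pointwise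

universe u

variable {G : Type u} [Group G] [Fintype G] {S T W₁ W₂ U V : Subgroup G} {χ : WLin W₁ W₂ → (G → ℂ)}

/-- **(L5 a, b)** A bridge away from `A₀(S)` against `β_b`. -/
theorem side_facts (h : FTPair S T W₁ W₂ U V) (imp : FTImports G) (hχ : IsCyclicTIFamily W₁ W₂ χ) {X : Set G}
    {β P t : G → ℂ} {e N : ℕ} {c : ℤ} (D : IsBridge χ X β P t e N c) {A B : ℤ} (Tb : IsTable χ β A B)
    (hN : Even N) (hN0 : 0 < N) (hX : Disjoint X (dadeSupp (typeA0 S) fun _ => (⊥ : Subgroup G))) :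
    ∃ cS : ℤ, Odd (B + cS) ∧ cS ^ 2 * (N : ℤ) * Nat.card W₁ + 1 ≤ (Nat.card U : ℤ) := by
  classical
  haveI := Fintype.ofFinite S
  have hd := h.primeDade imp
  haveI := Fintype.ofFinite (W₂.subgroupOf S →* ℂˣ)
  haveI : Nontrivial (W₂.subgroupOf S →* ℂˣ) := Fintype.one_lt_card_iff_nontrivial.mp (by
    have e : Fintype.card (W₂.subgroupOf S →* ℂˣ) = Nat.card (W₂.subgroupOf S) := by
      have := sum_hom_abelian hd.ti.comm₂ 1
      simp at this
      rw [Nat.card_eq_fintype_card]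
      exact_mod_cast this
    rw [e, hd.card₂]
    exact (h.p_prime imp).one_lt)
  obtain ⟨b, hb⟩ := exists_ne (1 : W₂.subgroupOf S →* ℂˣ)
  have sd := h.sideData imp
  have hv : ∀ g ∈ X, sideBeta hd b g = 0 := fun g hg =>
    dade_eq_zero_of_notMem hd.dade _ (Set.disjoint_left.mp hX hg)
  obtain ⟨cS, hc⟩ := classInner_genChar_int (sd.beta_genChar hb) D.genT
  exact ⟨cS, D.side_parity sd hb hχ h.hG.1 hN hv Tb hc, D.side_bound sd hb hχ hN0 hv hc⟩

/-- The same against `T`. -/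
theorem side_facts_swap (h : FTPair S T W₁ W₂ U V) (imp : FTImports G) (hχ : IsCyclicTIFamily W₁ W₂ χ) {X : Set G}
    {β P t : G → ℂ} {e N : ℕ} {c : ℤ} (D : IsBridge χ X β P t e N c) {A B : ℤ} (Tb : IsTable χ β A B)
    (hN : Even N) (hN0 : 0 < N) (hX : Disjoint X (dadeSupp (typeA0 T) fun _ => (⊥ : Subgroup G))) :
    ∃ d : ℤ, Odd (A + d) ∧ d ^ 2 * (N : ℤ) * Nat.card W₂ + 1 ≤ (Nat.card V : ℤ) :=
  side_facts h.swap imp (cycFamily_swap hχ) D.swap Tb.swap hN hN0 hX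

/-- A weighted sum of the images of `S(P)`. -/
structure SideSum (S : Subgroup G) (χ : WLin W₁ W₂ → (G → ℂ)) (q : ℕ) (Z : G → ℂ) (NS : ℕ) : Prop where
  self : classInner Z Z = (NS : ℂ)
  eta : ∀ ω, classInner Z (χ ω) = 0
  span : ∀ g : G → ℂ, (∀ b, IsPaired (dadeSupp (typeA0 S) fun _ => (⊥ : Subgroup G)) b → classInner b g = 0) →
    classInner Z g = 0
  table : ∀ (β : G → ℂ) (A B : ℤ), IsTable χ β A B →
    (∀ g ∈ dadeSupp (typeA0 S) (fun _ => (⊥ : Subgroup G)), β g = 0) →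
    Complex.normSq (classInner β Z) = ((fval q A B : ℤ) : ℝ) ^ 2 * (NS : ℝ) ^ 2

theorem SideSum.perp {q : ℕ} {Z : G → ℂ} {NS : ℕ} (s : SideSum S χ q Z NS) {X : Set G}
    (hX : Disjoint X (dadeSupp (typeA0 S) fun _ => (⊥ : Subgroup G))) (hX1 : (1 : G) ∉ X)
    (hS1 : (1 : G) ∉ dadeSupp (typeA0 S) fun _ => (⊥ : Subgroup G)) {b : G → ℂ} (hb : IsPaired X b) :
    classInner Z b = 0 :=
  s.span b fun _ ha => paired_orth hX.symm hS1 hX1 ha hb

theorem exists_sideSum (f : Fourteen S T W₁ W₂ U V) (hχ : IsCyclicTIFamily W₁ W₂ χ) :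
    ∃ (Z : G → ℂ) (NS : ℕ), SideSum S χ (Nat.card W₁) Z NS ∧
      NS * Nat.card W₁ * Nat.card U + Nat.card U * (Nat.card W₂ - 1) = Nat.card W₂ ^ Nat.card W₁ - 1 := by
  classical
  haveI := Fintype.ofFinite S
  haveI := Fintype.ofFinite (W₁.subgroupOf S →* ℂˣ)
  haveI := Fintype.ofFinite (W₂.subgroupOf S →* ℂˣ)
  have d := f.pair.typeData f.imp
  have hd := f.pair.primeDade f.imp
  have hc := f.pair.coreHypOf f.imp hd
  have sd := f.pair.sideData f.imp
  haveI := hd.ti.normal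
  obtain ⟨σ, ε, π, C⟩ := f.pair.exists_coherent f.imp hχ
  have hcU : Nat.card (U.subgroupOf S) = Nat.card U :=
    Nat.card_congr (Subgroup.subgroupOfEquivOfLe d.U_le).toEquiv
  obtain ⟨T₀, hT, hdeg, hNS⟩ := member_count hc fun x hx hx1 z hz e => by
    have hf := f.fpf_U _ (Subgroup.mem_subgroupOf.mp hx) fun e' => hx1 (Subtype.ext e')
    have hz1 : (z : G) ∈ fittingHallOf S ⊓ Subgroup.centralizer ({(x : G)} : Set G) :=
      ⟨Subgroup.mem_subgroupOf.mp hz, Subgroup.mem_centralizer_singleton_iff.mpr (congrArg Subtype.val e).symm⟩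
    rw [hf, Subgroup.mem_bot] at hz1
    exact Subtype.ext hz1
  rw [hcU] at hdeg hNS
  haveI : Nontrivial (W₂.subgroupOf S →* ℂˣ) := Fintype.one_lt_card_iff_nontrivial.mp (by
    have e : Fintype.card (W₂.subgroupOf S →* ℂˣ) = Nat.card (W₂.subgroupOf S) := by
      have := sum_hom_abelian hd.ti.comm₂ 1
      simp at this
      rw [Nat.card_eq_fintype_card]
      exact_mod_cast this
    rw [e, hd.card₂]
    exact (f.pair.p_prime f.imp).one_lt)
  obtain ⟨b, hb⟩ := exists_ne (1 : W₂.subgroupOf S →* ℂˣ)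
  have hu0 : Nat.card U ≠ 0 := Nat.card_pos.ne'
  have hsum : ∑ φ ∈ T₀, φ 1 * φ 1 = (T₀.card : ℂ) * ((Nat.card W₁ : ℂ) * (Nat.card U : ℂ)) ^ 2 := by
    rw [Finset.sum_congr rfl fun φ hφ => by rw [hdeg φ hφ], Finset.sum_const, nsmul_eq_mul]
    ring
  have hε : Complex.normSq (ε : ℂ) = 1 := by
    rcases C.eps with e | e <;> simp [e]
  have hpair : ∀ φ ∈ T₀, IsPaired (dadeSupp (typeA0 S) fun _ => (⊥ : Subgroup G)) (σ φ) := fun φ hφ => by
    obtain ⟨⟨θ, hθ, hk, rfl⟩, hi⟩ := hT φ hφ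
    haveI := Fintype.ofFinite (derK S)
    refine paired_of_agree hd.dade C.iso C.agree ⟨θ, hθ, hk, rfl⟩ hi
      ⟨conjFun θ, isIrrCharacter_conjChar hθ, fun hk' => hk fun z hz => ?_, (indFun_conjFun _ θ).symm⟩
      (hd.indSet_conj_ne d.odd ⟨θ, hθ, hk, rfl⟩)
    exact (starRingEnd ℂ).injective (hk' z hz)
  refine ⟨sideVec T₀ σ (Nat.card W₁) (Nat.card U), T₀.card,
    ⟨?_, fun ω => sideVec_perp fun φ hφ => C.orth φ (hT φ hφ).1 (hT φ hφ).2 ω,
      fun g hg => sideVec_perp fun φ hφ => hg _ (hpair φ hφ), fun β A B Tb hβ => ?_⟩, hNS⟩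
  · rw [sideVec, classInner_sum_right, Finset.card_eq_sum_ones, Nat.cast_sum]
    refine Finset.sum_congr rfl fun φ hφ => ?_
    have h1 : φ 1 / ((Nat.card W₁ : ℂ) * (Nat.card U : ℂ)) = 1 := by
      rw [hdeg φ hφ, div_self (mul_ne_zero (Nat.cast_ne_zero.mpr Nat.card_pos.ne') (Nat.cast_ne_zero.mpr hu0))]
    rw [classInner_smul_right, classInner_sum_left, Finset.sum_eq_single_of_mem φ hφ fun ψ hψ hne => by
        rw [classInner_smul_left, C.iso.2.2.1 _ (Submodule.subset_span (hT ψ hψ).1) _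
          (Submodule.subset_span (hT φ hφ).1), classInner_irr_ne (hT ψ hψ).2 (hT φ hφ).2 hne, mul_zero],
      classInner_smul_left, C.iso.2.2.1 _ (Submodule.subset_span (hT φ hφ).1) _ (Submodule.subset_span (hT φ hφ).1),
      classInner_irr_self (hT φ hφ).2, h1, map_one, one_mul, one_mul, Nat.cast_one]
  · exact (sideVec_facts hd Tb C.iso C.agree hβ hb (C.ne_one b hb) hε (C.col b hb) hu0 (sd.deg b hb) T₀ hT hsum).2

end CfsgLib.OddOrder.S14
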