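import Cfsg.Agent.Lib.OddOrder.S14.Numbers

/-!
Section 14, Step B: `u = (p ^ q - 1) / (p - 1)`.
-/

set_option autoImplicit false

namespace CfsgLib.OddOrder.S14

open CfsgLib.OddOrder.S13

namespace Nums.Valid

variable {n : Nums} {conj Vcyc : Prop} (H : n.Valid conj Vcyc)
include H

theorem p_ne_two : n.p ≠ 2 := by
  have := H.hq.two_le
  have := H.hqp
  omega

theorem q_ge : 3 ≤ n.q := by
  have := H.hq.two_le
  have := H.hq2
  omega

theorem p_ge : n.q + 2 ≤ n.p := by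
  have h1 := H.hq.odd_of_ne_two H.hq2
  have h2 := H.hp.odd_of_ne_two H.p_ne_two
  have := H.hqp
  obtain ⟨i, hi⟩ := h1
  obtain ⟨j, hj⟩ := h2
  omega

theorem q_not_dvd_u : ¬ n.q ∣ n.u := fun h => by
  have := H.u_mod
  rw [Nat.mod_eq_zero_of_dvd h] at this
  omega

theorem five_three (hp : n.p = 5) (hq : n.q = 3) : n.u = geom n.p n.q := by
  have hu := H.u_shape
  have h1 := H.u_gt
  rw [hp, hq] at hu ⊢
  rw [show geom 5 3 = 31 by decide] at hu ⊢
  rcases hu with h | ⟨a, hao, ha, hua⟩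
  · exact ((Nat.dvd_prime (by norm_num)).mp h).resolve_left (by omega)
  · have : a ≤ 4 := Nat.le_of_dvd (by norm_num) ha
    have ha1 : a = 1 := by interval_cases a <;> revert hao ha <;> decide
    rw [ha1, one_pow, Nat.dvd_one] at hua
    omega

/-- The situation `L` conjugate to `M` of Step B. -/
theorem stepB_conj (hNS : 0 < n.NS) (hBM : Odd n.BM) (hv : n.v = geom n.q n.p)
    (hsmall : n.NS + n.p ≤ n.p * n.q)
    (hc : n.m = n.h ∧ n.AM = n.A ∧ n.BM = n.B ∧ n.v ∣ n.h) : False := by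
  obtain ⟨-, -, hB, j, hj⟩ := hc
  rw [hB] at hBM
  have hq3 := H.q_ge
  have hp5 := H.p_ge
  have hf := one_le_sq (odd_ne_zero (fval_odd (A := n.A) (H.hq.odd_of_ne_two H.hq2) hBM))
  have hfN : (n.NS : ℤ) ≤ fval n.q n.A n.B ^ 2 * n.NS := by nlinarith
  obtain ⟨hg1, hg2⟩ := grid_of_odd (p := n.p) (q := n.q) (A := n.A) (by omega) (by omega) hBM
  have hnorm := H.normL
  push_cast at hnorm
  have hAe : ¬ Odd n.A := fun hA => by
    have := hg2 hA
    omega
  have hd : Odd n.d := by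
    have h' := H.parT
    rw [Int.not_odd_iff_even] at hAe
    exact (Int.odd_add'.mp h').mpr hAe
  have hd1 := one_le_sq (odd_ne_zero hd)
  have hdle : n.NL * n.p + 1 ≤ n.v := by
    have h' := H.d_le
    have : (n.NL : ℤ) * n.p ≤ n.d ^ 2 * n.NL * n.p := by
      rw [mul_assoc]
      exact le_mul_of_one_le_left (by positivity) hd1
    exact_mod_cast (show (n.NL : ℤ) * n.p + 1 ≤ n.v by linarith)
  have hh := H.h_eq
  have hjq : j < n.q := by
    by_contra hge
    have := Nat.mul_le_mul_left n.v (not_lt.mp hge)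
    nlinarith
  have hj1 : j = 1 := by
    have h1 : (n.v * j) % n.p = 1 := by
      rw [← hj, hh, mul_assoc, Nat.mul_add_mod, Nat.mod_eq_of_lt H.hp.one_lt]
    rwa [Nat.mul_mod, H.v_mod, one_mul, Nat.mod_mod, Nat.mod_eq_of_lt (by omega)] at h1
  rw [hj1, mul_one] at hj
  have huv : n.u ∣ geom n.q n.p := hv ▸ hj ▸ H.h_dvd
  have hrp : ∀ r : ℕ, r.Prime → r ∣ n.u → r % n.p = 1 := fun r hr hru => by
    refine geom_prime_dvd H.hq H.hp hr (hru.trans huv) ?_
    rintro rfl
    rcases H.u_shape with h | ⟨a, -, ha, hua⟩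
    · have h2 := hru.trans h
      have h3 : n.p ∣ geom n.p n.q * (n.p - 1) + 1 := by
        rw [geom_mul_pred H.hp.one_le]
        exact dvd_pow_self _ H.hq.ne_zero
      exact H.hp.ne_one (Nat.dvd_one.mp ((Nat.dvd_add_right (h2.mul_right _)).mp h3))
    · have := Nat.le_of_dvd (by omega) ((prime_dvd_pow_of_dvd hr hru hua).trans ha)
      omega
  rcases H.u_shape with h | ⟨a, -, ha, hua⟩
  swap
  · obtain ⟨r, hr, hru⟩ := Nat.exists_prime_and_dvd H.u_gt.ne'
    have h1 := hrp r hr hru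
    have h2 := Nat.le_of_dvd (by omega) ((prime_dvd_pow_of_dvd hr hru hua).trans ha)
    rw [Nat.mod_eq_of_lt (by omega)] at h1
    exact hr.ne_one h1
  obtain ⟨D, hD⟩ := h
  have hu1 := mod_eq_one H.hp.one_lt (by have := H.u_gt; omega) hrp
  have hgp : geom n.p n.q % n.p = 1 := by
    obtain ⟨q', hq'⟩ := Nat.exists_eq_add_of_le H.hq.one_le
    rw [hq', geom, add_comm 1 q', Finset.sum_range_succ', pow_zero]
    obtain ⟨c, hc⟩ : n.p ∣ ∑ i ∈ Finset.range q', n.p ^ (i + 1) :=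
      Finset.dvd_sum fun i _ => dvd_pow_self _ (Nat.succ_ne_zero i)
    rw [hc, Nat.mul_add_mod, Nat.mod_eq_of_lt H.hp.one_lt]
  have hDp : D % n.p = 1 := by
    rwa [hD, Nat.mul_mod, hu1, one_mul, Nat.mod_mod] at hgp
  have hgm := geom_mul_pred (p := n.p) (q := n.q) H.hp.one_le
  have hNSD : n.NS * n.q + (n.p - 1) = D * (n.p - 1) := by
    refine Nat.eq_of_mul_eq_mul_left (show 0 < n.u by have := H.u_gt; omega) ?_
    have h' := H.NS_eq
    rw [← mul_assoc n.u D, ← hD, mul_add]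
    have : n.u * (n.NS * n.q) = n.NS * n.q * n.u := by ring
    omega
  have hD1 : D ≠ 1 := fun e => by
    rw [e, one_mul] at hNSD
    rcases Nat.mul_eq_zero.mp (show n.NS * n.q = 0 by omega) with h' | h'
    · omega
    · omega
  have hbound : D * (n.p - 1) ≤ (n.p * n.q - n.p) * n.q + (n.p - 1) := by
    rw [← hNSD]
    exact Nat.add_le_add_right (Nat.mul_le_mul_right _ (by omega)) _
  by_cases hqD : n.q ∣ D
  · obtain ⟨D', rfl⟩ := hqD
    have hD'1 : D' ≠ 1 := fun e => by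
      rw [e, mul_one, Nat.mod_eq_of_lt H.hqp] at hDp
      omega
    have hD'q : D' ≠ n.q := fun e => sq_not_dvd_geom (p := n.p) H.hq H.hq2 (by
      rw [hD, e, ← sq]
      exact dvd_mul_left _ _)
    have h2 := cofactor_large H.hp H.p_ne_two H.hq H.hq2 (k := D')
      (hD ▸ (dvd_mul_left D' n.q).mul_left n.u) hD'1 hD'q
    have h3 : n.q * (2 * n.q + 1) * (n.p - 1) ≤ (n.p * n.q - n.p) * n.q + (n.p - 1) :=
      le_trans (Nat.mul_le_mul_right _ (Nat.mul_le_mul_left _ h2)) hbound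
    obtain ⟨p', hp'⟩ : ∃ p', n.p = p' + 1 := ⟨n.p - 1, by omega⟩
    obtain ⟨q', hq'⟩ : ∃ q', n.q = q' + 1 := ⟨n.q - 1, by omega⟩
    rw [hp', hq', Nat.add_sub_cancel, mul_add_one (p' + 1) q', Nat.add_sub_cancel] at h3
    have a1 : q' ≤ p' := by omega
    have a2 : 1 ≤ p' := by omega
    clear * - h3 a1 a2
    nlinarith [Nat.mul_le_mul_left q' a1, Nat.mul_le_mul_left q' a2]
  · have hD0 : D ≠ 0 := fun e => hqD (e ▸ dvd_zero _)
    have hDq := mod_eq_one H.hq.one_lt hD0 fun r hr hrD =>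
      geom_prime_dvd H.hp H.hq hr (hD ▸ hrD.mul_left n.u) fun e => hqD (e ▸ hrD)
    have hDodd : Odd D := (geom_odd (H.hp.odd_of_ne_two H.p_ne_two) (H.hq.odd_of_ne_two H.hq2)).of_dvd_nat
      (hD ▸ dvd_mul_left D n.u)
    have hpq : n.p * n.q ∣ D - 1 := Nat.Coprime.mul_dvd_of_dvd_of_dvd
      ((Nat.coprime_primes H.hp H.hq).mpr (by omega))
      ((Nat.modEq_iff_dvd' (by omega)).mp (by rw [Nat.ModEq, Nat.mod_eq_of_lt H.hp.one_lt, hDp]))
      ((Nat.modEq_iff_dvd' (by omega)).mp (by rw [Nat.ModEq, Nat.mod_eq_of_lt H.hq.one_lt, hDq]))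
    have h2 : Even (D - 1) := Nat.Odd.sub_odd hDodd odd_one
    have h4 : 2 * (n.p * n.q) ∣ D - 1 := Nat.Coprime.mul_dvd_of_dvd_of_dvd
      (Nat.coprime_two_left.mpr ((H.hp.odd_of_ne_two H.p_ne_two).mul (H.hq.odd_of_ne_two H.hq2)))
      (even_iff_two_dvd.mp h2) hpq
    have h5 := Nat.le_of_dvd (by omega) h4
    have h6 : (2 * (n.p * n.q) + 1) * (n.p - 1) ≤ (n.p * n.q - n.p) * n.q + (n.p - 1) :=
      le_trans (Nat.mul_le_mul_right _ (by omega)) hbound
    obtain ⟨p', hp'⟩ : ∃ p', n.p = p' + 1 := ⟨n.p - 1, by omega⟩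
    obtain ⟨q', hq'⟩ : ∃ q', n.q = q' + 1 := ⟨n.q - 1, by omega⟩
    rw [hp', hq', Nat.add_sub_cancel, mul_add_one (p' + 1) q', Nat.add_sub_cancel] at h6
    have a1 : q' + 1 ≤ 2 * p' := by omega
    have a2 : 1 ≤ (p' + 1) * (q' + 1) := Nat.mul_pos (by omega) (by omega)
    clear * - h6 a1 a2
    nlinarith [Nat.mul_le_mul_left ((p' + 1) * (q' + 1)) a1]

theorem stepB_small_q3 (hq : n.q = 3) (hp7 : 7 ≤ n.p) (hsmall : n.NL + n.NS + n.p ≤ n.p * n.q)
    (hNS : 0 < n.NS) : False := by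
  obtain ⟨k, hk⟩ := H.h_dvd
  have hh := H.h_eq
  have hu1 := H.u_gt
  have hum := H.u_mod
  have hNSe := H.NS_eq
  have hpow : geom n.p 3 = n.p ^ 2 + n.p + 1 := by simp [geom, Finset.sum_range_succ]; ring
  rw [hq] at hh hum hNSe hsmall
  have hko : Odd k := H.h_odd.of_dvd_nat (hk ▸ dvd_mul_left k n.u)
  have hk3 : k % 3 = 1 := by
    have h1 : (n.u * k) % 3 = 1 := by
      rw [← hk, hh, show n.p * 3 * n.NL + 1 = 1 + 3 * (n.p * n.NL) by ring, Nat.add_mul_mod_self_left]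
    rwa [Nat.mul_mod, hum, one_mul, Nat.mod_mod] at h1
  have hkp : ∀ c, c * n.u % n.p = 1 → k % n.p = c % n.p := fun c hc => by
    have h1 : (n.u * k) % n.p = 1 := by
      rw [← hk, hh, mul_assoc, Nat.mul_add_mod, Nat.mod_eq_of_lt H.hp.one_lt]
    calc k % n.p = (c * n.u) % n.p * (k % n.p) % n.p := by rw [hc, one_mul, Nat.mod_mod]
      _ = (c % n.p) * ((n.u * k) % n.p) % n.p := by rw [← Nat.mul_mod, ← Nat.mul_mod, mul_assoc]
      _ = c % n.p := by rw [h1, mul_one, Nat.mod_mod]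
  have huk : n.u * k ≤ 6 * n.p ^ 2 + 1 := by
    rw [← hk, hh]
    nlinarith
  have hD' : n.u * (n.NS * 3 + (n.p - 1)) = n.p ^ 3 - 1 := by
    rw [← hq] at hNSe ⊢
    rw [← hNSe]
    ring
  have hDle : n.NS * 3 + (n.p - 1) ≤ 7 * n.p - 1 := by omega
  rcases H.u_shape with ⟨D, hD⟩ | ⟨a, hao, ⟨t, ht⟩, hua⟩
  · rw [hq, hpow] at hD
    have hgm := geom_mul_pred (p := n.p) (q := 3) H.hp.one_le
    rw [hpow] at hgm
    have hDD : n.NS * 3 + (n.p - 1) = D * (n.p - 1) := by
      refine Nat.eq_of_mul_eq_mul_left (show 0 < n.u by omega) ?_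
      rw [hD', ← mul_assoc, ← hD]
      omega
    have hD8 : D ≤ 8 := by
      by_contra hgt
      have := Nat.mul_le_mul_right (n.p - 1) (show 9 ≤ D by omega)
      omega
    have hDodd : Odd D := (geom_odd (H.hp.odd_of_ne_two H.p_ne_two) (by decide : Odd 3)).of_dvd_nat
      (hpow ▸ hD ▸ dvd_mul_left D n.u)
    have hD1 : D ≠ 1 := fun e => by rw [e, one_mul] at hDD; omega
    have hD5 : D ≠ 5 := fun e => by
      have := geom_prime_dvd H.hp Nat.prime_three (r := 5) (by norm_num) (hpow ▸ hD ▸ e ▸ dvd_mul_left 5 n.u) (by norm_num)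
      omega
    have h37 : D = 3 ∨ D = 7 := by
      obtain ⟨i, rfl⟩ := hDodd
      omega
    have hDu : D * n.u % n.p = 1 := by
      rw [mul_comm, ← hD, show n.p ^ 2 + n.p + 1 = n.p * (n.p + 1) + 1 by ring, Nat.mul_add_mod,
        Nat.mod_eq_of_lt H.hp.one_lt]
    have hkD := hkp D hDu
    rw [Nat.mod_eq_of_lt (show D < n.p by
      rcases h37 with rfl | rfl
      · omega
      · rcases (show n.p = 7 ∨ 7 < n.p by omega) with e | e
        · rw [e, Nat.mul_comm] at hD; norm_num at hD; omega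
        · exact e)] at hkD
    have hke := Nat.div_add_mod k n.p
    rw [hkD] at hke
    obtain ⟨po, hpo⟩ := H.hp.odd_of_ne_two H.p_ne_two
    obtain ⟨ko, hko⟩ := hko
    rcases h37 with rfl | rfl
    · have hp3 : n.p % 3 = 1 := by
        have h3 : (n.p ^ 2 + n.p + 1) % 3 = 0 := by rw [hD]; simp
        rw [Nat.add_mod, Nat.add_mod (n.p ^ 2), Nat.pow_mod] at h3
        rcases (show n.p % 3 = 0 ∨ n.p % 3 = 1 ∨ n.p % 3 = 2 by omega) with e | e | e <;> rw [e] at h3 <;> omega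
      have hi : 4 ≤ k / n.p := by
        have h1 : (n.p * (k / n.p) + 3) % 3 = 1 := by rw [hke, hk3]
        rw [Nat.add_mod_right, Nat.mul_mod, hp3, one_mul, Nat.mod_mod] at h1
        by_contra hlt
        generalize k / n.p = i at h1 hlt hke
        have hcase : i = 1 := by clear * - h1 hlt; omega
        rw [hcase] at hke
        clear * - hke hko hpo
        omega
      have := Nat.mul_le_mul_left n.p hi
      have hk4 : 4 * n.p + 3 ≤ k := by omega
      have := Nat.mul_le_mul_left n.u hk4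
      nlinarith
    · have hk7 : 7 ≤ k := by omega
      have := Nat.mul_le_mul_left n.u hk7
      have hNLb : n.p + 1 ≤ 3 * n.NL := by
        by_contra hlt
        have := Nat.mul_le_mul_left n.p (show 3 * n.NL + 1 ≤ n.p + 1 by omega)
        nlinarith
      omega
  · rw [hq] at hua
    simp only [Nat.add_one_sub_one] at hua
    have hua' : n.u ∣ a ^ 2 := hua
    have ha0 : 0 < a := hao.pos
    obtain ⟨s, hs⟩ := hua'
    have hteven : Even t := by
      have h2 : Even (n.p - 1) := Nat.Odd.sub_odd (H.hp.odd_of_ne_two H.p_ne_two) odd_one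
      rw [ht] at h2
      exact (Nat.even_mul.mp h2).resolve_left (Nat.not_even_iff_odd.mpr hao)
    have hso : Odd s := hao.pow.of_dvd_nat (hs ▸ dvd_mul_left s n.u)
    obtain ⟨p', hp'⟩ : ∃ p', n.p = p' + 1 := ⟨n.p - 1, by omega⟩
    have htp : p' = a * t := by omega
    have hcub : n.p ^ 3 - 1 ≤ n.u * (7 * n.p - 1) := hD' ▸ Nat.mul_le_mul_left _ hDle
    rw [hp'] at hcub
    rw [show 7 * (p' + 1) - 1 = 7 * p' + 6 by omega,
      show (p' + 1) ^ 3 = p' ^ 3 + 3 * p' ^ 2 + 3 * p' + 1 by ring, Nat.add_sub_cancel] at hcub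
    have h16 : ∀ c, c * n.u ≤ p' ^ 2 → 12 ≤ c → False := fun c hc hc12 => by
      have h1 := Nat.mul_le_mul_right (7 * p' + 6) (le_trans (Nat.mul_le_mul_right n.u hc12) hc)
      have hp0 : 1 ≤ p' := by omega
      clear * - h1 hcub hp0
      nlinarith
    have ht2 : t = 2 := by
      obtain ⟨t', rfl⟩ := hteven
      by_contra hne
      have ht0 : t' ≠ 0 := fun e => by
        rw [e] at htp
        simp at htp
        omega
      refine h16 ((t' + t') * (t' + t')) ?_ (le_trans (by norm_num)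
        (Nat.mul_le_mul (show 4 ≤ t' + t' by omega) (show 4 ≤ t' + t' by omega)))
      rw [htp, show (a * (t' + t')) ^ 2 = (t' + t') * (t' + t') * a ^ 2 by ring, hs]
      exact Nat.mul_le_mul_left _ (Nat.le_mul_of_pos_right _ hso.pos)
    subst ht2
    have hs1 : s = 1 := by
      obtain ⟨s', rfl⟩ := hso
      by_contra hne
      refine h16 (4 * (2 * s' + 1)) (le_of_eq ?_) (by omega)
      rw [htp, show (a * 2) ^ 2 = 4 * a ^ 2 by ring, hs]
      ring
    rw [hs1, mul_one] at hs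
    have ha3 : a % 3 ≠ 0 := fun e => by
      rw [← hs, Nat.pow_mod, e] at hum
      simp at hum
    have hp3 : n.p % 3 = 2 := by
      have : n.p % 3 ≠ 0 := fun e => by
        have := (Nat.prime_dvd_prime_iff_eq Nat.prime_three H.hp).mp (Nat.dvd_of_mod_eq_zero e)
        omega
      omega
    have h4u : 4 * n.u % n.p = 1 := by
      rw [← hs]
      obtain ⟨b, hb⟩ : ∃ b, 4 * a ^ 2 = n.p * b + 1 :=
        ⟨2 * a - 1, by
          obtain ⟨a', rfl⟩ : ∃ a', a = a' + 1 := ⟨a - 1, by omega⟩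
          rw [hp', htp, show 2 * (a' + 1) - 1 = 2 * a' + 1 by omega]
          ring⟩
      rw [hb, Nat.mul_add_mod, Nat.mod_eq_of_lt H.hp.one_lt]
    have hk4 := hkp 4 h4u
    rw [Nat.mod_eq_of_lt (show 4 < n.p by omega)] at hk4
    have hke := Nat.div_add_mod k n.p
    rw [hk4] at hke
    have hi : 3 ≤ k / n.p := by
      by_contra hlt
      obtain ⟨ko, hko⟩ := hko
      obtain ⟨po, hpo⟩ := H.hp.odd_of_ne_two H.p_ne_two
      generalize k / n.p = i at hlt hke
      clear * - hlt hke hk3 hp3 hko hpo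
      rcases (show i = 0 ∨ i = 1 ∨ i = 2 by omega) with e | e | e <;> rw [e] at hke <;> omega
    have := Nat.mul_le_mul_left n.p hi
    have hk34 : 3 * n.p + 4 ≤ k := by omega
    have hu34 := Nat.mul_le_mul_left n.u hk34
    obtain ⟨ai, hai⟩ := hao
    have ha5 : 5 ≤ a := by omega
    subst htp
    rw [hp', ← hs] at huk hu34
    clear * - huk hu34 ha5
    nlinarith [Nat.mul_le_mul_left (a ^ 2) ha5, Nat.mul_le_mul_left a ha5]

/-- The situation `L`, `M` not conjugate of Step B. -/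
theorem stepB_apart (hne : n.u ≠ geom n.p n.q) (hNS : 0 < n.NS)
    (hsmall : n.NL + n.NS + n.p ≤ n.p * n.q) : False := by
  have hq3 := H.q_ge
  have hp5 := H.p_ge
  have hh := H.h_eq
  have hu_le : n.u ≤ n.h := Nat.le_of_dvd (by omega) H.h_dvd
  have hpow : 1 ≤ n.p ^ n.q := Nat.one_le_pow _ _ H.hp.pos
  have hstar : n.u ^ 2 + n.p * (n.p ^ n.q - 1) ≤ n.u * (n.p ^ 2 * (n.q ^ 2 - n.q + 1)) := by
    obtain ⟨p', hp'⟩ : ∃ p', n.p = p' + 1 := ⟨n.p - 1, by omega⟩
    obtain ⟨q', hq'⟩ : ∃ q', n.q = q' + 1 := ⟨n.q - 1, by omega⟩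
    have h' := H.NS_eq
    have hsq : n.q ^ 2 - n.q = q' * q' + q' := by
      rw [hq', show (q' + 1) ^ 2 = q' * q' + q' + (q' + 1) by ring, Nat.add_sub_cancel]
    rw [← h', hsq]
    rw [hp', Nat.add_sub_cancel, hq']
    rw [hp', hq'] at hh hsmall
    have h1 : n.NL + n.NS ≤ (p' + 1) * q' := by nlinarith
    have h2 : n.u + (p' + 1) * (q' + 1) * n.NS ≤ (p' + 1) * (q' + 1) * ((p' + 1) * q') + 1 := by
      have := Nat.mul_le_mul_left ((p' + 1) * (q' + 1)) h1
      nlinarith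
    have h3 := Nat.mul_le_mul_left n.u h2
    nlinarith
  have hamgm : 4 * (n.p * (n.p ^ n.q - 1)) ≤ (n.p ^ 2 * (n.q ^ 2 - n.q + 1)) ^ 2 := by
    generalize n.p ^ 2 * (n.q ^ 2 - n.q + 1) = S at hstar ⊢
    generalize n.p * (n.p ^ n.q - 1) = P at hstar ⊢
    have h' : (n.u : ℤ) ^ 2 + P ≤ n.u * S := by exact_mod_cast hstar
    have : 4 * (P : ℤ) ≤ (S : ℤ) ^ 2 := by nlinarith [sq_nonneg ((S : ℤ) - 2 * n.u)]
    exact_mod_cast this
  rcases prime_cases H.hq H.hq2 with hq | hq | hq7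
  · by_cases h7 : 7 ≤ n.p
    · exact stepB_small_q3 H hq h7 hsmall hNS
    · refine hne (H.five_three ?_ hq)
      rcases prime_cases H.hp H.p_ne_two with h | h | h <;> omega
  · rw [hq] at hamgm
    norm_num at hamgm
    have hp10 : n.p ≤ 10 := by
      by_contra hgt
      have h1 : 121 ≤ n.p ^ 2 := by nlinarith [show 11 ≤ n.p by omega]
      have h2 := Nat.mul_le_mul_left (n.p ^ 4) h1
      have h3 : n.p ^ 4 * n.p ^ 2 = n.p * n.p ^ 5 := by ring
      obtain ⟨X, hX⟩ : ∃ X, n.p ^ 5 = X + 1 := ⟨n.p ^ 5 - 1, by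
        have := Nat.one_le_pow 5 n.p H.hp.pos; omega⟩
      rw [hX, Nat.add_sub_cancel] at hamgm
      rw [hX] at h3
      nlinarith
    have hp7 : n.p = 7 := by
      rcases prime_cases H.hp H.p_ne_two with h | h | h
      · omega
      · omega
      · rcases (show n.p = 7 ∨ n.p = 8 ∨ n.p = 9 ∨ n.p = 10 by omega) with e | e | e | e
        · exact e
        all_goals exact absurd (e ▸ H.hp) (by norm_num)
    rw [hp7, hq] at hstar hne
    have hus := H.u_shape
    have hum := H.u_mod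
    have hu1 := H.u_gt
    rw [hp7, hq] at hus
    rw [hq] at hum
    rw [show geom 7 5 = 2801 by decide] at hus hne
    rcases hus with h | ⟨a, hao, ha, hua⟩
    · rcases (Nat.dvd_prime (by norm_num : (2801 : ℕ).Prime)).mp h with e | e <;> omega
    · have : a ≤ 6 := Nat.le_of_dvd (by norm_num) ha
      have hu81 : n.u ∣ 81 := by
        interval_cases a <;> simp_all [Nat.odd_iff]
      have : n.u ≤ 81 := Nat.le_of_dvd (by norm_num) hu81
      norm_num at hstar
      interval_cases hu : n.u <;> omega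
  · have h1 : n.p ^ 4 ≤ n.p ^ (n.q - 3) := Nat.pow_le_pow_right H.hp.pos (by omega)
    have h2 : n.p ^ 4 * n.p ^ (n.q - 3) = n.p * n.p ^ n.q := by
      rw [← pow_add, ← pow_succ']
      congr 1
      omega
    have h3 : n.q ^ 2 - n.q + 1 ≤ n.q ^ 2 := by
      have : n.q * 1 < n.q * n.q := Nat.mul_lt_mul_of_pos_left (by omega) (by omega)
      rw [sq]
      omega
    have h4 : (n.q ^ 2) ^ 2 < n.p ^ 4 := by
      rw [← pow_mul]
      exact Nat.pow_lt_pow_left H.hqp (by norm_num)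
    have h5 := Nat.pow_le_pow_left (Nat.mul_le_mul_left (n.p ^ 2) h3) 2
    have h6 : (n.p ^ 2 * n.q ^ 2) ^ 2 < n.p ^ 4 * n.p ^ 4 := by
      rw [mul_pow, ← pow_mul n.p 2 2]
      exact Nat.mul_lt_mul_of_pos_left h4 (pow_pos H.hp.pos _)
    have h7 : n.p ^ 4 * n.p ^ 4 ≤ n.p * n.p ^ n.q := h2 ▸ Nat.mul_le_mul_left _ h1
    obtain ⟨X, hX⟩ : ∃ X, n.p ^ n.q = X + 1 := ⟨n.p ^ n.q - 1, by omega⟩
    have hbig : 7 ≤ X := by
      have := Nat.le_self_pow H.hq.ne_zero n.p
      omega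
    rw [hX, Nat.add_sub_cancel] at hamgm
    rw [hX] at h7
    nlinarith

/-- Step B: `u` is full. -/
theorem stepB : n.u = geom n.p n.q := by
  by_contra hne
  have h3 := H.u_full.resolve_left hne
  have hv := H.full.resolve_left hne
  have hq3 := H.q_ge
  have hp5 := H.p_ge
  have hnot : ¬ (n.p = 5 ∧ n.q = 3) := fun h => hne (H.five_three h.1 h.2)
  have hq4 : n.q ≠ 4 := fun e => absurd (e ▸ H.hq) (by norm_num)
  have hpow := pow_le_two_mul hq3 hq4 hp5
  have hvge : n.q ^ (n.p - 1) + 1 ≤ n.v := by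
    have hsucc : n.p = n.p - 1 - 1 + 1 + 1 := by omega
    rw [hv, geom]
    conv_rhs => rw [hsucc]
    rw [Finset.sum_range_succ' , pow_zero]
    refine Nat.add_le_add_right ?_ 1
    refine le_trans (le_of_eq (by congr 1; omega)) (Finset.single_le_sum (f := fun i => n.q ^ (i + 1))
      (fun _ _ => Nat.zero_le _) (Finset.mem_range.mpr (Nat.lt_succ_self (n.p - 1 - 1))))
  have hvu : n.p * n.u < n.v := by
    have h1 : 2 * (n.p * n.u) ≤ 3 * n.u * (n.p - 1) := by
      obtain ⟨p', hp'⟩ : ∃ p', n.p = p' + 1 := ⟨n.p - 1, by omega⟩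
      rw [hp', Nat.add_sub_cancel]
      nlinarith
    omega
  have hpq2 : n.p ^ 2 * n.q ^ 2 + 1 < n.v := by
    rcases prime_cases H.hq H.hq2 with hq | hq | hq
    · have hp7 : 7 ≤ n.p := by
        rcases prime_cases H.hp H.p_ne_two with h | h | h <;> omega
      have := nine_sq_lt hp7
      rw [hq] at hvge ⊢
      nlinarith
    all_goals
      have h1 : n.p ^ 5 ≤ n.p ^ n.q := Nat.pow_le_pow_right H.hp.pos (by omega)
      have h2 : 2 * n.q ^ 2 < n.p ^ 3 := by
        have := Nat.mul_le_mul hp5 hp5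
        nlinarith
      have h3 := Nat.mul_lt_mul_of_pos_left h2 (pow_pos H.hp.pos 2)
      nlinarith
  have hNS : 0 < n.NS := by
    refine Nat.pos_of_ne_zero fun e => hne ?_
    have h' := H.NS_eq
    rw [e, zero_mul, zero_mul, zero_add] at h'
    have hg := geom_mul_pred (p := n.p) (q := n.q) H.hp.one_le
    exact Nat.eq_of_mul_eq_mul_right (show 0 < n.p - 1 by omega) (by omega)
  have heM : n.eM ≤ n.p * n.q := by
    rcases H.eM_eq with e | e <;> rw [e]
    exact Nat.le_mul_of_pos_right _ (by omega)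
  have hm := H.m_eq
  have hmv := H.m_ge
  have hcSM : n.cSM = 0 := by
    by_contra h0
    have h1 : n.NM * n.q + 1 ≤ n.u := by
      have h' := H.cSM_le
      have : (n.NM : ℤ) * n.q ≤ n.cSM ^ 2 * n.NM * n.q := by
        rw [mul_assoc]
        exact le_mul_of_one_le_left (by positivity) (one_le_sq h0)
      exact_mod_cast (show (n.NM : ℤ) * n.q + 1 ≤ n.u by linarith)
    have h2 := Nat.mul_le_mul_right n.NM heM
    nlinarith
  have hBM : Odd n.BM := by
    have := H.parSM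
    rwa [hcSM, add_zero] at this
  have hf := one_le_sq (odd_ne_zero (fval_odd (A := n.AM) (H.hq.odd_of_ne_two H.hq2) hBM))
  have hfN : (n.NS : ℤ) ≤ fval n.q n.AM n.BM ^ 2 * n.NS := by nlinarith
  obtain ⟨hg, -⟩ := grid_of_odd (p := n.p) (q := n.q) (A := n.AM) (by omega) (by omega) hBM
  have hnormM := H.normM
  have heMeq : n.eM = n.p * n.q := H.eM_eq.resolve_left fun e => by
    rw [e] at hnormM
    omega
  rw [heMeq] at hnormM
  push_cast at hnormM
  have hsmall : n.NS + n.p ≤ n.p * n.q := by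
    have : ((n.NS + n.p : ℕ) : ℤ) ≤ ((n.p * n.q : ℕ) : ℤ) := by push_cast; linarith
    exact_mod_cast this
  rcases H.cases with ⟨-, hc⟩ | ⟨hpar, hc1, hc2⟩
  · exact H.stepB_conj hNS hBM hv hsmall hc
  have hd' : n.d' = 0 := by
    by_contra h0
    have h1 := mul_le_mul_of_nonneg_right (one_le_sq h0) (Int.natCast_nonneg n.NM)
    have h3 : 0 ≤ fval n.q n.A n.B ^ 2 * (n.NS : ℤ) := by positivity
    have h4 := grid_nonneg (p := n.p) (q := n.q) (by omega) (by omega) n.A n.B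
    have h5 : n.NM + 1 ≤ n.p * n.q := by
      have : ((n.NM + 1 : ℕ) : ℤ) ≤ ((n.p * n.q : ℕ) : ℤ) := by push_cast at hc2 ⊢; linarith
      exact_mod_cast this
    have h6 := Nat.mul_le_mul_left n.eM h5
    rw [heMeq] at h6 hm
    nlinarith
  have hc' : Odd n.c' := by rwa [hd', add_zero] at hpar
  refine H.stepB_apart hne hNS ?_
  have h1 := mul_le_mul_of_nonneg_right (one_le_sq (odd_ne_zero hc')) (Int.natCast_nonneg n.NL)
  rw [heMeq] at hc1
  have : ((n.NL + n.NS + n.p : ℕ) : ℤ) ≤ ((n.p * n.q : ℕ) : ℤ) := by push_cast at hc1 ⊢; linarith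
  exact_mod_cast this

end Nums.Valid

end CfsgLib.OddOrder.S14
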